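import Cfsg.Agent.H87.U43.Setup
import Cfsg.Agent.H87.U43.SL2Facts

/-!
# U4(3) type: the action of `C(z)` on `H₁H₂`
-/

set_option autoImplicit false

namespace H87.U43

variable {G : Type*} [Group G] {z : G} {mu : SL2 × SL2 →* G}

theorem SgnEq.refl (k : SL2 × SL2) : SgnEq k k := Or.inl rfl

theorem Raw.mu_eq (R : Raw z mu) {p q : SL2 × SL2} : mu p = mu q ↔ SgnEq p q := by
  constructor
  · intro h
    have : mu (q⁻¹ * p) = 1 := by rw [map_mul, map_inv, h, inv_mul_cancel]
    rcases (R.ker _).mp this with e | e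
    · exact Or.inl (inv_mul_eq_one.mp e).symm
    · exact Or.inr (by rw [← e, mul_inv_cancel_left])
  · rintro (rfl | rfl)
    · rfl
    · rw [map_mul, (R.ker _).mpr (Or.inr rfl), mul_one]

theorem Raw.zz (R : Raw z mu) : z * z = 1 := by rw [← pow_two, ← R.ord, pow_orderOf_eq_one]

theorem Raw.z_ne (R : Raw z mu) : z ≠ 1 := fun h => by
  have := R.ord; rw [h, orderOf_one] at this; omega

theorem mem_qSub {x : G} : x ∈ qSub mu ↔ ∃ u v : SL2, u ^ 4 = 1 ∧ v ^ 4 = 1 ∧ mu (u, v) = x := by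
  constructor
  · rintro ⟨⟨u, v⟩, h, rfl⟩
    rw [SetLike.mem_coe, Subgroup.mem_prod] at h
    exact ⟨u, v, h.1, h.2, rfl⟩
  · rintro ⟨u, v, hu, hv, rfl⟩
    refine ⟨(u, v), ?_, rfl⟩
    rw [SetLike.mem_coe, Subgroup.mem_prod]
    exact ⟨hu, hv⟩

theorem Raw.z_memQ (R : Raw z mu) : z ∈ qSub mu :=
  mem_qSub.mpr ⟨sZ, 1, sZ_facts.2.2, one_pow 4, R.neg⟩

theorem Raw.comm_of_memQ (R : Raw z mu) {x : G} (h : x ∈ qSub mu) : x * z = z * x := by
  obtain ⟨u, v, _, _, rfl⟩ := mem_qSub.mp h
  exact R.comm _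

theorem Raw.mu_memQ (R : Raw z mu) {u v : SL2} (h : mu (u, v) ∈ qSub mu) :
    u ^ 4 = 1 ∧ v ^ 4 = 1 := by
  obtain ⟨a, b, ha, hb, e⟩ := mem_qSub.mp h
  rcases R.mu_eq.mp e.symm with h' | h'
  · rw [Prod.mk.injEq] at h'; rw [h'.1, h'.2]; exact ⟨ha, hb⟩
  · rw [Prod.mk_mul_mk, Prod.mk.injEq] at h'; rw [h'.1, h'.2]
    exact ⟨q8_mul _ _ ha sZ_facts.2.2, q8_mul _ _ hb sZ_facts.2.2⟩

theorem Raw.conj_memQ (R : Raw z mu) {g x : G} (hg : g * z = z * g) (hx : x ∈ qSub mu) :
    g * x * g⁻¹ ∈ qSub mu := by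
  obtain ⟨u, v, hu, hv, rfl⟩ := mem_qSub.mp hx
  obtain ⟨⟨a, b⟩, hk⟩ := R.normal g hg (u, v)
  have h4 : (mu (a, b)) ^ 4 = 1 := by
    rw [← hk, conj_pow, ← map_pow, Prod.pow_mk, hu, hv, Prod.mk_one_one, map_one, mul_one,
      mul_inv_cancel]
  rw [← map_pow, Prod.pow_mk] at h4
  rw [hk]
  refine mem_qSub.mpr ⟨a, b, sl_two_elt a ?_, sl_two_elt b ?_, rfl⟩
  · rw [show 8 = 4 * 2 from rfl, pow_mul]
    rcases (R.ker _).mp h4 with h' | h'
    · rw [Prod.mk_eq_one] at h'; rw [h'.1, one_pow]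
    · rw [Prod.mk.injEq] at h'; rw [h'.1, pow_two, sZ_facts.1]
  · rw [show 8 = 4 * 2 from rfl, pow_mul]
    rcases (R.ker _).mp h4 with h' | h'
    · rw [Prod.mk_eq_one] at h'; rw [h'.2, one_pow]
    · rw [Prod.mk.injEq] at h'; rw [h'.2, pow_two, sZ_facts.1]

theorem conj_one_conj {g x a : G} (h : g * x * g⁻¹ = a) : g⁻¹ * a * g = x := by
  rw [← h]; simp [mul_assoc]

/-- images of the elements of order three of one factor lie in one factor -/
theorem Raw.one_sided (R : Raw z mu) {g : G} (hg : g * z = z * g) (side : Bool) (u : SL2)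
    (h3 : u ^ 3 = 1) (h1 : u ≠ 1) :
    ∃ a : SL2, a ^ 3 = 1 ∧ a ≠ 1 ∧
      (g * mu (bif side then (1, u) else (u, 1)) * g⁻¹ = mu (a, 1) ∨
       g * mu (bif side then (1, u) else (u, 1)) * g⁻¹ = mu (1, a)) := by
  set e : SL2 × SL2 := bif side then (1, u) else (u, 1) with he
  set j : SL2 × SL2 := bif side then (sJ, 1) else (1, sJ) with hj
  have he3 : e ^ 3 = 1 := by
    cases side <;> simp [he, Prod.pow_mk, h3]
  have hej : e * j = j * e := by cases side <;> simp [he, hj]
  have hjQ : mu j ∈ qSub mu := by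
    have : sJ ^ 4 = 1 := by decide +kernel
    cases side <;> simp only [hj, cond_true, cond_false] <;>
      exact mem_qSub.mpr ⟨_, _, by simp [this], by simp [this], rfl⟩
  have hjne : ∀ w, (w = (1 : SL2 × SL2) ∨ w = (sZ, 1)) → mu j ≠ mu w := by
    intro w hw h
    rcases R.mu_eq.mp h with h' | h' <;> rcases hw with rfl | rfl <;> cases side <;>
      simp only [hj, cond_true, cond_false] at h' <;> revert h' <;> decide +kernel
  have hene : mu e ≠ 1 := by
    intro h
    rcases (R.ker _).mp h with h' | h' <;> cases side <;>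
      simp [he, Prod.ext_iff, sZ_facts.2.1.symm, h1] at h'
  obtain ⟨⟨a0, b0⟩, hk0⟩ := R.normal g hg e
  -- adjust the sign
  have hk3 : mu ((a0, b0) ^ 3) = 1 := by
    rw [map_pow, ← hk0, conj_pow, ← map_pow, he3, map_one, mul_one, mul_inv_cancel]
  obtain ⟨⟨a, b⟩, hk, hab3⟩ : ∃ k : SL2 × SL2, g * mu e * g⁻¹ = mu k ∧ k ^ 3 = 1 := by
    rcases (R.ker _).mp hk3 with h | h
    · exact ⟨_, hk0, h⟩
    · refine ⟨(a0, b0) * (sZ, sZ), ?_, ?_⟩
      · rw [map_mul, (R.ker (sZ, sZ)).mpr (Or.inr rfl), mul_one, hk0]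
      · have hc : Commute (a0, b0) ((sZ, sZ) : SL2 × SL2) :=
          Prod.ext (sZ_comm a0).symm (sZ_comm b0).symm
        rw [hc.mul_pow, h]; decide +kernel
  rw [Prod.pow_mk, Prod.mk_eq_one] at hab3
  obtain ⟨p, q, hp, hq, hpq⟩ := mem_qSub.mp (R.conj_memQ hg hjQ)
  have hcomm : mu ((a, b) * (p, q)) = mu ((p, q) * (a, b)) := by
    rw [map_mul, map_mul, hpq, ← hk]
    calc g * mu e * g⁻¹ * (g * mu j * g⁻¹) = g * (mu e * mu j) * g⁻¹ := by group
      _ = g * (mu j * mu e) * g⁻¹ := by rw [← map_mul, hej, map_mul]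
      _ = _ := by group
  rw [Prod.mk_mul_mk, Prod.mk_mul_mk] at hcomm
  have hap : (a * p * a⁻¹ = p ∨ a * p * a⁻¹ = sZ * p) ∧
      (b * q * b⁻¹ = q ∨ b * q * b⁻¹ = sZ * q) := by
    rcases R.mu_eq.mp hcomm with h | h
    · rw [Prod.mk.injEq] at h
      exact ⟨Or.inl (by rw [h.1, mul_inv_cancel_right]), Or.inl (by rw [h.2, mul_inv_cancel_right])⟩
    · rw [Prod.mk_mul_mk, Prod.mk.injEq] at h
      exact ⟨Or.inr (by rw [h.1, mul_assoc p a sZ, ← sZ_comm a, ← mul_assoc, ← sZ_comm p,
        mul_inv_cancel_right]), Or.inr (by rw [h.2, mul_assoc q b sZ, ← sZ_comm b, ← mul_assoc,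
        ← sZ_comm q, mul_inv_cancel_right])⟩
  by_cases ha : a = 1
  · refine ⟨b, hab3.2, fun hb => hene ?_, Or.inr (ha ▸ hk)⟩
    rw [ha, hb, Prod.mk_one_one, map_one, mul_inv_eq_one] at hk
    simpa using hk
  · by_cases hb : b = 1
    · exact ⟨a, hab3.1, ha, Or.inl (hb ▸ hk)⟩
    · exfalso
      have hp' := q8_fixed a p hab3.1 ha hp hap.1
      have hq' := q8_fixed b q hab3.2 hb hq hap.2
      have hcz : g * z * g⁻¹ = z := by rw [hg, mul_inv_cancel_right]
      have e4 : mu (p, q) = 1 ∨ mu (p, q) = z := by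
        rw [← R.neg]
        rcases hp' with rfl | rfl <;> rcases hq' with rfl | rfl
        · exact Or.inl (map_one mu)
        · exact Or.inr (R.mu_eq.mpr (Or.inr (by decide +kernel)))
        · exact Or.inr rfl
        · exact Or.inl ((R.ker _).mpr (Or.inr rfl))
      rw [hpq] at e4
      rcases e4 with e4 | e4
      · refine hjne 1 (Or.inl rfl) ?_
        rw [map_one]
        exact mul_left_cancel (mul_right_cancel (e4.trans (by group : (1 : G) = g * 1 * g⁻¹)))
      · refine hjne (sZ, 1) (Or.inr rfl) ?_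
        rw [R.neg]
        exact mul_left_cancel (mul_right_cancel (e4.trans hcz.symm))

/-- `g` acts on `H₁H₂` by the indicated automorphism -/
def Acts (mu : SL2 × SL2 →* G) (g : G) (sw : Bool) (k : SL2) (b : Bool) (k' : SL2) (b' : Bool) :
    Prop :=
  ∀ u v : SL2, g * mu (u, v) * g⁻¹ =
    mu (bif sw then (cj k' b' v, cj k b u) else (cj k b u, cj k' b' v))

theorem Raw.factor_hom (R : Raw z mu) {g : G} (hg : g * z = z * g) (side : Bool) :
    ∃ (out : Bool) (k : SL2) (b : Bool), ∀ u,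
      g * mu (bif side then (1, u) else (u, 1)) * g⁻¹ =
        mu (bif out then (1, cj k b u) else (cj k b u, 1)) := by
  let emb : Bool → SL2 →* SL2 × SL2 :=
    fun o => bif o then MonoidHom.inr SL2 SL2 else MonoidHom.inl SL2 SL2
  have hemb : ∀ o u, emb o u = bif o then ((1 : SL2), u) else (u, 1) := by
    intro o u; cases o <;> rfl
  simp only [← hemb]
  have inj : ∀ o, ∀ p q : SL2, mu (emb o p) = mu (emb o q) → p = q := by
    intro o p q h
    rcases R.mu_eq.mp h with h' | h' <;> cases o <;>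
      simp [emb, Prod.ext_iff, sZ_facts.2.1.symm] at h' <;> exact h'
  let f : SL2 →* G := (MulAut.conj g).toMonoidHom.comp (mu.comp (emb side))
  have fdef : ∀ u, f u = g * mu (emb side u) * g⁻¹ := fun u => rfl
  have finj : Function.Injective f := fun p q h =>
    inj side p q (mul_left_cancel (mul_right_cancel h))
  have crossc : ∀ p q : SL2, Commute (mu (p, 1)) (mu (1, q)) := fun p q => by
    show mu _ * mu _ = mu _ * mu _
    rw [← map_mul, ← map_mul]; simp
  have hne : sX ≠ 1 ∧ sY ≠ 1 ∧ sX * sY ≠ sY * sX := by decide +kernel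
  obtain ⟨a, _, _, ha⟩ := R.one_sided hg side sX aut_rel.1 hne.1
  obtain ⟨a', _, _, ha'⟩ := R.one_sided hg side sY sY_cube hne.2.1
  rw [← hemb, ← fdef] at ha ha'
  have nc : ¬ Commute (f sX) (f sY) := fun h => hne.2.2 (finj (by rw [map_mul, map_mul, h.eq]))
  obtain ⟨out, hX, hY⟩ : ∃ out, f sX ∈ (mu.comp (emb out)).range ∧
      f sY ∈ (mu.comp (emb out)).range := by
    rcases ha with h1 | h1 <;> rcases ha' with h2 | h2
    · exact ⟨false, ⟨a, h1.symm⟩, ⟨a', h2.symm⟩⟩
    · exact absurd (by rw [h1, h2]; exact crossc _ _) nc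
    · exact absurd (by rw [h1, h2]; exact (crossc _ _).symm) nc
    · exact ⟨true, ⟨a, h1.symm⟩, ⟨a', h2.symm⟩⟩
  have hr : ∀ u, f u ∈ (mu.comp (emb out)).range := by
    intro u
    obtain ⟨i, j, l, m, rfl⟩ := sl_gen_three u
    simp only [map_mul, map_pow]
    exact mul_mem (mul_mem (mul_mem (pow_mem hX _) (pow_mem hY _)) (pow_mem hX _)) (pow_mem hY _)
  choose σ hσ using hr
  have hσm : ∀ u v, σ (u * v) = σ u * σ v := fun u v => inj out _ _ (by
    have := hσ (u * v)
    simp only [MonoidHom.comp_apply] at this ⊢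
    rw [this, map_mul f, ← hσ u, ← hσ v, map_mul, map_mul]
    rfl)
  let S : SL2 →* SL2 := MonoidHom.mk' σ hσm
  have Sinj : Function.Injective S := fun p q h => finj (by
    rw [← hσ p, ← hσ q, show σ p = σ q from h])
  have hSZ : S sZ = sZ := by
    rcases sl_invol (S sZ) (by rw [← map_mul, sZ_facts.1, map_one]) with h | h
    · exact absurd (Sinj (h.trans (map_one S).symm)) sZ_facts.2.1
    · exact h
  obtain ⟨k, b, h1, h2⟩ := aut_cand (S sX) (S sJ) (by rw [← map_pow, aut_rel.1, map_one])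
    (fun h => hne.1 (Sinj (h.trans (map_one S).symm)))
    (by rw [← map_mul, aut_rel.2.1, hSZ]) (by rw [← map_mul, ← map_pow, aut_rel.2.2, map_one])
  refine ⟨out, k, b, fun u => ?_⟩
  let C : SL2 →* SL2 := MonoidHom.mk' (cj k b) (cj_mul k b)
  have : S u = C u := by
    obtain ⟨i, j, l, rfl⟩ := sl_gen u
    simp only [map_mul, map_pow, show C sX = S sX from h1, show C sJ = S sJ from h2]
  rw [← fdef, ← hσ u]
  show mu (emb out (S u)) = _
  rw [this]; rfl

theorem Raw.exists_acts (R : Raw z mu) {g : G} (hg : g * z = z * g) :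
    ∃ sw k b k' b', Acts mu g sw k b k' b' := by
  obtain ⟨o, k, b, h⟩ := R.factor_hom hg false
  obtain ⟨o', k', b', h'⟩ := R.factor_hom hg true
  simp only [cond_false] at h
  simp only [cond_true] at h'
  have key : o' = !o := by
    by_contra hc
    have hoo : o' = o := by cases o <;> cases o' <;> simp_all
    subst hoo
    -- the image of the second factor commutes with the image of the first
    have hcm : ∀ u v, SgnEq ((bif o' then ((1 : SL2), cj k b u) else (cj k b u, 1)) *
        (bif o' then ((1 : SL2), cj k' b' v) else (cj k' b' v, 1)))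
        ((bif o' then ((1 : SL2), cj k' b' v) else (cj k' b' v, 1)) *
        (bif o' then ((1 : SL2), cj k b u) else (cj k b u, 1))) := by
      intro u v
      rw [← R.mu_eq, map_mul, map_mul, ← h u, ← h' v]
      calc g * mu (u, 1) * g⁻¹ * (g * mu (1, v) * g⁻¹)
          = g * (mu (u, 1) * mu (1, v)) * g⁻¹ := by group
        _ = g * (mu (1, v) * mu (u, 1)) * g⁻¹ := by rw [← map_mul, ← map_mul]; simp
        _ = _ := by group
    have c1 : ∀ u v, cj k b u * cj k' b' v = cj k' b' v * cj k b u := by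
      intro u v
      rcases hcm u v with e | e <;> cases o' <;>
        simp [Prod.ext_iff, sZ_facts.2.1.symm] at e <;> exact e
    have hne : sX ≠ 1 ∧ sY ≠ 1 ∧ sX * sY ≠ sY * sX ∧ sX ^ 3 = 1 := by decide +kernel
    have inv_ : ∀ (l : SL2) (c : Bool) (w : SL2), cj l c w = 1 → w = 1 := by
      intro l c w e
      cases c <;> simp [cj] at e
      · exact e
      · rw [← dlt_dlt w, e, dlt_one]
    let Cd : SL2 →* SL2 := MonoidHom.mk' (cj k b) (cj_mul k b)
    let Cd' : SL2 →* SL2 := MonoidHom.mk' (cj k' b') (cj_mul k' b')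
    have nc : cj k b sX * cj k b sY ≠ cj k b sY * cj k b sX := by
      intro e
      have : Function.Injective Cd := (injective_iff_map_eq_one Cd).mpr fun w => inv_ k b w
      exact hne.2.2.1 (this (by rw [map_mul, map_mul]; exact e))
    have hq := no_common_cent (cj k b sX) (cj k b sY)
      (by rw [show cj k b sX = Cd sX from rfl, ← map_pow, hne.2.2.2, map_one])
      (fun e => hne.1 (inv_ _ _ _ e))
      (by rw [show cj k b sY = Cd sY from rfl, ← map_pow, sY_cube, map_one])
      (fun e => hne.2.1 (inv_ _ _ _ e)) nc (cj k' b' sX) (c1 _ _).symm (c1 _ _).symm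
    have e3 : (cj k' b' sX) ^ 3 = 1 := by
      rw [show cj k' b' sX = Cd' sX from rfl, ← map_pow, hne.2.2.2, map_one]
    rcases hq with e | e
    · exact hne.1 (inv_ _ _ _ e)
    · rw [e] at e3; revert e3; decide +kernel
  refine ⟨o, k, b, k', b', fun u v => ?_⟩
  rw [show (u, v) = ((u, 1) : SL2 × SL2) * (1, v) by simp, map_mul]
  calc g * (mu (u, 1) * mu (1, v)) * g⁻¹
      = g * mu (u, 1) * g⁻¹ * (g * mu (1, v) * g⁻¹) := by group
    _ = _ := by rw [h u, h' v, ← map_mul, key]; cases o <;> simp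

theorem acts_mu (k k' : SL2) : Acts mu (mu (k, k')) false k false k' false := fun u v => by
  rw [← map_inv, ← map_mul, ← map_mul]; rfl

theorem Acts.comp {g g' : G} {sw sw' : Bool} {k l k' l' : SL2} {b c b' c' : Bool}
    (h : Acts mu g sw k b k' b') (h' : Acts mu g' sw' l c l' c') :
    ∃ m m' : SL2, Acts mu (g * g') (sw != sw') m ((bif sw' then b' else b) != c) m'
      ((bif sw' then b else b') != c') := by
  refine ⟨(bif sw' then k' else k) * bif (bif sw' then b' else b) then dlt l else l,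
    (bif sw' then k else k') * bif (bif sw' then b else b') then dlt l' else l', fun u v => ?_⟩
  rw [show g * g' * mu (u, v) * (g * g')⁻¹ = g * (g' * mu (u, v) * g'⁻¹) * g⁻¹ by group, h' u v]
  cases sw' <;> simp only [cond_true, cond_false] <;> rw [h _ _] <;> cases sw <;>
    simp [cj_comp]

/-- inner action means membership in the range -/
theorem Raw.mem_range_of_acts (R : Raw z mu) {g : G} (hg : g * z = z * g) {k k' : SL2}
    (h : Acts mu g false k false k' false) : g ∈ mu.range := by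
  have hk : mu (k, k') * z = z * mu (k, k') := R.comm _
  have hq : (mu (k, k'))⁻¹ * g ∈ qSub mu := by
    refine R.self_cent _ ?_ fun x hx => ?_
    · have hc : Commute (mu (k, k'))⁻¹ z := (Commute.inv_left hk)
      exact (hc.mul_left hg)
    · obtain ⟨u, v, _, _, rfl⟩ := mem_qSub.mp hx
      have e := h u v
      rw [← acts_mu (mu := mu) k k' u v] at e
      rw [mul_inv_eq_iff_eq_mul] at e
      simp only [mul_assoc, inv_mul_cancel_left] at e ⊢
      rw [eq_inv_mul_iff_mul_eq, ← e]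
  obtain ⟨u, v, _, _, e⟩ := mem_qSub.mp hq
  exact ⟨(k, k') * (u, v), by rw [map_mul, e, mul_inv_cancel_left]⟩

theorem Raw.acts_range (R : Raw z mu) {g : G} (hg : g ∈ mu.range) {k k' : SL2} {sw b b' : Bool}
    (h : Acts mu g sw k b k' b') : sw = false ∧ b = false ∧ b' = false := by
  obtain ⟨⟨l, l'⟩, rfl⟩ := hg
  have hX := h sX 1
  rw [acts_mu (mu := mu) l l' sX 1, R.mu_eq] at hX
  cases sw
  · refine ⟨rfl, ?_, ?_⟩
    · have key : ∀ u, cj l false u = cj k b u := by
        intro u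
        have := h u 1
        rw [acts_mu (mu := mu) l l' u 1, R.mu_eq] at this
        have one : ∀ (m : SL2) (c : Bool), cj m c 1 = 1 := fun m c => by
          cases c <;> simp [cj, dlt_one]
        simp [SgnEq, one, Prod.ext_iff, sZ_facts.2.1.symm] at this
        exact this
      exact (cj_bool_eq l k false b (key sX) (key sJ)).symm
    · have key : ∀ u, cj l' false u = cj k' b' u := by
        intro u
        have := h 1 u
        rw [acts_mu (mu := mu) l l' 1 u, R.mu_eq] at this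
        have one : ∀ (m : SL2) (c : Bool), cj m c 1 = 1 := fun m c => by
          cases c <;> simp [cj, dlt_one]
        simp [SgnEq, one, Prod.ext_iff, sZ_facts.2.1.symm] at this
        exact this
      exact (cj_bool_eq l' k' false b' (key sX) (key sJ)).symm
  · exfalso
    have one : ∀ (m : SL2) (c : Bool), cj m c 1 = 1 := fun m c => by
      cases c <;> simp [cj, dlt_one]
    simp [SgnEq, one, Prod.ext_iff, sZ_facts.2.1.symm] at hX
    have hl : ∀ w : SL2, cj w false sX ≠ 1 ∧ cj w false sX ≠ sZ := by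
      refine sl_forall ?_
      decide +kernel
    rcases hX with ⟨e, _⟩ | ⟨e, _⟩
    · exact (hl l).1 e
    · exact (hl l).2 e

theorem Raw.acts_unique (R : Raw z mu) {x : G} {sw sw2 b b' c c' : Bool} {k k' l l' : SL2}
    (h : Acts mu x sw k b k' b') (h' : Acts mu x sw2 l c l' c') : sw = sw2 ∧ b = c := by
  have one : ∀ (m : SL2) (e : Bool), cj m e 1 = 1 := fun m e => by
    cases e <;> simp [cj, dlt_one]
  have key : ∀ u, SgnEq (bif sw then (cj k' b' 1, cj k b u) else (cj k b u, cj k' b' 1))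
      (bif sw2 then (cj l' c' 1, cj l c u) else (cj l c u, cj l' c' 1)) := fun u =>
    R.mu_eq.mp ((h u 1).symm.trans (h' u 1))
  have hne : ∀ (m : SL2) (e : Bool), cj m e sX ≠ 1 ∧ cj m e sX ≠ sZ := by
    refine sl_forall ?_
    decide +kernel
  have hs : sw = sw2 := by
    by_contra hc
    have := key sX
    cases sw <;> cases sw2 <;>
      simp [SgnEq, one, Prod.ext_iff, (hne k b).1, (hne k b).2, (hne l c).1] at this hc ⊢
  subst hs
  refine ⟨rfl, cj_bool_eq k l b c ?_ ?_⟩
  · have := key sX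
    cases sw <;> simp [SgnEq, one, Prod.ext_iff, sZ_facts.2.1.symm] at this <;> exact this
  · have := key sJ
    cases sw <;> simp [SgnEq, one, Prod.ext_iff, sZ_facts.2.1.symm] at this <;> exact this

end H87.U43
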