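import Cfsg.Agent.H87.U43.SL2Facts

/-!
# U4(3) type: coordinate model of `C(z)`

An element is `(k, a, b)` standing for `μ k * s^a * τ^b`; `bs bt bc` are the bits in
`s*s = z^bs`, `τ*τ = z^bt`, `τ*s = s*τ*z^bc`.
-/

set_option autoImplicit false
set_option maxRecDepth 100000

namespace H87.U43

abbrev HEl := (SL2 × SL2) × Bool × Bool

/-- conjugation by `s^a * τ^b` -/
def hAct (a b : Bool) (k : SL2 × SL2) : SL2 × SL2 :=
  let k1 := bif b then (dlt k.1, dlt k.2) else k
  bif a then (k1.2, k1.1) else k1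

/-- multiplication -/
def hMul (bs bt bc : Bool) (x y : HEl) : HEl :=
  let e : Bool := ((x.2.2 && y.2.1) && bc) != (((x.2.1 && y.2.1) && bs) != ((x.2.2 && y.2.2) && bt))
  ((x.1 * hAct x.2.1 x.2.2 y.1) * (bif e then (sZ, 1) else 1), x.2.1 != y.2.1, x.2.2 != y.2.2)

/-- equality in the group -/
def HEq' (x y : HEl) : Prop := SgnEq x.1 y.1 ∧ x.2 = y.2

instance (x y : HEl) : Decidable (HEq' x y) := inferInstanceAs (Decidable (_ ∧ _))

/-- representatives of `⟨z, t⟩` -/
def vList (i : Fin 4) : HEl := (![1, (sZ, 1), (sJ, sJ), (sZ * sJ, sJ)] i, false, false)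

/-- image under an element interchanging `z` and `t` -/
def vSwap (i : Fin 4) : Fin 4 := ![0, 2, 1, 3] i

/-- representatives of the centraliser of `t` modulo `⟨z, t⟩` -/
def cRep (i : Fin 2 × Fin 2 × Bool × Bool) : HEl :=
  ((sJ ^ i.1.val * sI ^ i.2.1.val, sI ^ i.2.1.val), i.2.2.1, i.2.2.2)

def aEl : HEl := ((sJ, 1), false, false)
def mEl : HEl := ((sI, sI), false, false)

/-- `x y = c y x` in the model -/
def CommIs (bs bt bc : Bool) (c x y : HEl) : Prop :=
  HEq' (hMul bs bt bc x y) (hMul bs bt bc c (hMul bs bt bc y x))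

instance (bs bt bc : Bool) (c x y : HEl) : Decidable (CommIs bs bt bc c x y) :=
  inferInstanceAs (Decidable (HEq' _ _))

/-- equivariance of commutators for the swapping element -/
def Equi (bs bt bc : Bool) (x y gx gy : HEl) : Prop :=
  ∀ i : Fin 4, CommIs bs bt bc (vList i) x y ↔ CommIs bs bt bc (vList (vSwap i)) gx gy

instance (bs bt bc : Bool) (x y gx gy : HEl) : Decidable (Equi bs bt bc x y gx gy) :=
  inferInstanceAs (Decidable (∀ _ : Fin 4, _))

set_option synthInstance.maxHeartbeats 200000 in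
set_option synthInstance.maxSize 2000 in
/-- only one choice of the three bits is compatible with the fusion of `z` and `t` -/
theorem bits_certificate : ∀ bs bt bc : Bool, ∀ wa : Fin 2 × Fin 2 × Bool × Bool,
    (cRep wa).2 ≠ (false, false) →
    HEq' (hMul bs bt bc (cRep wa) (cRep wa)) (vList 2) →
    ∀ wm : Fin 2 × Fin 2 × Bool × Bool, (cRep wm).2 ≠ (false, false) →
    (cRep wm).2 ≠ (cRep wa).2 →
    HEq' (hMul bs bt bc (cRep wm) (cRep wm)) (vList 0) →
    CommIs bs bt bc (vList 2) (cRep wa) (cRep wm) →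
    ∀ ba : Fin 2 × Fin 2, HEq' (hMul bs bt bc (cRep (ba.1, ba.2, false, false))
      (cRep (ba.1, ba.2, false, false))) (vList 1) →
    ∀ bm : Fin 2 × Fin 2, HEq' (hMul bs bt bc (cRep (bm.1, bm.2, false, false))
      (cRep (bm.1, bm.2, false, false))) (vList 0) →
    CommIs bs bt bc (vList 1) (cRep (ba.1, ba.2, false, false)) (cRep (bm.1, bm.2, false, false)) →
    Equi bs bt bc aEl (cRep wa) (cRep wa) (cRep (ba.1, ba.2, false, false)) →
    Equi bs bt bc aEl (cRep wm) (cRep wa) (cRep (bm.1, bm.2, false, false)) →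
    Equi bs bt bc mEl (cRep wa) (cRep wm) (cRep (ba.1, ba.2, false, false)) →
    Equi bs bt bc mEl (cRep wm) (cRep wm) (cRep (bm.1, bm.2, false, false)) →
    bs = false ∧ bt = true ∧ bc = true := by
  decide +kernel

set_option synthInstance.maxHeartbeats 200000 in
set_option synthInstance.maxSize 2000 in
/-- the centraliser of `t` inside `H₁H₂` -/
theorem t_cent_cover : ∀ u v : SL2, SgnEq ((u, v) * (sJ, sJ)) ((sJ, sJ) * (u, v)) →
    ∃ i : Fin 2 × Fin 2, ∃ j : Fin 4,
      SgnEq (u, v) ((vList j).1 * (cRep (i.1, i.2, false, false)).1) := by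
  refine sl_forall fun a b c d h => sl_forall fun a' b' c' d' h' => ?_
  revert a b c d h a' b' c' d' h'
  decide +kernel

end H87.U43
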