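import Cfsg.Agent.H87.U43.Swap
import Cfsg.Agent.H87.U43.Model

/-!
# U4(3) type: the structure of `C(z)`
-/

set_option autoImplicit false

namespace H87.U43

variable {G : Type*} [Group G] {z : G} {mu : SL2 × SL2 →* G}

/-- evaluation of the model -/
def hEv (mu : SL2 × SL2 →* G) (s tau : G) (x : HEl) : G :=
  mu x.1 * (bif x.2.1 then s else 1) * (bif x.2.2 then tau else 1)

/-- the centraliser of `z` in coordinates -/
structure Coord (z : G) (mu : SL2 × SL2 →* G) (s tau : G) : Prop where
  raw : Raw z mu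
  s_comm : s * z = z * s
  tau_comm : tau * z = z * tau
  s_mu : ∀ u v : SL2, s * mu (u, v) * s⁻¹ = mu (v, u)
  tau_mu : ∀ u v : SL2, tau * mu (u, v) * tau⁻¹ = mu (dlt u, dlt v)
  s_sq : s * s = 1
  tau_sq : tau * tau = z
  tau_s : tau * s = s * tau * z

/-- a central element of `K` in `{1, z}` -/
theorem Raw.central_cases (R : Raw z mu) {x : G} (hx : x * z = z * x)
    (hc : ∀ u v : SL2, x * mu (u, v) * x⁻¹ = mu (u, v)) :
    x = 1 ∨ x = z := by
  have hq : x ∈ qSub mu := R.self_cent x hx fun y hy => by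
    obtain ⟨u, v, _, _, rfl⟩ := mem_qSub.mp hy
    exact (mul_inv_eq_iff_eq_mul.mp (hc u v)).symm
  obtain ⟨a, b, _, _, rfl⟩ := mem_qSub.mp hq
  have comm : ∀ u v : SL2, a * u = u * a ∧ b * v = v * b := by
    intro u v
    have h1 := hc u 1
    have h2 := hc 1 v
    rw [mul_inv_eq_iff_eq_mul, ← map_mul, ← map_mul, R.mu_eq] at h1 h2
    simp [SgnEq, Prod.ext_iff, sZ_facts.2.1.symm, sZ_facts.2.1] at h1 h2
    exact ⟨h1, h2⟩
  have ha := sl_center a (comm sX sX).1 (comm sJ sJ).1
  have hb := sl_center b (comm sX sX).2 (comm sJ sJ).2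
  have h10 : mu (sZ, sZ) = 1 := (R.ker _).mpr (Or.inr rfl)
  have h01 : mu ((1 : SL2), sZ) = z := R.neg ▸ R.mu_eq.mpr (Or.inr (by decide +kernel))
  rcases ha with rfl | rfl <;> rcases hb with rfl | rfl <;>
    simp [h10, h01, R.neg, R.z_ne, Prod.mk_one_one]

theorem Raw.z_comm_mu (R : Raw z mu) (k : SL2 × SL2) : Commute z (mu k) := (R.comm k).symm

theorem Raw.not_range (R : Raw z mu) {x : G} {sw b b' : Bool} {k k' : SL2}
    (h : Acts mu x sw k b k' b') (hne : sw = true ∨ b = true) : x ∉ mu.range := by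
  intro hx
  obtain ⟨h1, h2, _⟩ := R.acts_range hx h
  rcases hne with e | e <;> simp_all

set_option maxHeartbeats 2000000 in
/-- bit version of the coordinates -/
theorem Raw.exists_coord [Finite G] (R : Raw z mu) : ∃ s tau : G, Coord z mu s tau := by
  classical
  obtain ⟨s, tau, hs, ht, hsm, htm⟩ := R.exists_reps
  have cj1 : ∀ (b : Bool) (u : SL2), cj 1 b u = bif b then dlt u else u := fun b u => by
    cases b <;> simp [cj]
  have As : Acts mu s true 1 false 1 false := fun u v => by simpa [cj] using hsm u v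
  have At : Acts mu tau false 1 true 1 true := fun u v => by simpa [cj] using htm u v
  have fix2 : ∀ {x : G}, (∀ u v, x * mu (u, v) * x⁻¹ = mu (v, u)) →
      ∀ u v, x * x * mu (u, v) * (x * x)⁻¹ = mu (u, v) := fun {x} h u v => by
    rw [show x * x * mu (u, v) * (x * x)⁻¹ = x * (x * mu (u, v) * x⁻¹) * x⁻¹ by group, h, h]
  have hss := R.central_cases (x := s * s) (Commute.mul_left hs hs) (fix2 hsm)
  have htt := R.central_cases (x := tau * tau) (Commute.mul_left ht ht) (fun u v => by
    rw [show tau * tau * mu (u, v) * (tau * tau)⁻¹ = tau * (tau * mu (u, v) * tau⁻¹) * tau⁻¹ by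
      group, htm, htm, dlt_dlt, dlt_dlt])
  have hts := R.central_cases (x := (s * tau)⁻¹ * (tau * s))
    ((Commute.mul_left hs ht).inv_left.mul_left (Commute.mul_left ht hs)) (fun u v => by
    have e1 : tau * s * mu (u, v) * (tau * s)⁻¹ = mu (dlt v, dlt u) := by
      rw [show tau * s * mu (u, v) * (tau * s)⁻¹ = tau * (s * mu (u, v) * s⁻¹) * tau⁻¹ by group,
        hsm, htm]
    have e2 : s * tau * mu (u, v) * (s * tau)⁻¹ = mu (dlt v, dlt u) := by
      rw [show s * tau * mu (u, v) * (s * tau)⁻¹ = s * (tau * mu (u, v) * tau⁻¹) * s⁻¹ by group,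
        htm, hsm]
    calc _ = (s * tau)⁻¹ * (tau * s * mu (u, v) * (tau * s)⁻¹) * (s * tau) := by group
      _ = _ := by rw [e1, ← e2]; group)
  set bs : Bool := decide (s * s ≠ 1) with hbs
  set bt : Bool := decide (tau * tau ≠ 1) with hbt
  set bc : Bool := decide ((s * tau)⁻¹ * (tau * s) ≠ 1) with hbc
  have zp : ∀ {y : G}, (y = 1 ∨ y = z) → y = bif decide (y ≠ 1) then z else 1 := by
    rintro y (rfl | rfl) <;> simp [R.z_ne]
  have es := zp hss
  have et := zp htt
  have ec : tau * s = s * tau * (bif bc then z else 1) := by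
    rw [hbc, ← zp hts, mul_inv_cancel_left]
  rw [← hbs] at es
  rw [← hbt] at et
  -- evaluation
  let ev := hEv mu s tau
  have ev_def : ∀ k a b, ev (k, a, b) = mu k * (bif a then s else 1) * (bif b then tau else 1) :=
    fun _ _ _ => rfl
  have conjS : ∀ k : SL2 × SL2, s * mu k = mu (k.2, k.1) * s := fun k =>
    mul_inv_eq_iff_eq_mul.mp (hsm k.1 k.2)
  have conjT : ∀ k : SL2 × SL2, tau * mu k = mu (dlt k.1, dlt k.2) * tau := fun k =>
    mul_inv_eq_iff_eq_mul.mp (htm k.1 k.2)
  have push : ∀ (a b : Bool) (k : SL2 × SL2),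
      (bif a then s else 1) * (bif b then tau else 1) * mu k =
        mu (hAct a b k) * ((bif a then s else 1) * (bif b then tau else 1)) := by
    intro a b k
    cases a <;> cases b <;> simp [hAct, conjS, conjT]
    · rw [mul_assoc, conjT, ← mul_assoc, conjS, mul_assoc]
  have zmu : ∀ (e : Bool), (bif e then z else 1) = mu (bif e then (sZ, 1) else 1) := fun e => by
    cases e <;> simp [R.neg]
  have tail : ∀ a b c d : Bool,
      (bif a then s else 1) * (bif b then tau else 1) * ((bif c then s else 1) *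
        (bif d then tau else 1)) =
      (bif ((b && c && bc) != ((a && c && bs) != (b && d && bt))) then z else 1) *
        ((bif (a != c) then s else 1) * (bif (b != d) then tau else 1)) := by
    intro a b c d
    let P : Bool → G := fun e => bif e then z else 1
    let S : Bool → G := fun e => bif e then s else 1
    let T : Bool → G := fun e => bif e then tau else 1
    have czs : ∀ e f, Commute (P e) (S f) := fun e f => by
      cases e <;> cases f <;> simp [P, S, Commute, SemiconjBy, hs]
    have czt : ∀ e f, Commute (P e) (T f) := fun e f => by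
      cases e <;> cases f <;> simp [P, T, Commute, SemiconjBy, ht]
    have zz : ∀ e f, P (e != f) = P e * P f := fun e f => by
      cases e <;> cases f <;> simp [P, R.zz]
    have hS : S a * S c = P (a && c && bs) * S (a != c) := by
      cases a <;> cases c <;> simp [P, S, es]
    have hT : T b * T d = P (b && d && bt) * T (b != d) := by
      cases b <;> cases d <;> simp [P, T, et]
    have hTS : T b * S c = P (b && c && bc) * (S c * T b) := by
      cases b <;> cases c <;> simp [P, S, T]
      rw [ec]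
      cases bc <;> simp [mul_assoc, hs, ht]
      rw [← mul_assoc z, ← hs, mul_assoc]
    show S a * T b * (S c * T d) =
      P ((b && c && bc) != ((a && c && bs) != (b && d && bt))) * (S (a != c) * T (b != d))
    calc S a * T b * (S c * T d) = S a * (T b * S c) * T d := by simp only [mul_assoc]
      _ = P (b && c && bc) * (S a * S c) * (T b * T d) := by
          rw [hTS, ← mul_assoc (S a), ← (czs _ a).eq]; simp only [mul_assoc]
      _ = _ := by
          rw [hS, hT, zz, zz]
          simp only [mul_assoc]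
          congr 2
          rw [← mul_assoc, ← (czs _ _).eq, mul_assoc]
  have ev_mul : ∀ x y : HEl, ev (hMul bs bt bc x y) = ev x * ev y := by
    rintro ⟨k, a, b⟩ ⟨l, c, d⟩
    simp only [hMul, ev_def, map_mul, ← zmu]
    rw [show mu k * (bif a then s else 1) * (bif b then tau else 1) *
        (mu l * (bif c then s else 1) * (bif d then tau else 1)) =
        mu k * ((bif a then s else 1) * (bif b then tau else 1) * mu l) *
          ((bif c then s else 1) * (bif d then tau else 1)) by simp only [mul_assoc], push]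
    simp only [mul_assoc]
    congr 2
    rw [← mul_assoc (bif a then s else 1), tail]
  have ev_eq : ∀ x y : HEl, ev x = ev y ↔ HEq' x y := by
    rintro ⟨k, a, b⟩ ⟨l, c, d⟩
    constructor
    · intro h
      simp only [ev_def, mul_assoc] at h
      have hr : ∀ a b c d : Bool, ∀ m : G, m ∈ mu.range →
          (bif a then s else 1) * (bif b then tau else 1) =
            m * ((bif c then s else 1) * (bif d then tau else 1)) → (a, b) = (c, d) := by
        intro a b c d m hm e
        have hE : ∀ a b : Bool, ∃ p p' : SL2,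
            Acts mu ((bif a then s else 1) * (bif b then tau else 1)) a p b p' b := by
          intro a b
          have A1 : Acts mu (1 : G) false 1 false 1 false := by
            have := acts_mu (mu := mu) 1 1
            rwa [Prod.mk_one_one, map_one] at this
          cases a <;> cases b
          · exact ⟨1, 1, by simpa using A1⟩
          · exact ⟨1, 1, by simpa using At⟩
          · exact ⟨1, 1, by simpa using As⟩
          · obtain ⟨p, p', A⟩ := As.comp At
            exact ⟨p, p', by simpa using A⟩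
        obtain ⟨⟨k1, k2⟩, rfl⟩ := hm
        obtain ⟨p, p', A⟩ := hE a b
        obtain ⟨q, q', B⟩ := hE c d
        obtain ⟨r, r', B'⟩ := (acts_mu (mu := mu) k1 k2).comp B
        rw [← e] at B'
        obtain ⟨e1, e2⟩ := R.acts_unique A B'
        clear B' A B e hE
        revert e1 e2
        cases a <;> cases b <;> cases c <;> cases d <;> simp
      have := hr a b c d ((mu k)⁻¹ * mu l) (mul_mem (inv_mem ⟨k, rfl⟩) ⟨l, rfl⟩)
        (by rw [mul_assoc, ← h, inv_mul_cancel_left])
      obtain ⟨rfl, rfl⟩ := Prod.mk.inj this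
      exact ⟨R.mu_eq.mp (mul_right_cancel h), rfl⟩
    · rintro ⟨h1, h2⟩
      obtain ⟨rfl, rfl⟩ := Prod.mk.inj h2
      simp only [ev_def]
      rw [R.mu_eq.mpr h1]
  -- the bits
  obtain ⟨g, hg1, hg2⟩ := R.exists_swap
  have evV : ∀ i, ev (vList i) = ![1, z, tInv mu, tInv mu * z] i := by
    intro i
    fin_cases i <;> simp [vList, ev_def, R.neg, tInv]
    rw [← R.neg, ← map_mul]
    exact R.mu_eq.mpr (Or.inl (by decide +kernel))
  have evSwap : ∀ i, ev (vList (vSwap i)) = g * ev (vList i) * g⁻¹ := by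
    intro i
    rw [evV, evV]
    fin_cases i <;> simp [vSwap, hg1, hg2]
    rw [show g * (tInv mu * z) * g⁻¹ = (g * tInv mu * g⁻¹) * (g * z * g⁻¹) by group, hg1, hg2]
    exact R.comm _
  -- representatives of elements centralising `z` and `t`
  have repr : ∀ x : G, x * z = z * x → x * tInv mu = tInv mu * x →
      ∃ (i : Fin 2 × Fin 2 × Bool × Bool) (j : Fin 4), x = ev (vList j) * ev (cRep i) := by
    intro x hx hxt
    obtain ⟨k, a, b, rfl⟩ : ∃ k a b, x = ev (k, a, b) := by
      have hcard : Nat.card ↥mu.range = 288 := by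
        have h1 := Subgroup.card_eq_card_quotient_mul_card_subgroup mu.ker
        rw [Nat.card_congr (QuotientGroup.quotientKerEquivRange mu).toEquiv, Nat.card_prod,
          sl_card] at h1
        have h2 : Nat.card ↥mu.ker = 2 := by
          have : (mu.ker : Set (SL2 × SL2)) = {1, (sZ, sZ)} := by
            ext y; simp [MonoidHom.mem_ker, R.ker y]
          show Nat.card (mu.ker : Set (SL2 × SL2)) = 2
          rw [this, Nat.card_coe_set_eq, Set.ncard_pair]
          decide +kernel
        rw [h2] at h1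
        omega
      let C := Subgroup.centralizer ({z} : Set G)
      have hev : ∀ (m : ↥mu.range) (a b : Bool),
          (m : G) * (bif a then s else 1) * (bif b then tau else 1) ∈ C := by
        intro m a b
        obtain ⟨q, hq⟩ := m.2
        rw [← hq, mem_cent_single]
        have h1 : Commute (bif a then s else 1) z := by cases a <;> simp [Commute, SemiconjBy, hs]
        have h2 : Commute (bif b then tau else 1) z := by cases b <;> simp [Commute, SemiconjBy, ht]
        exact ((Commute.mul_left (R.comm q) h1).mul_left h2).eq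
      let f : ↥mu.range × Bool × Bool → ↥C := fun p => ⟨_, hev p.1 p.2.1 p.2.2⟩
      have finj : Function.Injective f := by
        rintro ⟨⟨m, ⟨q, rfl⟩⟩, a, b⟩ ⟨⟨m', ⟨q', rfl⟩⟩, a', b'⟩ h
        obtain ⟨h1, h2⟩ := (ev_eq (q, a, b) (q', a', b')).mp (congrArg Subtype.val h)
        obtain ⟨rfl, rfl⟩ := Prod.mk.inj h2
        exact Prod.ext (Subtype.ext (R.mu_eq.mpr h1)) rfl
      have fbij := (Nat.bijective_iff_injective_and_card f).mpr ⟨finj, by
        rw [R.card_cent, Nat.card_prod, Nat.card_prod, hcard]; simp⟩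
      obtain ⟨⟨⟨m, ⟨q, rfl⟩⟩, a, b⟩, hp⟩ := fbij.2 ⟨x, mem_cent_single.mpr hx⟩
      exact ⟨q, a, b, (congrArg Subtype.val hp).symm⟩
    have ct : ∀ a b : Bool, Commute ((bif a then s else 1) * (bif b then tau else 1)) (tInv mu) := by
      intro a b
      show _ * _ = _ * _
      rw [tInv, push]
      congr 1
      cases a <;> cases b <;> exact R.mu_eq.mpr (by decide +kernel)
    simp only [ev_def] at hxt
    have hk : mu k * tInv mu = tInv mu * mu k := by
      rw [mul_assoc, mul_assoc, ← mul_assoc (bif a then s else 1), (ct a b).eq] at hxt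
      simp only [← mul_assoc] at hxt
      exact mul_right_cancel (mul_right_cancel hxt)
    rw [tInv, ← map_mul, ← map_mul, R.mu_eq] at hk
    obtain ⟨i, j, hij⟩ := t_cent_cover k.1 k.2 hk
    refine ⟨(i.1, i.2, a, b), j, ?_⟩
    simp only [ev_def, vList, cRep, cond_false, mul_one] at hij ⊢
    rw [R.mu_eq.mpr hij, map_mul]
    simp [mul_assoc]
  -- V is central among them
  have vcent : ∀ (j : Fin 4) (x : G), x * z = z * x → x * tInv mu = tInv mu * x →
      Commute (ev (vList j)) x := by
    intro j x h1 h2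
    rw [evV]
    fin_cases j
    · exact Commute.one_left x
    · exact h1.symm
    · exact h2.symm
    · exact (Commute.mul_left h2.symm h1.symm)
  have crep_comm : ∀ i, ev (cRep i) * z = z * ev (cRep i) ∧
      ev (cRep i) * tInv mu = tInv mu * ev (cRep i) := by
    intro i
    have e1 : z = ev (vList 1) := by rw [evV]; rfl
    have e2 : tInv mu = ev (vList 2) := by rw [evV]; rfl
    rw [e1, e2, ← ev_mul, ← ev_mul, ← ev_mul, ← ev_mul, ev_eq, ev_eq]
    revert i
    generalize bs = x, bt = y, bc = w
    revert x y w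
    decide +kernel
  set a := mu (sJ, 1)
  set m := mu (sI, sI)
  have haz : a * z = z * a := R.comm _
  have hmz : m * z = z * m := R.comm _
  have hat := mem_cent_single.mp (Subgroup.mem_inf.mp R.w1_gens.1).2
  have hmt := mem_cent_single.mp (Subgroup.mem_inf.mp R.w1_gens.2).2
  have img : ∀ x, x * z = z * x → x * tInv mu = tInv mu * x →
      g * x * g⁻¹ * z = z * (g * x * g⁻¹) ∧
      g * x * g⁻¹ * tInv mu = tInv mu * (g * x * g⁻¹) := by
    intro x h1 h2
    constructor
    · rw [← hg2, conj_mul, conj_mul, h2]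
    · rw [← hg1, conj_mul, conj_mul, h1]
  obtain ⟨wa, ja, ewa⟩ := repr _ (img a haz hat).1 (img a haz hat).2
  obtain ⟨wm, jm, ewm⟩ := repr _ (img m hmz hmt).1 (img m hmz hmt).2
  -- the squares of the swapping element act on `Q`
  have hA2 : ∀ x ∈ w1Sub mu, g * (g * x * g⁻¹) * g⁻¹ ∈ w1Sub mu := by
    intro x hx
    obtain ⟨hxQ, hxt⟩ := Subgroup.mem_inf.mp hx
    have hg2z : g * g * z = z * (g * g) := by
      rw [← mul_inv_eq_iff_eq_mul, show g * g * z * (g * g)⁻¹ = g * (g * z * g⁻¹) * g⁻¹ by group,
        hg1, hg2]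
    have e : g * (g * x * g⁻¹) * g⁻¹ = (g * g) * x * (g * g)⁻¹ := by group
    refine Subgroup.mem_inf.mpr ⟨e ▸ R.conj_memQ hg2z hxQ, mem_cent_single.mpr ?_⟩
    exact (img _ (img x (R.comm_of_memQ hxQ) (mem_cent_single.mp hxt)).1
      (img x (R.comm_of_memQ hxQ) (mem_cent_single.mp hxt)).2).2
  obtain ⟨ca, ka, eca⟩ := repr _ (R.comm_of_memQ (Subgroup.mem_inf.mp (hA2 _ R.w1_gens.1)).1)
    (mem_cent_single.mp (Subgroup.mem_inf.mp (hA2 _ R.w1_gens.1)).2)
  obtain ⟨cm, km, ecm⟩ := repr _ (R.comm_of_memQ (Subgroup.mem_inf.mp (hA2 _ R.w1_gens.2)).1)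
    (mem_cent_single.mp (Subgroup.mem_inf.mp (hA2 _ R.w1_gens.2)).2)
  have inrange : ∀ (i : Fin 2 × Fin 2 × Bool × Bool) (j : Fin 4),
      ev (vList j) * ev (cRep i) ∈ qSub mu → i.2.2 = (false, false) := by
    intro i j h
    obtain ⟨u, v, _, _, e⟩ := mem_qSub.mp h
    have : ev ((u, v), false, false) = ev (hMul bs bt bc (vList j) (cRep i)) := by
      rw [ev_mul, ev_def, ← e]; simp
    have := ((ev_eq _ _).mp this).2
    simp [hMul, vList, cRep] at this
    exact this.symm
  have ica := inrange ca ka (eca ▸ (Subgroup.mem_inf.mp (hA2 _ R.w1_gens.1)).1)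
  have icm := inrange cm km (ecm ▸ (Subgroup.mem_inf.mp (hA2 _ R.w1_gens.2)).1)
  -- squares and commutators do not depend on the representative
  have sqr : ∀ i j, ev (vList j) * ev (cRep i) * (ev (vList j) * ev (cRep i)) =
      ev (hMul bs bt bc (cRep i) (cRep i)) := by
    intro i j
    have hc := vcent j _ (crep_comm i).1 (crep_comm i).2
    rw [show ev (vList j) * ev (cRep i) * (ev (vList j) * ev (cRep i)) =
      ev (vList j) * (ev (cRep i) * ev (vList j)) * ev (cRep i) by simp only [mul_assoc], ← hc.eq,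
      show ev (vList j) * (ev (vList j) * ev (cRep i)) * ev (cRep i) =
      (ev (vList j) * ev (vList j)) * (ev (cRep i) * ev (cRep i)) by simp only [mul_assoc], ← ev_mul,
      ← ev_mul]
    have : ev (hMul bs bt bc (vList j) (vList j)) = ev (vList 0) := by
      rw [ev_eq]
      clear hc
      revert j
      generalize bs = x, bt = y, bc = w
      revert x y w
      decide +kernel
    rw [this, evV]
    simp
  have central_cancel : ∀ (c x y v w : G), Commute v x → Commute v y → Commute w x → Commute w y →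
      Commute v w → (v * x * (w * y) = c * (w * y * (v * x)) ↔ x * y = c * (y * x)) → True :=
    fun _ _ _ _ _ _ _ _ _ _ _ => trivial
  have comm_iff : ∀ (c : Fin 4) (i i' : Fin 2 × Fin 2 × Bool × Bool) (j j' : Fin 4),
      (ev (vList j) * ev (cRep i) * (ev (vList j') * ev (cRep i')) =
        ev (vList c) * (ev (vList j') * ev (cRep i') * (ev (vList j) * ev (cRep i)))) ↔
      CommIs bs bt bc (vList c) (cRep i) (cRep i') := by
    intro c i i' j j'
    have hv : ∀ j, ev (vList j) * z = z * ev (vList j) ∧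
        ev (vList j) * tInv mu = tInv mu * ev (vList j) := by
      intro j
      rw [evV]
      have ct := R.comm (sJ, sJ)
      fin_cases j
      · exact ⟨(Commute.one_left z).eq, (Commute.one_left _).eq⟩
      · exact ⟨rfl, ct.symm⟩
      · exact ⟨ct, rfl⟩
      · exact ⟨(Commute.mul_left ct (Commute.refl z)).eq,
          (Commute.mul_left (Commute.refl _) (Commute.symm ct)).eq⟩
    have a1 := vcent j _ (crep_comm i').1 (crep_comm i').2
    have a2 := vcent j' _ (crep_comm i).1 (crep_comm i).2
    have a3 := vcent j' _ (hv j).1 (hv j).2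
    have a4 := vcent c _ (hv j).1 (hv j).2
    have a5 := vcent c _ (hv j').1 (hv j').2
    have l : ev (vList j) * ev (cRep i) * (ev (vList j') * ev (cRep i')) =
        (ev (vList j) * ev (vList j')) * (ev (cRep i) * ev (cRep i')) :=
      a2.symm.mul_mul_mul_comm _ _
    have r : ev (vList c) * (ev (vList j') * ev (cRep i') * (ev (vList j) * ev (cRep i))) =
        (ev (vList j) * ev (vList j')) * (ev (vList c) * (ev (cRep i') * ev (cRep i))) := by
      rw [a1.symm.mul_mul_mul_comm, a3.eq, ← mul_assoc, (a4.mul_right a5).eq, mul_assoc]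
    rw [l, r, mul_right_inj, ← ev_mul, ← ev_mul, ← ev_mul, ev_eq]
    rfl
  have heq : ∀ x y : G, ∀ c : Fin 4, (x * y = ev (vList c) * (y * x)) ↔
      (g * x * g⁻¹ * (g * y * g⁻¹) =
        ev (vList (vSwap c)) * (g * y * g⁻¹ * (g * x * g⁻¹))) := by
    intro x y c
    rw [evSwap, conj_mul, conj_mul, conj_mul]
    constructor
    · intro h; rw [h]
    · intro h; exact mul_left_cancel (mul_right_cancel h)
  have ev1 : ev (vList 0) = 1 := by rw [evV]; rfl
  have eA : a = ev (cRep (1, 0, false, false)) := by simp [ev_def, cRep, a]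
  have eM : m = ev (cRep (0, 1, false, false)) := by simp [ev_def, cRep, m]
  have eA' : a = ev (vList 0) * ev (cRep (1, 0, false, false)) := by rw [ev1, one_mul, ← eA]
  have eM' : m = ev (vList 0) * ev (cRep (0, 1, false, false)) := by rw [ev1, one_mul, ← eM]
  have sqA : a * a = z := by
    rw [← R.neg, ← map_mul]; exact R.mu_eq.mpr (Or.inl (by decide +kernel))
  have sqM : m * m = 1 := by
    rw [← map_mul]; exact (R.ker _).mpr (Or.inr (by decide +kernel))
  have amz : a * m = ev (vList 1) * (m * a) := by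
    rw [evV]
    show mu _ * mu _ = z * (mu _ * mu _)
    rw [← R.neg, ← map_mul, ← map_mul, ← map_mul, R.mu_eq]
    decide +kernel
  -- class nontrivial
  have notrange : ∀ (p : SL2 × SL2), mu p ∈ w1Sub mu → ¬ InV p → g * mu p * g⁻¹ ∉ qSub mu := by
    intro p hp hnV hQ
    rcases R.meet_mem hg1 hg2 hQ
      (by simpa [mul_assoc] using (Subgroup.mem_inf.mp hp).1) with h | h | h | h
    all_goals apply hnV; apply R.inV_of_mem
    · exact Or.inl (mul_left_cancel (mul_right_cancel (h.trans (by group : (1 : G) = g * 1 * g⁻¹))))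
    · exact Or.inr (Or.inr (Or.inl (mul_left_cancel (mul_right_cancel (h.trans hg2.symm)))))
    · exact Or.inr (Or.inl (mul_left_cancel (mul_right_cancel (h.trans hg1.symm))))
    · refine Or.inr (Or.inr (Or.inr (mul_left_cancel
        (mul_right_cancel (h.trans ?_ : g * mu p * g⁻¹ = g * (tInv mu * z) * g⁻¹)))))
      rw [show g * (tInv mu * z) * g⁻¹ = (g * tInv mu * g⁻¹) * (g * z * g⁻¹) by group, hg1, hg2]
      exact (R.comm (sJ, sJ))
  have classne : ∀ (i : Fin 2 × Fin 2 × Bool × Bool) (j : Fin 4),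
      ev (vList j) * ev (cRep i) ∉ qSub mu → (cRep i).2 ≠ (false, false) := by
    intro i j h e
    apply h
    refine mul_mem ?_ ?_
    · rw [evV]
      fin_cases j <;> simp [R.z_memQ, R.t_memQ, mul_mem, one_mem]
    · obtain ⟨i1, i2, x, y⟩ := i
      simp [cRep] at e
      obtain ⟨rfl, rfl⟩ := e
      refine mem_qSub.mpr ⟨(cRep (i1, i2, false, false)).1.1, (cRep (i1, i2, false, false)).1.2,
        ?_, ?_, by simp [ev_def, cRep]⟩
      · clear h
        revert i1 i2; decide +kernel
      · clear h
        revert i1 i2; decide +kernel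
  have key := bits_certificate bs bt bc wa (classne wa ja (ewa ▸ notrange _ R.w1_gens.1 not_inV.1))
    (by rw [← ev_eq, ← sqr wa ja, ← ewa, evV, conj_mul, sqA, hg1]; rfl)
    wm (classne wm jm (ewm ▸ notrange _ R.w1_gens.2 not_inV.2.1))
    (by
      intro e
      have hp3 : mu ((sJ, 1) * (sI, sI)) ∈ w1Sub mu := by
        rw [map_mul]; exact mul_mem R.w1_gens.1 R.w1_gens.2
      obtain ⟨hp3z, hp3t⟩ := img _ (R.comm_of_memQ (Subgroup.mem_inf.mp hp3).1)
        (mem_cent_single.mp (Subgroup.mem_inf.mp hp3).2)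
      obtain ⟨wc, jc, ewc⟩ := repr _ hp3z hp3t
      apply classne wc jc (ewc ▸ notrange _ hp3 not_inV.2.2)
      rw [map_mul, ← conj_mul, ewa, ewm, ← ev_mul, ← ev_mul, ← ev_mul, ← ev_mul, ev_eq] at ewc
      have h2 := ewc.2
      simp only [Prod.ext_iff] at e h2 ⊢
      simp [hMul, vList, e.1, e.2] at h2
      exact ⟨h2.1, h2.2⟩)
    (by rw [← ev_eq, ← sqr wm jm, ← ewm, evV, conj_mul, sqM, mul_one, mul_inv_cancel]; rfl)
    (by rw [← comm_iff 2 wa wm ja jm, ← ewa, ← ewm]
        exact (heq a m 1).mp amz)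
    (ca.1, ca.2.1) (by
      rw [← ev_eq, show ((ca.1, ca.2.1, false, false) : Fin 2 × Fin 2 × Bool × Bool) = ca by
        rw [← ica], ← sqr ca ka, ← eca, evV, conj_mul, conj_mul, sqA, hg1, hg2]; rfl)
    (cm.1, cm.2.1) (by
      rw [← ev_eq, show ((cm.1, cm.2.1, false, false) : Fin 2 × Fin 2 × Bool × Bool) = cm by
        rw [← icm], ← sqr cm km, ← ecm, evV, conj_mul, conj_mul, sqM, mul_one, mul_inv_cancel,
        mul_one, mul_inv_cancel]; rfl)
    (by
      rw [show ((ca.1, ca.2.1, false, false) : Fin 2 × Fin 2 × Bool × Bool) = ca by rw [← ica],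
        show ((cm.1, cm.2.1, false, false) : Fin 2 × Fin 2 × Bool × Bool) = cm by rw [← icm],
        ← comm_iff 1 ca cm ka km, ← eca, ← ecm]
      exact (heq _ _ 2).mp ((heq a m 1).mp amz))
  rw [show ((ca.1, ca.2.1, false, false) : Fin 2 × Fin 2 × Bool × Bool) = ca by rw [← ica],
    show ((cm.1, cm.2.1, false, false) : Fin 2 × Fin 2 × Bool × Bool) = cm by rw [← icm]] at key
  have eqv : ∀ {x y : G} (ix iy igx igy : Fin 2 × Fin 2 × Bool × Bool) (jx jy jgx jgy : Fin 4),
      x = ev (vList jx) * ev (cRep ix) → y = ev (vList jy) * ev (cRep iy) →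
      g * x * g⁻¹ = ev (vList jgx) * ev (cRep igx) →
      g * y * g⁻¹ = ev (vList jgy) * ev (cRep igy) →
      Equi bs bt bc (cRep ix) (cRep iy) (cRep igx) (cRep igy) := by
    intro x y ix iy igx igy jx jy jgx jgy hx hy hgx hgy c
    rw [← comm_iff c ix iy jx jy, ← hx, ← hy, heq, hgx, hgy, comm_iff]
  rw [show aEl = cRep (1, 0, false, false) by decide +kernel,
    show mEl = cRep (0, 1, false, false) by decide +kernel] at key
  obtain ⟨hbs', hbt', hbc'⟩ := key (eqv (1, 0, false, false) wa wa ca 0 ja ja ka eA' ewa ewa eca)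
    (eqv (1, 0, false, false) wm wa cm 0 jm ja km eA' ewm ewa ecm)
    (eqv (0, 1, false, false) wa wm ca 0 ja jm ka eM' ewa ewm eca)
    (eqv (0, 1, false, false) wm wm cm 0 jm jm km eM' ewm ewm ecm)
  refine ⟨s, tau, ⟨R, hs, ht, hsm, htm, ?_, ?_, ?_⟩⟩
  · rw [es, hbs']; rfl
  · rw [et, hbt']; rfl
  · rw [ec, hbc']; rfl

end H87.U43
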