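import Cfsg.Agent.H87.U43.Coord

/-!
# U4(3) type: evaluation of the model of `C(z)`
-/

set_option autoImplicit false

namespace H87.U43

variable {G : Type*} [Group G] {z : G} {mu : SL2 × SL2 →* G} {s tau : G}

/-- multiplication of the model with the actual bits -/
def hM (x y : HEl) : HEl := hMul false true true x y

theorem hEv_def (k : SL2 × SL2) (a b : Bool) :
    hEv mu s tau (k, a, b) = mu k * (bif a then s else 1) * (bif b then tau else 1) := rfl

theorem Coord.hEv_zero (C : Coord z mu s tau) (k : SL2 × SL2) :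
    hEv mu s tau (k, false, false) = mu k := by
  have := C.raw
  simp [hEv_def]

theorem Coord.tau_s' (C : Coord z mu s tau) : tau * s = z * (s * tau) := by
  rw [C.tau_s, (Commute.mul_left C.s_comm C.tau_comm).eq]

theorem Coord.hEv_mul (C : Coord z mu s tau) (x y : HEl) :
    hEv mu s tau (hM x y) = hEv mu s tau x * hEv mu s tau y := by
  obtain ⟨k, a, b⟩ := x
  obtain ⟨l, c, d⟩ := y
  have R := C.raw
  have zmu : ∀ e : Bool, mu (bif e then (sZ, 1) else 1) = bif e then z else 1 := fun e => by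
    cases e <;> simp [R.neg]
  have conjS : ∀ k : SL2 × SL2, s * mu k = mu (k.2, k.1) * s := fun k =>
    mul_inv_eq_iff_eq_mul.mp (C.s_mu k.1 k.2)
  have conjT : ∀ k : SL2 × SL2, tau * mu k = mu (dlt k.1, dlt k.2) * tau := fun k =>
    mul_inv_eq_iff_eq_mul.mp (C.tau_mu k.1 k.2)
  have push : (bif a then s else 1) * (bif b then tau else 1) * mu l =
      mu (hAct a b l) * ((bif a then s else 1) * (bif b then tau else 1)) := by
    cases a <;> cases b <;> simp [hAct, conjS, conjT]
    rw [mul_assoc, conjT, ← mul_assoc, conjS, mul_assoc]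
  simp only [hM, hMul, hEv_def, map_mul, zmu]
  rw [show mu k * (bif a then s else 1) * (bif b then tau else 1) *
      (mu l * (bif c then s else 1) * (bif d then tau else 1)) =
      mu k * ((bif a then s else 1) * (bif b then tau else 1) * mu l) *
        ((bif c then s else 1) * (bif d then tau else 1)) by simp only [mul_assoc], push]
  simp only [mul_assoc]
  congr 2
  have hzs : z * s = s * z := C.s_comm.symm
  have hzt : z * tau = tau * z := C.tau_comm.symm
  have hss := C.s_sq
  have htt := C.tau_sq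
  have hts := C.tau_s'
  have hzz := R.zz
  cases a <;> cases b <;> cases c <;> cases d <;> simp [hss, htt, hts, hzz]
  all_goals simp only [← mul_assoc, hzs, hzt, hss, htt, hts]
  all_goals simp [mul_assoc, hzs, hzt, hss, htt, hts, hzz]
  all_goals simp [← mul_assoc, hss, htt, hzz]

theorem Coord.acts_class (C : Coord z mu s tau) (a b : Bool) :
    ∃ p p' : SL2, Acts mu ((bif a then s else 1) * (bif b then tau else 1)) a p b p' b := by
  have A1 : Acts mu (1 : G) false 1 false 1 false := by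
    have := acts_mu (mu := mu) 1 1
    rwa [Prod.mk_one_one, map_one] at this
  have As : Acts mu s true 1 false 1 false := fun u v => by simpa [cj] using C.s_mu u v
  have At : Acts mu tau false 1 true 1 true := fun u v => by simpa [cj] using C.tau_mu u v
  cases a <;> cases b
  · exact ⟨1, 1, by simpa using A1⟩
  · exact ⟨1, 1, by simpa using At⟩
  · exact ⟨1, 1, by simpa using As⟩
  · obtain ⟨p, p', A⟩ := As.comp At
    exact ⟨p, p', by simpa using A⟩

theorem Coord.hEv_eq (C : Coord z mu s tau) (x y : HEl) :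
    hEv mu s tau x = hEv mu s tau y ↔ HEq' x y := by
  obtain ⟨k, a, b⟩ := x
  obtain ⟨l, c, d⟩ := y
  constructor
  · intro h
    simp only [hEv_def, mul_assoc] at h
    obtain ⟨p, p', A⟩ := C.acts_class a b
    obtain ⟨q, q', B⟩ := C.acts_class c d
    obtain ⟨m, m', A'⟩ := (acts_mu (mu := mu) k.1 k.2).comp A
    obtain ⟨n, n', B'⟩ := (acts_mu (mu := mu) l.1 l.2).comp B
    rw [Prod.mk.eta] at A' B'
    rw [h] at A'
    obtain ⟨e1, e2⟩ := C.raw.acts_unique A' B'
    have hac : a = c := by revert e1; cases a <;> cases c <;> simp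
    have hbd : b = d := by revert e2; cases a <;> cases c <;> cases b <;> cases d <;> simp
    subst hac; subst hbd
    exact ⟨C.raw.mu_eq.mp (mul_right_cancel h), rfl⟩
  · rintro ⟨h1, h2⟩
    obtain ⟨rfl, rfl⟩ := Prod.mk.inj h2
    simp only [hEv_def]
    rw [C.raw.mu_eq.mpr h1]

theorem Coord.hEv_comm (C : Coord z mu s tau) (x : HEl) :
    hEv mu s tau x * z = z * hEv mu s tau x := by
  obtain ⟨k, a, b⟩ := x
  simp only [hEv_def]
  have h1 : Commute (bif a then s else 1) z := by
    cases a <;> simp [Commute, SemiconjBy, C.s_comm]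
  have h2 : Commute (bif b then tau else 1) z := by
    cases b <;> simp [Commute, SemiconjBy, C.tau_comm]
  exact (Commute.mul_left (Commute.mul_left (C.raw.comm k) h1) h2).eq

theorem Raw.card_range [Finite G] (R : Raw z mu) : Nat.card ↥mu.range = 288 := by
  have h1 := Subgroup.card_eq_card_quotient_mul_card_subgroup mu.ker
  rw [Nat.card_congr (QuotientGroup.quotientKerEquivRange mu).toEquiv, Nat.card_prod, sl_card] at h1
  have h2 : Nat.card ↥mu.ker = 2 := by
    have : (mu.ker : Set (SL2 × SL2)) = {1, (sZ, sZ)} := by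
      ext y; simp [MonoidHom.mem_ker, R.ker y]
    show Nat.card (mu.ker : Set (SL2 × SL2)) = 2
    rw [this, Nat.card_coe_set_eq, Set.ncard_pair]
    decide +kernel
  rw [h2] at h1
  omega

theorem Coord.hEv_surj [Finite G] (C : Coord z mu s tau) {x : G} (hx : x * z = z * x) :
    ∃ e : HEl, x = hEv mu s tau e := by
  let f : ↥mu.range × Bool × Bool → ↥(Subgroup.centralizer ({z} : Set G)) :=
    fun p => ⟨(p.1 : G) * (bif p.2.1 then s else 1) * (bif p.2.2 then tau else 1), by
      obtain ⟨q, hq⟩ := p.1.2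
      rw [← hq, mem_cent_single, ← hEv_def (mu := mu)]
      exact C.hEv_comm _⟩
  have finj : Function.Injective f := by
    rintro ⟨⟨m, ⟨q, rfl⟩⟩, a, b⟩ ⟨⟨m', ⟨q', rfl⟩⟩, a', b'⟩ h
    obtain ⟨h1, h2⟩ := (C.hEv_eq (q, a, b) (q', a', b')).mp (congrArg Subtype.val h)
    obtain ⟨rfl, rfl⟩ := Prod.mk.inj h2
    exact Prod.ext (Subtype.ext (C.raw.mu_eq.mpr h1)) rfl
  have fbij := (Nat.bijective_iff_injective_and_card f).mpr ⟨finj, by
    rw [C.raw.card_cent, Nat.card_prod, Nat.card_prod, C.raw.card_range]; simp⟩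
  obtain ⟨⟨⟨m, ⟨q, rfl⟩⟩, a, b⟩, hp⟩ := fbij.2 ⟨x, mem_cent_single.mpr hx⟩
  exact ⟨(q, a, b), (congrArg Subtype.val hp).symm⟩

/-- conjugation in the model: `c x = y c` -/
def ConjTo (c x y : HEl) : Prop := HEq' (hM c x) (hM y c)

instance (c x y : HEl) : Decidable (ConjTo c x y) := inferInstanceAs (Decidable (HEq' _ _))

theorem Coord.conjTo (C : Coord z mu s tau) {c x y : HEl} :
    ConjTo c x y ↔
      hEv mu s tau c * hEv mu s tau x * (hEv mu s tau c)⁻¹ = hEv mu s tau y := by
  rw [mul_inv_eq_iff_eq_mul, ← C.hEv_mul, ← C.hEv_mul, C.hEv_eq]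
  rfl

theorem Coord.hEv_vList (C : Coord z mu s tau) :
    hEv mu s tau (vList 0) = 1 ∧ hEv mu s tau (vList 1) = z ∧
      hEv mu s tau (vList 2) = tInv mu ∧ hEv mu s tau (vList 3) = tInv mu * z := by
  have := C.raw
  refine ⟨?_, ?_, ?_, ?_⟩ <;> simp [vList, hEv_def, this.neg, tInv]
  rw [← this.neg, ← map_mul]
  exact this.mu_eq.mpr (Or.inl (by decide +kernel))

theorem Coord.repr_cent_t [Finite G] (C : Coord z mu s tau) {x : G} (hx : x * z = z * x)
    (hxt : x * tInv mu = tInv mu * x) :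
    ∃ (i : Fin 2 × Fin 2 × Bool × Bool) (j : Fin 4), x = hEv mu s tau (hM (vList j) (cRep i)) := by
  obtain ⟨⟨k, a, b⟩, rfl⟩ := C.hEv_surj hx
  have hct : ∀ a b : Bool, Commute (hEv mu s tau (1, a, b)) (tInv mu) := by
    intro a b
    show _ * _ = _ * _
    rw [← C.hEv_vList.2.2.1, ← C.hEv_mul, ← C.hEv_mul, C.hEv_eq]
    cases a <;> cases b <;> decide +kernel
  have e : hEv mu s tau (k, a, b) = mu k * hEv mu s tau (1, a, b) := by simp [hEv_def, mul_assoc]
  rw [e, mul_assoc, (hct a b).eq, ← mul_assoc, ← mul_assoc] at hxt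
  have hk := mul_right_cancel hxt
  rw [tInv, ← map_mul, ← map_mul, C.raw.mu_eq] at hk
  obtain ⟨i, j, hij⟩ := t_cent_cover k.1 k.2 hk
  refine ⟨(i.1, i.2, a, b), j, ?_⟩
  rw [C.hEv_mul]
  simp only [hEv_def, vList, cRep, cond_false, mul_one] at hij ⊢
  rw [C.raw.mu_eq.mpr hij, map_mul]
  simp [mul_assoc]

end H87.U43
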