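import Cfsg.Agent.H87.U43.Defs

/-!
# U4(3) type recognition: interfaces between the modules

* `Frame`: what the two-local analysis gives (structure of `C(z)`, fusion).
* `Datum`: what the three-local analysis gives (the subgroup `N = 3^4 : A6` and `j`).
-/

set_option autoImplicit false

namespace H87.U43

variable (G : Type*) [Group G]

/-- The two-local data. -/
structure Frame where
  z : G
  mu : SL2 × SL2 →* G
  s : G
  tau : G
  e : G
  e' : G
  mu_ker : ∀ k : SL2 × SL2, mu k = 1 ↔ k = 1 ∨ k = (sZ, sZ)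
  mu_neg : mu (sZ, 1) = z
  z_ne : z ≠ 1
  s_sq : s * s = 1
  tau_sq : tau * tau = z
  tau_s : tau * s = s * tau * z
  s_mu : ∀ u v : SL2, s * mu (u, v) * s⁻¹ = mu (v, u)
  tau_mu : ∀ u v : SL2, tau * mu (u, v) * tau⁻¹ = mu (dlt u, dlt v)
  cent : ∀ g : G, g * z = z * g ↔
    ∃ (k : SL2 × SL2) (a b : Bool), g = mu k * (if a then s else 1) * (if b then tau else 1)
  card_cent : Nat.card ↥(Subgroup.centralizer ({z} : Set G)) = 1152
  e_cube : e ^ 3 = 1
  e_d1 : e * mu (sX, sX) = mu (sX, sX) * e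
  e_z : e * z * e⁻¹ = s
  e_s : e * s * e⁻¹ = s * z
  e'_cube : e' ^ 3 = 1
  e'_d2 : e' * mu (sX, sX⁻¹) = mu (sX, sX⁻¹) * e'
  e'_z : e' * z * e'⁻¹ = s * tau
  e'_s : e' * (s * tau) * e'⁻¹ = s * tau * z
  /-- `e` is fused to a power of `d1` -/
  e_fus : ∃ (c : G) (k : ℕ), (k = 1 ∨ k = 2) ∧ e = c * mu (sX, sX) ^ k * c⁻¹
  e'_fus : ∃ (c : G) (k : ℕ), (k = 1 ∨ k = 2) ∧ e' = c * mu (sX, sX⁻¹) ^ k * c⁻¹
  /-- every involution of `C(z)` is fused to `z` inside `⟨C(z), e, e'⟩` -/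
  fused : ∀ u : G, orderOf u = 2 → u * z = z * u →
    ∃ g ∈ Subgroup.closure ({g : G | g * z = z * g} ∪ {e, e'}), g * u * g⁻¹ = z
  /-- every involution of `G` is conjugate to `z` -/
  one_class : ∀ u : G, orderOf u = 2 → IsConj u z

/-- The three-local data. -/
structure Datum where
  z : G
  s : G
  tau : G
  j : G
  alpha : Multiplicative V4 →* G
  alpha_inj : Function.Injective alpha
  N : Subgroup G
  alpha_le : alpha.range ≤ N
  /-- conjugation action on `A` -/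
  act : ∀ g ∈ N, ∃ m : M4, InL m ∧
    ∀ v : V4, g * alpha (Multiplicative.ofAdd v) * g⁻¹ = alpha (Multiplicative.ofAdd (app m v))
  surj : ∀ m : M4, InL m → ∃ g ∈ N,
    ∀ v : V4, g * alpha (Multiplicative.ofAdd v) * g⁻¹ = alpha (Multiplicative.ofAdd (app m v))
  ker : ∀ g ∈ N, (∀ v : V4, g * alpha (Multiplicative.ofAdd v) =
    alpha (Multiplicative.ofAdd v) * g) → g ∈ alpha.range
  z_mem : z ∈ N
  s_mem : s ∈ N
  tau_mem : tau ∈ N
  z_act : ∀ v : V4, z * alpha (Multiplicative.ofAdd v) * z⁻¹ =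
    alpha (Multiplicative.ofAdd (app zMat v))
  s_act : ∀ v : V4, s * alpha (Multiplicative.ofAdd v) * s⁻¹ =
    alpha (Multiplicative.ofAdd (app sMat v))
  tau_act : ∀ v : V4, tau * alpha (Multiplicative.ofAdd v) * tau⁻¹ =
    alpha (Multiplicative.ofAdd (app tauMat v))
  z_sq : z * z = 1
  s_sq : s * s = 1
  tau_sq : tau * tau = z
  tau_s : tau * s = s * tau * z
  zs : z * s = s * z
  j_sq : j * j = z
  tau_j : tau * j * tau⁻¹ = j⁻¹
  /-- `j` and `s j s` commute -/
  j_sjs : j * (s * j * s) = (s * j * s) * j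
  j_x : j * alpha (Multiplicative.ofAdd xV) = alpha (Multiplicative.ofAdd xV) * j
  j_y : j * alpha (Multiplicative.ofAdd yV) * j =
    alpha (Multiplicative.ofAdd (-yV)) * j⁻¹ * alpha (Multiplicative.ofAdd (-yV))
  j_not_mem : j ∉ N
  /-- the conjugate of `I` by `j` lies in `N` with known action -/
  siegel_mem : ∀ c d : ZMod 3, j * alpha (Multiplicative.ofAdd (iV c d)) * j⁻¹ ∈ N
  siegel_act : ∀ (c d : ZMod 3) (v : V4),
    (j * alpha (Multiplicative.ofAdd (iV c d)) * j⁻¹) * alpha (Multiplicative.ofAdd v) *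
      (j * alpha (Multiplicative.ofAdd (iV c d)) * j⁻¹)⁻¹ =
      alpha (Multiplicative.ofAdd (app (siegel c d) v))
  jy_not_mem : j⁻¹ * alpha (Multiplicative.ofAdd yV) * j ∉ N

variable {G}

/-- the subgroup generated by `N` and `j` -/
def Datum.G0 (D : Datum G) : Subgroup G := Subgroup.closure ((D.N : Set G) ∪ {D.j})

end H87.U43
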