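import Cfsg.Agent.H87.U43.Three
import Cfsg.Agent.H87.U43.Interface

/-!
# U4(3) type: the two-local data
-/

set_option autoImplicit false
set_option maxRecDepth 100000

namespace H87.U43

variable {G : Type*} [Group G] {z : G} {mu : SL2 × SL2 →* G} {s tau : G}

/-- `dlt` as a homomorphism -/
def dltHom : SL2 →* SL2 := MonoidHom.mk' dlt dlt_mul

/-- twisting the second factor -/
def twMu (mu : SL2 × SL2 →* G) : SL2 × SL2 →* G :=
  mu.comp ((MonoidHom.id SL2).prodMap dltHom)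

theorem twMu_apply (u v : SL2) : twMu mu (u, v) = mu (u, dlt v) := rfl

theorem qSub_twMu : qSub (twMu mu) = qSub mu := by
  ext x
  rw [mem_qSub, mem_qSub]
  have hq : ∀ v : SL2, v ^ 4 = 1 → (dlt v) ^ 4 = 1 := fun v hv => by
    have := map_pow dltHom v 4
    rw [hv, map_one] at this
    exact this.symm
  constructor
  · rintro ⟨u, v, hu, hv, rfl⟩
    exact ⟨u, dlt v, hu, hq v hv, rfl⟩
  · rintro ⟨u, v, hu, hv, rfl⟩
    exact ⟨u, dlt v, hu, hq v hv, by rw [twMu_apply, dlt_dlt]⟩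

theorem Raw.twist (R : Raw z mu) : Raw z (twMu mu) where
  ord := R.ord
  ker := by
    rintro ⟨u, v⟩
    rw [twMu_apply, R.ker, Prod.mk_eq_one, Prod.mk_eq_one, Prod.mk.injEq, Prod.mk.injEq]
    have hz : dlt sZ = sZ := by decide +kernel
    constructor
    · rintro (⟨h1, h2⟩ | ⟨h1, h2⟩)
      · exact Or.inl ⟨h1, by rw [← dlt_dlt v, h2, dlt_one]⟩
      · exact Or.inr ⟨h1, by rw [← dlt_dlt v, h2, hz]⟩
    · rintro (⟨h1, h2⟩ | ⟨h1, h2⟩)
      · exact Or.inl ⟨h1, by rw [h2, dlt_one]⟩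
      · exact Or.inr ⟨h1, by rw [h2, hz]⟩
  neg := by rw [twMu_apply, dlt_one]; exact R.neg
  comm := fun k => R.comm _
  normal := by
    rintro g hg ⟨u, v⟩
    obtain ⟨⟨a, b⟩, h⟩ := R.normal g hg (u, dlt v)
    exact ⟨(a, dlt b), by rw [twMu_apply, twMu_apply, dlt_dlt, h]⟩
  self_cent := by rw [qSub_twMu]; exact R.self_cent
  nwc := by rw [qSub_twMu]; exact R.nwc
  card_cent := R.card_cent
  meet := by rw [qSub_twMu]; exact R.meet

theorem Coord.twist (C : Coord z mu s tau) : Coord z (twMu mu) (s * tau) tau where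
  raw := C.raw.twist
  s_comm := (Commute.mul_left C.s_comm C.tau_comm).eq
  tau_comm := C.tau_comm
  s_mu := by
    intro u v
    rw [twMu_apply, twMu_apply, show s * tau * mu (u, dlt v) * (s * tau)⁻¹ =
      s * (tau * mu (u, dlt v) * tau⁻¹) * s⁻¹ by group, C.tau_mu, C.s_mu, dlt_dlt]
  tau_mu := by
    intro u v
    rw [twMu_apply, twMu_apply, C.tau_mu]
  s_sq := by
    rw [show s * tau * (s * tau) = s * (tau * s) * tau by simp only [mul_assoc], C.tau_s',
      show s * (z * (s * tau)) * tau = (s * z) * s * (tau * tau) by simp only [mul_assoc],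
      C.tau_sq, C.s_comm, mul_assoc z, C.s_sq, mul_one, C.raw.zz]
  tau_sq := C.tau_sq
  tau_s := by rw [← mul_assoc tau, C.tau_s, mul_assoc, C.tau_comm.symm, ← mul_assoc]

variable [Finite G]

/-- involutions are conjugate into `C(z)` -/
theorem Coord.exists_conj_cent (C : Coord z mu s tau) {u : G} (hu : orderOf u = 2) :
    ∃ g : G, g * u * g⁻¹ * z = z * (g * u * g⁻¹) := by
  have R := C.raw
  haveI : Fact (Nat.Prime 2) := ⟨Nat.prime_two⟩
  have hQp : IsPGroup 2 ↥(qSub mu) := by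
    rintro ⟨x, hx⟩
    obtain ⟨a, b, ha, hb, rfl⟩ := mem_qSub.mp hx
    exact ⟨2, Subtype.ext (by
      show mu (a, b) ^ (2 ^ 2) = 1
      rw [← map_pow, show (2 : ℕ) ^ 2 = 4 from rfl, Prod.pow_mk, ha, hb, Prod.mk_one_one, map_one])⟩
  obtain ⟨S, hS⟩ := hQp.exists_le_sylow
  have hzS : z ∈ (S : Subgroup G) := hS R.z_memQ
  have hnt : Nontrivial ↥(S : Subgroup G) :=
    ⟨⟨⟨z, hzS⟩, 1, fun h => R.z_ne (congrArg Subtype.val h)⟩⟩
  have hctr : Nontrivial ↥(Subgroup.center ↥(S : Subgroup G)) := S.2.center_nontrivial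
  obtain ⟨⟨⟨c, hcS⟩, hc⟩, hc1⟩ := exists_ne (1 : ↥(Subgroup.center ↥(S : Subgroup G)))
  have hcomm : ∀ x ∈ (S : Subgroup G), x * c = c * x := fun x hx =>
    congrArg Subtype.val (Subgroup.mem_center_iff.mp hc ⟨x, hx⟩)
  have hcz : c * z = z * c := (hcomm z hzS).symm
  have hcQ : c ∈ qSub mu := R.self_cent c hcz fun x hx => hcomm x (hS hx)
  obtain ⟨a, b, ha, hb, rfl⟩ := mem_qSub.mp hcQ
  have hc' : mu (a, b) = 1 ∨ mu (a, b) = z := by
    refine R.central_cases hcz fun p q => ?_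
    by_cases hpq : p ^ 4 = 1 ∧ q ^ 4 = 1
    · rw [mul_inv_eq_iff_eq_mul]
      exact (hcomm _ (hS (mem_qSub.mpr ⟨p, q, hpq.1, hpq.2, rfl⟩))).symm
    · -- commuting with the quaternion groups forces centrality
      have key : ∀ (w : SL2), w ^ 4 = 1 → SgnEq ((a, b) * (w, 1)) ((w, 1) * (a, b)) ∧
          SgnEq ((a, b) * (1, w)) ((1, w) * (a, b)) := by
        intro w hw
        constructor <;> rw [← R.mu_eq, map_mul, map_mul] <;>
          exact (hcomm _ (hS (mem_qSub.mpr ⟨_, _, by simp [hw], by simp [hw], rfl⟩))).symm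
      have cen : ∀ a b : SL2, a ^ 4 = 1 → b ^ 4 = 1 →
          SgnEq ((a, b) * (sI, 1)) ((sI, 1) * (a, b)) →
          SgnEq ((a, b) * (sJ, 1)) ((sJ, 1) * (a, b)) →
          SgnEq ((a, b) * (1, sI)) ((1, sI) * (a, b)) →
          SgnEq ((a, b) * (1, sJ)) ((1, sJ) * (a, b)) →
          (a = 1 ∨ a = sZ) ∧ (b = 1 ∨ b = sZ) := by
        refine sl_forall fun a b c d h => sl_forall fun a' b' c' d' h' => ?_
        revert a b c d h a' b' c' d' h'
        decide +kernel
      have hI : sI ^ 4 = 1 ∧ sJ ^ 4 = 1 := by decide +kernel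
      obtain ⟨ha', hb'⟩ := cen a b ha hb (key sI hI.1).1 (key sJ hI.2).1 (key sI hI.1).2
        (key sJ hI.2).2
      have hz1 : ∀ w : SL2, (1 : SL2) * w = w * 1 := fun w => by simp
      rw [mul_inv_eq_iff_eq_mul, ← map_mul, ← map_mul, Prod.mk_mul_mk, Prod.mk_mul_mk]
      rcases ha' with rfl | rfl <;> rcases hb' with rfl | rfl <;>
        simp [sZ_comm p, sZ_comm q]
  have hc'' : mu (a, b) = z := by
    rcases hc' with h | h
    · exact absurd (Subtype.ext (Subtype.ext h)) hc1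
    · exact h
  have hle : ∀ x ∈ (S : Subgroup G), x * z = z * x := fun x hx => hc'' ▸ hcomm x hx
  have hup : IsPGroup 2 ↥(Subgroup.zpowers u) := by
    refine IsPGroup.of_card (n := 1) ?_
    rw [Nat.card_zpowers, hu, pow_one]
  obtain ⟨S', hS'⟩ := hup.exists_le_sylow
  obtain ⟨g, hg⟩ := MulAction.exists_smul_eq G S' S
  refine ⟨g, hle _ ?_⟩
  rw [← hg, Sylow.coe_subgroup_smul]
  exact ⟨u, hS' (Subgroup.mem_zpowers u), by simp [MulAut.smul_def, MulAut.conj_apply]⟩

/-- fusion inside `⟨C(z), e, e'⟩` -/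
theorem Coord.fused (C : Coord z mu s tau) {e e' : G} (he : Norms mu s tau e)
    (hez : e * z * e⁻¹ = s) (hes : e * s * e⁻¹ = s * z)
    (hez' : e' * z * e'⁻¹ = s * tau) (hes' : e' * (s * tau) * e'⁻¹ = s * tau * z) :
    ∀ u : G, orderOf u = 2 → u * z = z * u →
      ∃ g ∈ Subgroup.closure ({g : G | g * z = z * g} ∪ {e, e'}), g * u * g⁻¹ = z := by
  have R := C.raw
  set M := Subgroup.closure ({g : G | g * z = z * g} ∪ {e, e'}) with hM
  have hH : ∀ g : G, g * z = z * g → g ∈ M := fun g hg => Subgroup.subset_closure (Or.inl hg)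
  have heM : e ∈ M := Subgroup.subset_closure (Or.inr (Set.mem_insert e {e'}))
  have heM' : e' ∈ M := Subgroup.subset_closure (Or.inr (Set.mem_insert_of_mem e rfl))
  have hsz : ∀ (w : G) (k : G), k ∈ M → k * z * k⁻¹ = w → ∃ g ∈ M, g * w * g⁻¹ = z :=
    fun w k hk h => ⟨k⁻¹, inv_mem hk, by rw [inv_inv]; exact conj_one_conj h⟩
  have fs : ∀ w : G, w = s ∨ w = s * z ∨ w = s * tau ∨ w = s * tau * z →
      ∃ g ∈ M, g * w * g⁻¹ = z := by
    rintro w (rfl | rfl | rfl | rfl)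
    · exact hsz _ e heM hez
    · refine hsz _ (e * e) (mul_mem heM heM) ?_
      rw [show e * e * z * (e * e)⁻¹ = e * (e * z * e⁻¹) * e⁻¹ by group, hez, hes]
    · exact hsz _ e' heM' hez'
    · refine hsz _ (e' * e') (mul_mem heM' heM') ?_
      rw [show e' * e' * z * (e' * e')⁻¹ = e' * (e' * z * e'⁻¹) * e'⁻¹ by group, hez', hes']
  -- involutions outside `K`
  have outer : ∀ (k : SL2 × SL2) (a b : Bool), (a = true ∨ b = true) →
      hEv mu s tau (k, a, b) * hEv mu s tau (k, a, b) = 1 →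
      ∃ g ∈ M, g * hEv mu s tau (k, a, b) * g⁻¹ = z := by
    rintro ⟨u, v⟩ a b hab hsq
    rw [← C.hEv_mul, ← C.hEv_vList.1, C.hEv_eq] at hsq
    rcases class_invol u v a b hsq with ⟨rfl, rfl⟩ | ⟨rfl, j, hj⟩
    · simp at hab
    have hc := (fConj_iff C).mp hj
    set c := hEv mu s tau ((u⁻¹, 1), false, false)
    obtain ⟨g, hg, hgz⟩ := fs (hEv mu s tau ((bif (j.val == 1) then (sZ, 1) else 1), true, b)) (by
      fin_cases j <;> cases b <;> simp [hEv_def, R.neg]
      · exact Or.inr (Or.inl C.s_comm.symm)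
      · exact Or.inr (Or.inr (Or.inr (by
          rw [mul_assoc z]; exact (Commute.mul_left C.s_comm C.tau_comm).eq.symm))))
    refine ⟨g * c, mul_mem hg (hH _ (C.hEv_comm _)), ?_⟩
    rw [show g * c * hEv mu s tau ((u, v), true, b) * (g * c)⁻¹ =
      g * (c * hEv mu s tau ((u, v), true, b) * c⁻¹) * g⁻¹ by group, hc, hgz]
  -- the class of `t`
  obtain ⟨mz, mt, mm, ms, mtz, msz⟩ := eSet_mem C
  have esplit : ∀ x ∈ eSet mu s tau, x ∉ mu.range →
      ∃ g ∈ M, g * x * g⁻¹ = z := by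
    intro x hx hxr
    obtain ⟨⟨k, a, b⟩, hk⟩ := C.hEv_surj ((eSet_facts C).1 x hx).1
    rw [hk] at hx hxr ⊢
    refine outer k a b ?_ ((eSet_facts C).1 _ hx).2
    by_contra hc
    simp only [not_or, Bool.not_eq_true] at hc
    obtain ⟨rfl, rfl⟩ := hc
    exact hxr ⟨k, (C.hEv_zero k).symm⟩
  have ht : ∃ g ∈ M, g * tInv mu * g⁻¹ = z := by
    by_cases h1 : e * tInv mu * e⁻¹ ∈ mu.range
    · have h2 : e * (tInv mu * z) * e⁻¹ ∉ mu.range := by
        rw [show e * (tInv mu * z) * e⁻¹ = e * tInv mu * e⁻¹ * (e * z * e⁻¹) by group, hez]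
        intro h3
        have hs : s ∈ mu.range := by
          have := mul_mem (inv_mem h1) h3
          rwa [inv_mul_cancel_left] at this
        exact R.not_range (k := 1) (k' := 1) (b := false) (b' := false)
          (fun p q => by simpa [cj] using C.s_mu p q) (Or.inl rfl) hs
      obtain ⟨g, hg, hgz⟩ := esplit _ (he _ mtz) h2
      -- `t z` and `t` are conjugate in `H`
      have hq : mu (sI, 1) * tInv mu * (mu (sI, 1))⁻¹ = tInv mu * z := by
        rw [tInv, ← R.neg, ← map_inv, ← map_mul, ← map_mul, ← map_mul, R.mu_eq]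
        decide +kernel
      refine ⟨g * e * mu (sI, 1), mul_mem (mul_mem hg heM) (hH _ (R.comm _)), ?_⟩
      rw [show g * e * mu (sI, 1) * tInv mu * (g * e * mu (sI, 1))⁻¹ =
        g * (e * (mu (sI, 1) * tInv mu * (mu (sI, 1))⁻¹) * e⁻¹) * g⁻¹ by group, hq, hgz]
    · obtain ⟨g, hg, hgz⟩ := esplit _ (he _ mt) h1
      refine ⟨g * e, mul_mem hg heM, ?_⟩
      rw [show g * e * tInv mu * (g * e)⁻¹ = g * (e * tInv mu * e⁻¹) * g⁻¹ by group, hgz]
  intro u hu huz
  have hu2 : u * u = 1 := by rw [← pow_two, ← hu, pow_orderOf_eq_one]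
  have hu1 : u ≠ 1 := fun h => by rw [h, orderOf_one] at hu; omega
  obtain ⟨⟨k, a, b⟩, rfl⟩ := C.hEv_surj huz
  by_cases hab : a = true ∨ b = true
  · exact outer k a b hab hu2
  simp only [not_or, Bool.not_eq_true] at hab
  obtain ⟨rfl, rfl⟩ := hab
  rw [C.hEv_zero] at hu2 hu1 ⊢
  by_cases hkz : mu k = z
  · exact ⟨1, one_mem M, by rw [hkz]; simp⟩
  have hQ : mu k ∈ qSub mu := by
    rw [← map_mul, ← map_one mu, R.mu_eq] at hu2
    obtain ⟨h1, h2⟩ := range_invol k.1 k.2 hu2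
    exact mem_qSub.mpr ⟨k.1, k.2, h1, h2, rfl⟩
  obtain ⟨l, hl⟩ := R.invol_conj_t hQ hu2 hu1 hkz
  obtain ⟨g, hg, hgz⟩ := ht
  refine ⟨g * (mu l)⁻¹, mul_mem hg (inv_mem (hH _ (R.comm l))), ?_⟩
  rw [← hl, show g * (mu l)⁻¹ * (mu l * tInv mu * (mu l)⁻¹) * (g * (mu l)⁻¹)⁻¹ =
    g * tInv mu * g⁻¹ by group, hgz]

/-- the two-local data -/
theorem Raw.exists_frame (R : Raw z mu) : ∃ F : Frame G, F.z = z ∧ F.mu = mu := by
  obtain ⟨s, tau, C⟩ := R.exists_coord
  obtain ⟨e, e3, eN, ed, ez, es, efus⟩ := exists_e C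
  obtain ⟨e', e3', -, ed', ez', es', efus'⟩ := exists_e C.twist
  have hx : twMu mu (sX, sX) = mu (sX, sX⁻¹) := by
    rw [twMu_apply, show dlt sX = sX⁻¹ by decide +kernel]
  rw [hx] at ed' efus'
  have hfused := C.fused eN ez es ez' es'
  refine ⟨{ z := z, mu := mu, s := s, tau := tau, e := e, e' := e'
            mu_ker := R.ker, mu_neg := R.neg, z_ne := R.z_ne
            s_sq := C.s_sq, tau_sq := C.tau_sq, tau_s := C.tau_s
            s_mu := C.s_mu, tau_mu := C.tau_mu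
            cent := fun g => ?_, card_cent := R.card_cent
            e_cube := e3, e_d1 := ed, e_z := ez, e_s := es
            e'_cube := e3', e'_d2 := ed', e'_z := ez', e'_s := es'
            e_fus := efus, e'_fus := efus'
            fused := hfused, one_class := fun u hu => ?_ }, rfl, rfl⟩
  · constructor
    · intro hg
      obtain ⟨⟨k, a, b⟩, rfl⟩ := C.hEv_surj hg
      exact ⟨k, a, b, by simp [hEv_def]; cases a <;> cases b <;> simp⟩
    · rintro ⟨k, a, b, rfl⟩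
      have := C.hEv_comm (k, a, b)
      cases a <;> cases b <;> simpa [hEv_def] using this
  · obtain ⟨g, hg⟩ := C.exists_conj_cent hu
    have ho : orderOf (g * u * g⁻¹) = 2 := by
      rw [← hu]; exact (SemiconjBy.orderOf_eq _ (by simp [SemiconjBy, mul_assoc] :
        SemiconjBy g u (g * u * g⁻¹))).symm
    obtain ⟨g', -, hg'⟩ := hfused _ ho hg
    rw [isConj_iff]
    exact ⟨g' * g, by rw [← hg']; group⟩

end H87.U43
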