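import Cfsg.Agent.H87.U43.Model

/-!
# U4(3) type: finite facts for the fusion analysis
-/

set_option autoImplicit false
set_option maxRecDepth 100000
set_option synthInstance.maxHeartbeats 200000
set_option synthInstance.maxSize 2000

namespace H87.U43

/-- local copy of the multiplication -/
def fM (x y : HEl) : HEl := hMul false true true x y

def fConj (c x y : HEl) : Prop := HEq' (fM c x) (fM y c)

instance (c x y : HEl) : Decidable (fConj c x y) := inferInstanceAs (Decidable (HEq' _ _))

abbrev EIx := Fin 4 × Bool × Bool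

def sEl : HEl := (1, true, false)
def tauEl : HEl := (1, false, true)
def qEl : HEl := ((sI, 1), false, false)
def d1El : HEl := ((sX, sX), false, false)

/-- the elementary group `⟨z, t, m, s⟩` of order 16 -/
def eEl (i : EIx) : HEl :=
  fM (vList i.1) ((bif i.2.1 then ((sI, sI) : SL2 × SL2) else 1), i.2.2, false)

abbrev CIx := Fin 2 × Fin 2 × Bool × Bool

def InE1 (i : CIx) : Prop :=
  i = (0, 0, false, false) ∨ i = (0, 1, false, false) ∨ i = (0, 0, true, false) ∨
    i = (0, 1, true, false)

def InE2 (i : CIx) : Prop :=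
  i = (0, 0, false, false) ∨ i = (1, 1, false, false) ∨ i = (0, 0, true, true) ∨
    i = (1, 1, true, true)

instance (i : CIx) : Decidable (InE1 i) := inferInstanceAs (Decidable (_ ∨ _))
instance (i : CIx) : Decidable (InE2 i) := inferInstanceAs (Decidable (_ ∨ _))

/-- elementary groups of order 16 over `⟨z, t⟩`: only two -/
theorem elem_class : ∀ i i' : CIx,
    HEq' (fM (cRep i) (cRep i)) (vList 0) → HEq' (fM (cRep i') (cRep i')) (vList 0) →
    CommIs false true true (vList 0) (cRep i) (cRep i') →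
    i ≠ (0, 0, false, false) → i' ≠ (0, 0, false, false) → i ≠ i' →
    (InE1 i ∧ InE1 i') ∨ (InE2 i ∧ InE2 i') := by
  decide +kernel

theorem eEl_closed : ∀ i i' : EIx, ∃ l, HEq' (fM (eEl i) (eEl i')) (eEl l) := by
  decide +kernel

theorem eEl_comm : ∀ i i' : EIx, HEq' (fM (eEl i) (eEl i')) (fM (eEl i') (eEl i)) := by
  decide +kernel

theorem eEl_sq : ∀ i : EIx, HEq' (fM (eEl i) (eEl i)) (vList 0) := by
  decide +kernel

theorem eEl_inj : ∀ i i' : EIx, HEq' (eEl i) (eEl i') → i = i' := by
  decide +kernel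

/-- membership of coset representatives -/
theorem eEl_of_inE1 : ∀ (i : CIx) (j : Fin 4), InE1 i →
    ∃ l, HEq' (fM (vList j) (cRep i)) (eEl l) := by
  decide +kernel

theorem not_both : ¬ InE2 (0, 1, false, false) ∧ ¬ InE2 (0, 0, true, false) := by decide +kernel

/-- the elements normalising the group -/
def nGens : List HEl :=
  [((sJ, 1), false, false), qEl, ((1, sJ), false, false), ((1, sI), false, false), d1El,
    tauEl]

theorem nGens_norm : ∀ c ∈ nGens, ∀ i : EIx, ∃ l, fConj c (eEl i) (eEl l) := by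
  decide +kernel

/-- small words in the normalising elements -/
def nWord (w : Fin 2 × Fin 2 × Fin 2 × Fin 3 × Fin 2) : HEl :=
  fM (fM ((![1, sJ] w.1, 1), false, false) ((![1, sI] w.2.1, ![1, sI] w.2.2.1), false, false))
    (fM ((sX ^ w.2.2.2.1.val, sX ^ w.2.2.2.1.val), false, false)
      (bif (w.2.2.2.2 == 1) then tauEl else vList 0))

theorem nWord_norm : ∀ w, ∀ i : EIx, ∃ l, fConj (nWord w) (eEl i) (eEl l) := by
  decide +kernel

/-- orbits of the normaliser inside `C(z)`: `z`, six, eight -/
theorem six_orbit : ∀ i : EIx, i.2.2 = false → ¬ HEq' (eEl i) (vList 0) →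
    ¬ HEq' (eEl i) (vList 1) → ∃ w, fConj (nWord w) (vList 3) (eEl i) := by
  decide +kernel

theorem eight_orbit : ∀ i i' : EIx, i.2.2 = true → i'.2.2 = true →
    ∃ w, fConj (nWord w) (eEl i) (eEl i') := by
  decide +kernel

theorem cent_d1 : ∀ i : EIx, fConj d1El (eEl i) (eEl i) →
    i = (0, false, false) ∨ i = (1, false, false) ∨ i = (0, false, true) ∨ i = (1, false, true) := by
  decide +kernel

theorem cent_d1' : fConj d1El (eEl (0, false, true)) (eEl (0, false, true)) ∧
    fConj d1El (eEl (1, false, true)) (eEl (1, false, true)) := by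
  decide +kernel

theorem p0_of_comm : ∀ u v : SL2,
    SgnEq ((u, v) * (sX, sX)) ((sX, sX) * (u, v)) → SgnEq ((u, v) ^ 9) 1 →
    ∃ a b : Fin 3, SgnEq (u, v) (sX ^ a.val, sX ^ b.val) := by
  refine sl_forall fun a b c d h => sl_forall fun a' b' c' d' h' => ?_
  revert a b c d h a' b' c' d' h'
  decide +kernel

theorem x_not_norm : ∀ b : Fin 3, b ≠ 0 →
    ¬ ∃ l : EIx, fConj ((1, sX ^ b.val), false, false) (eEl (0, true, false)) (eEl l) := by
  decide +kernel

/-- elements of order three in `C(z)` normalising the group and centralising one of its elements -/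
theorem diag_three : ∀ u v : SL2, SgnEq ((u, v) ^ 3) 1 → ¬ SgnEq (u, v) 1 →
    (∀ i : EIx, ∃ l, fConj ((u, v), false, false) (eEl i) (eEl l)) →
    (∃ i : EIx, ¬ HEq' (eEl i) (vList 0) ∧ ¬ HEq' (eEl i) (vList 1) ∧
      fConj ((u, v), false, false) (eEl i) (eEl i)) →
    ∃ p q : SL2, ∃ k : Fin 2,
      SgnEq (u, v) (p * sX ^ (k.val + 1) * p⁻¹, q * sX ^ (k.val + 1) * q⁻¹) := by
  refine sl_forall fun a b c d h => sl_forall fun a' b' c' d' h' => ?_
  intro h1 h2 h3 h4
  revert a b c d h a' b' c' d' h'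
  decide +kernel

theorem range_invol : ∀ u v : SL2, SgnEq ((u, v) * (u, v)) 1 → u ^ 4 = 1 ∧ v ^ 4 = 1 := by
  refine sl_forall fun a b c d h => sl_forall fun a' b' c' d' h' => ?_
  revert a b c d h a' b' c' d' h'
  decide +kernel

theorem class_invol : ∀ (u v : SL2) (a b : Bool), HEq' (fM ((u, v), a, b) ((u, v), a, b)) (vList 0) →
    (a = false ∧ b = false) ∨
    (a = true ∧ ∃ j : Fin 2, fConj ((u⁻¹, 1), false, false) ((u, v), a, b)
      ((bif (j.val == 1) then (sZ, 1) else 1), true, b)) := by
  refine sl_forall fun a b c d h => sl_forall fun a' b' c' d' h' => ?_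
  revert a b c d h a' b' c' d' h'
  decide +kernel

end H87.U43
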