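import Cfsg.Agent.H87.U43.Eval
import Cfsg.Agent.H87.U43.FusionFacts

/-!
# U4(3) type: the normaliser of an elementary group of order 16
-/

set_option autoImplicit false
set_option maxRecDepth 100000
set_option synthInstance.maxHeartbeats 200000
set_option synthInstance.maxSize 2000

namespace H87.U43

variable {G : Type*} [Group G] [Finite G] {z : G} {mu : SL2 × SL2 →* G} {s tau : G}

/-- the elementary group `⟨z, t, μ(I,I), s⟩` as a set -/
def eSet (mu : SL2 × SL2 →* G) (s tau : G) : Set G := Set.range fun i => hEv mu s tau (eEl i)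

/-- `h` normalises the group -/
def Norms (mu : SL2 × SL2 →* G) (s tau : G) (h : G) : Prop :=
  ∀ x ∈ eSet mu s tau, h * x * h⁻¹ ∈ eSet mu s tau

theorem fConj_iff (C : Coord z mu s tau) {c x y : HEl} :
    fConj c x y ↔
      hEv mu s tau c * hEv mu s tau x * (hEv mu s tau c)⁻¹ = hEv mu s tau y :=
  C.conjTo

theorem Norms.mul {h k : G} (a : Norms mu s tau h) (b : Norms mu s tau k) :
    Norms mu s tau (h * k) := fun x hx => by
  have := a _ (b x hx)
  simpa [mul_assoc] using this

theorem Norms.inv {h : G} (a : Norms mu s tau h) : Norms mu s tau h⁻¹ := by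
  obtain ⟨n, hn0, hn⟩ : ∃ n, 0 < n ∧ h ^ n = 1 := ⟨orderOf h, orderOf_pos h, pow_orderOf_eq_one h⟩
  have hp : ∀ m : ℕ, Norms mu s tau (h ^ m) := by
    intro m
    induction m with
    | zero => intro x hx; simpa using hx
    | succ k ih => rw [pow_succ]; exact ih.mul a
  have : h⁻¹ = h ^ (n - 1) := inv_eq_of_mul_eq_one_left (by
    rw [← pow_succ, Nat.sub_add_cancel (by omega), hn])
  rw [this]; exact hp _

/-- the normaliser as a subgroup -/
def normE (mu : SL2 × SL2 →* G) (s tau : G) : Subgroup G where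
  carrier := {h | Norms mu s tau h}
  mul_mem' := Norms.mul
  one_mem' := fun x hx => by simpa using hx
  inv_mem' := Norms.inv

theorem eSet_facts (C : Coord z mu s tau) :
    (∀ x ∈ eSet mu s tau, x * z = z * x ∧ x * x = 1) ∧
    (∀ x ∈ eSet mu s tau, ∀ y ∈ eSet mu s tau, x * y ∈ eSet mu s tau ∧ x * y = y * x) := by
  refine ⟨?_, ?_⟩
  · rintro _ ⟨i, rfl⟩
    refine ⟨C.hEv_comm _, ?_⟩
    dsimp only
    rw [← C.hEv_mul]
    exact ((C.hEv_eq _ _).mpr (eEl_sq i)).trans C.hEv_vList.1
  · rintro _ ⟨i, rfl⟩ _ ⟨j, rfl⟩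
    obtain ⟨l, hl⟩ := eEl_closed i j
    dsimp only
    rw [← C.hEv_mul, ← C.hEv_mul]
    exact ⟨⟨l, ((C.hEv_eq _ _).mpr hl).symm⟩, (C.hEv_eq _ _).mpr (eEl_comm i j)⟩

theorem eSet_mem (C : Coord z mu s tau) :
    z ∈ eSet mu s tau ∧ tInv mu ∈ eSet mu s tau ∧ mu (sI, sI) ∈ eSet mu s tau ∧
      s ∈ eSet mu s tau ∧ tInv mu * z ∈ eSet mu s tau ∧ s * z ∈ eSet mu s tau := by
  have hv := C.hEv_vList
  have key : ∀ (i : EIx) (y : HEl), HEq' (eEl i) y → hEv mu s tau y ∈ eSet mu s tau :=
    fun i y h => ⟨i, (C.hEv_eq _ _).mpr h⟩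
  have hs : hEv mu s tau (1, true, false) = s := by simp [hEv_def]
  have hm : hEv mu s tau ((sI, sI), false, false) = mu (sI, sI) := C.hEv_zero _
  refine ⟨hv.2.1 ▸ key (1, false, false) _ (by decide +kernel),
    hv.2.2.1 ▸ key (2, false, false) _ (by decide +kernel),
    hm ▸ key (0, true, false) _ (by decide +kernel), by
      have := key (0, false, true) (1, true, false) (by decide +kernel)
      rwa [hs] at this,
    hv.2.2.2 ▸ key (3, false, false) _ (by decide +kernel), ?_⟩
  have : hEv mu s tau (hM (1, true, false) (vList 1)) = s * z := by rw [C.hEv_mul, hs, hv.2.1]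
  exact this ▸ key (1, false, true) _ (by decide +kernel)

theorem norms_of_list (C : Coord z mu s tau) {c : HEl}
    (h : ∀ i : EIx, ∃ l, fConj c (eEl i) (eEl l)) : Norms mu s tau (hEv mu s tau c) := by
  rintro _ ⟨i, rfl⟩
  obtain ⟨l, hl⟩ := h i
  exact ⟨l, ((fConj_iff C).mp hl).symm⟩

/-- an element of the normaliser moving `z` to `tz` and `t` to `z` -/
theorem exists_normalizing (C : Coord z mu s tau) :
    ∃ h : G, Norms mu s tau h ∧ h * z * h⁻¹ = tInv mu * z ∧ h⁻¹ * z * h = tInv mu := by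
  have R := C.raw
  obtain ⟨g, hg1, hg2⟩ := R.exists_swap
  set q := mu (sI, 1) with hq
  set t := tInv mu with ht
  have qz : q * z * q⁻¹ = z := by rw [R.comm, mul_inv_cancel_right]
  have qt : q * t * q⁻¹ = t * z := by
    rw [ht, tInv, hq, ← R.neg, ← map_inv, ← map_mul, ← map_mul, ← map_mul, R.mu_eq]
    decide +kernel
  set r := q * g with hr
  have rz : r * z * r⁻¹ = t * z := by
    rw [hr, show q * g * z * (q * g)⁻¹ = q * (g * z * g⁻¹) * q⁻¹ by group, hg1, qt]
  have rt : r * t * r⁻¹ = z := by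
    rw [hr, show q * g * t * (q * g)⁻¹ = q * (g * t * g⁻¹) * q⁻¹ by group, hg2, qz]
  have rtz : r * (t * z) * r⁻¹ = t := by
    rw [show r * (t * z) * r⁻¹ = (r * t * r⁻¹) * (r * z * r⁻¹) by group, rt, rz, ← mul_assoc,
      show z * t = t * z from (R.comm (sJ, sJ)).symm, mul_assoc, R.zz, mul_one]
  obtain ⟨hE1, hE2⟩ := eSet_facts C
  obtain ⟨mz, mt, mm, ms, mtz, msz⟩ := eSet_mem C
  -- images of elements of E are representatives of elementary classes
  have vimg : ∀ a : G, (a * z = z * a ∧ a * t = t * a) →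
      ∀ x : G, x ∈ eSet mu s tau → x * t = t * x → a = a → True := fun _ _ _ _ _ _ => trivial
  have inE : ∀ x ∈ eSet mu s tau, ∀ k : G, k * z * k⁻¹ ∈ eSet mu s tau → k * t * k⁻¹ ∈
      eSet mu s tau → (∀ y ∈ ({z, t, t * z} : Set G), k⁻¹ * y * k ∈ ({z, t, t * z} : Set G)) →
      (k * x * k⁻¹) * z = z * (k * x * k⁻¹) ∧ (k * x * k⁻¹) * t = t * (k * x * k⁻¹) := by
    intro x hx k _ _ hV
    have comm : ∀ y ∈ ({z, t, t * z} : Set G), k * x * k⁻¹ * y = y * (k * x * k⁻¹) := by
      intro y hy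
      have : k⁻¹ * y * k ∈ eSet mu s tau := by
        rcases hV y hy with e | e | e <;> simp only [Set.mem_singleton_iff] at * <;> rw [e]
        exacts [mz, mt, mtz]
      have := (hE2 x hx _ this).2
      calc k * x * k⁻¹ * y = k * (x * (k⁻¹ * y * k)) * k⁻¹ := by group
        _ = k * ((k⁻¹ * y * k) * x) * k⁻¹ := by rw [this]
        _ = _ := by group
    exact ⟨comm z (by simp), comm t (by simp)⟩
  have rV : ∀ y ∈ ({z, t, t * z} : Set G), r⁻¹ * y * r ∈ ({z, t, t * z} : Set G) := by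
    rintro y (rfl | rfl | rfl)
    · rw [conj_one_conj rt]; simp
    · rw [conj_one_conj rtz]; simp
    · rw [conj_one_conj rz]; simp
  -- the classes of the image
  have img : ∀ k : G, k * z * k⁻¹ ∈ eSet mu s tau → k * t * k⁻¹ ∈ eSet mu s tau →
      (∀ y ∈ ({z, t, t * z} : Set G), k⁻¹ * y * k ∈ ({z, t, t * z} : Set G)) →
      (∀ y, k * y * k⁻¹ ∈ ({1, z, t, t * z} : Set G) → y ∈ ({1, z, t, t * z} : Set G)) →
      ∃ i i' : CIx, ∃ j j' : Fin 4,
        k * mu (sI, sI) * k⁻¹ = hEv mu s tau (hM (vList j) (cRep i)) ∧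
        k * s * k⁻¹ = hEv mu s tau (hM (vList j') (cRep i')) ∧
        ((InE1 i ∧ InE1 i') ∨ (InE2 i ∧ InE2 i')) := by
    intro k k1 k2 hV hV'
    obtain ⟨m1, m2⟩ := inE _ mm k k1 k2 hV
    obtain ⟨s1, s2⟩ := inE _ ms k k1 k2 hV
    obtain ⟨i, j, hi⟩ := C.repr_cent_t m1 m2
    obtain ⟨i', j', hi'⟩ := C.repr_cent_t s1 s2
    have hv := C.hEv_vList
    have vj : ∀ j, hEv mu s tau (vList j) ∈ ({1, z, t, t * z} : Set G) := by
      intro j; fin_cases j <;> simp [hv.1, hv.2.1, hv.2.2.1, hv.2.2.2, ← ht]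
    have cj : ∀ j i, Commute (hEv mu s tau (vList j)) (hEv mu s tau (cRep i)) := by
      intro j i
      show _ * _ = _ * _
      rw [← C.hEv_mul, ← C.hEv_mul, C.hEv_eq]
      revert j i
      decide +kernel
    have e0 : hEv mu s tau (cRep (0, 0, false, false)) = 1 := by
      rw [← hv.1, C.hEv_eq]; decide +kernel
    have vcj : ∀ j j', Commute (hEv mu s tau (vList j)) (hEv mu s tau (vList j')) := by
      intro j j'
      show _ * _ = _ * _
      rw [← C.hEv_mul, ← C.hEv_mul, C.hEv_eq]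
      revert j j'
      decide +kernel
    have vv : ∀ j, hEv mu s tau (vList j) * hEv mu s tau (vList j) = 1 := by
      intro j
      rw [← C.hEv_mul, ← hv.1, C.hEv_eq]
      revert j; decide +kernel
    have sq : ∀ j i, hEv mu s tau (hM (vList j) (cRep i)) * hEv mu s tau (hM (vList j) (cRep i)) =
        hEv mu s tau (cRep i) * hEv mu s tau (cRep i) := by
      intro j i
      rw [C.hEv_mul, (cj j i).symm.mul_mul_mul_comm, vv, one_mul]
    have notV : ∀ x ∈ ({mu (sI, sI), s, mu (sI, sI) * s} : Set G),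
        x ∉ ({1, z, t, t * z} : Set G) := by
      have ms' : mu (sI, sI) * s = hEv mu s tau ((sI, sI), true, false) := by simp [hEv_def]
      have s' : s = hEv mu s tau (1, true, false) := by simp [hEv_def]
      have m' : mu (sI, sI) = hEv mu s tau ((sI, sI), false, false) := (C.hEv_zero _).symm
      rintro x (rfl | rfl | rfl) (h | h | h | h) <;> (try simp only [Set.mem_singleton_iff] at h) <;>
        first
          | (rw [ms', ← hv.1, C.hEv_eq] at h; revert h; decide +kernel)
          | (rw [ms', ← hv.2.1, C.hEv_eq] at h; revert h; decide +kernel)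
          | (rw [ms', ht, ← hv.2.2.1, C.hEv_eq] at h; revert h; decide +kernel)
          | (rw [ms', ht, ← hv.2.2.2, C.hEv_eq] at h; revert h; decide +kernel)
          | (rw [s', ← hv.1, C.hEv_eq] at h; revert h; decide +kernel)
          | (rw [s', ← hv.2.1, C.hEv_eq] at h; revert h; decide +kernel)
          | (rw [s', ht, ← hv.2.2.1, C.hEv_eq] at h; revert h; decide +kernel)
          | (rw [s', ht, ← hv.2.2.2, C.hEv_eq] at h; revert h; decide +kernel)
          | (rw [m', ← hv.1, C.hEv_eq] at h; revert h; decide +kernel)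
          | (rw [m', ← hv.2.1, C.hEv_eq] at h; revert h; decide +kernel)
          | (rw [m', ht, ← hv.2.2.1, C.hEv_eq] at h; revert h; decide +kernel)
          | (rw [m', ht, ← hv.2.2.2, C.hEv_eq] at h; revert h; decide +kernel)
    refine ⟨i, i', j, j', hi, hi', elem_class i i' ?_ ?_ ?_ ?_ ?_ ?_⟩
    · show HEq' (hM _ _) _
      rw [← C.hEv_eq, C.hEv_mul, ← sq j, ← hi, conj_mul, (hE1 _ mm).2, hv.1]; simp
    · show HEq' (hM _ _) _
      rw [← C.hEv_eq, C.hEv_mul, ← sq j', ← hi', conj_mul, (hE1 _ ms).2, hv.1]; simp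
    · show HEq' (hM _ _) (hM _ (hM _ _))
      rw [← C.hEv_eq, C.hEv_mul, C.hEv_mul, C.hEv_mul, hv.1, one_mul]
      have e := (hE2 _ mm _ ms).2
      have e' : k * mu (sI, sI) * k⁻¹ * (k * s * k⁻¹) =
          k * s * k⁻¹ * (k * mu (sI, sI) * k⁻¹) := by rw [conj_mul, conj_mul, e]
      rw [hi, hi', C.hEv_mul, C.hEv_mul, (cj j' i).symm.mul_mul_mul_comm,
        (cj j i').symm.mul_mul_mul_comm, (vcj j j').eq] at e'
      exact mul_left_cancel e'
    · rintro rfl
      rw [C.hEv_mul, e0, mul_one] at hi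
      exact notV _ (by simp) (hV' _ (hi ▸ vj j))
    · rintro rfl
      rw [C.hEv_mul, e0, mul_one] at hi'
      exact notV _ (by simp) (hV' _ (hi' ▸ vj j'))
    · rintro rfl
      apply notV _ (show mu (sI, sI) * s ∈ _ by simp)
      apply hV'
      rw [← conj_mul, hi, hi', C.hEv_mul, C.hEv_mul, (cj j' i).symm.mul_mul_mul_comm,
        show hEv mu s tau (cRep i) * hEv mu s tau (cRep i) = 1 by
          rw [← sq j i, ← hi, conj_mul, (hE1 _ mm).2]; simp, mul_one, ← C.hEv_mul]
      obtain ⟨l, hl⟩ : ∃ l, HEq' (hM (vList j) (vList j')) (vList l) := by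
        clear hi hi'
        revert j j'; decide +kernel
      rw [(C.hEv_eq _ _).mpr hl]
      exact vj l
  -- E1-images give normalisation
  have gen : ∀ x ∈ eSet mu s tau, ∃ a b c d : Bool, x = (bif a then z else 1) *
      (bif b then t else 1) * (bif c then mu (sI, sI) else 1) * (bif d then s else 1) := by
    rintro _ ⟨⟨j, c, d⟩, rfl⟩
    have hv := C.hEv_vList
    refine ⟨![false, true, false, true] j, ![false, false, true, true] j, c, d, ?_⟩
    dsimp only [eEl]
    show hEv mu s tau (hM _ _) = _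
    rw [C.hEv_mul]
    fin_cases j <;> cases c <;> cases d <;>
      simp [hv.1, hv.2.1, hv.2.2.1, hv.2.2.2, hEv_def, ← ht, mul_assoc]
    all_goals simp only [← mul_assoc, R.comm (sJ, sJ), ht, tInv]
  have normsOf : ∀ k : G, k * z * k⁻¹ ∈ eSet mu s tau → k * t * k⁻¹ ∈ eSet mu s tau →
      k * mu (sI, sI) * k⁻¹ ∈ eSet mu s tau → k * s * k⁻¹ ∈ eSet mu s tau →
      Norms mu s tau k := by
    intro k a1 a2 a3 a4 x hx
    obtain ⟨a, b, c, d, rfl⟩ := gen x hx
    have h1 : (1 : G) ∈ eSet mu s tau := by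
      have := (hE2 z mz z mz).1; rwa [R.zz] at this
    rw [show k * ((bif a then z else 1) * (bif b then t else 1) *
        (bif c then mu (sI, sI) else 1) * (bif d then s else 1)) * k⁻¹ =
        (k * (bif a then z else 1) * k⁻¹) * (k * (bif b then t else 1) * k⁻¹) *
        (k * (bif c then mu (sI, sI) else 1) * k⁻¹) * (k * (bif d then s else 1) * k⁻¹) by group]
    refine (hE2 _ (hE2 _ (hE2 _ ?_ _ ?_).1 _ ?_).1 _ ?_).1
    · cases a <;> simp [h1, a1]
    · cases b <;> simp [h1, a2]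
    · cases c <;> simp [h1, a3]
    · cases d <;> simp [h1, a4]
  have r_t : r * t * r⁻¹ ∈ eSet mu s tau := rt ▸ mz
  have r_z : r * z * r⁻¹ ∈ eSet mu s tau := rz ▸ mtz
  have rV' : ∀ y, r * y * r⁻¹ ∈ ({1, z, t, t * z} : Set G) → y ∈ ({1, z, t, t * z} : Set G) := by
    rintro y (h | h | h | h) <;> (try simp only [Set.mem_singleton_iff] at h)
    · rw [mul_inv_eq_one, mul_eq_left] at h; simp [h]
    · rw [show y = t from mul_left_cancel (mul_right_cancel (h.trans rt.symm))]; simp
    · rw [show y = t * z from mul_left_cancel (mul_right_cancel (h.trans rtz.symm))]; simp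
    · rw [show y = z from mul_left_cancel (mul_right_cancel (h.trans rz.symm))]; simp
  have e1mem : ∀ {x : G} {i : CIx} {j : Fin 4}, x = hEv mu s tau (hM (vList j) (cRep i)) →
      InE1 i → x ∈ eSet mu s tau := by
    intro x i j hx hi
    obtain ⟨l, hl⟩ := eEl_of_inE1 i j hi
    exact ⟨l, (hx.trans ((C.hEv_eq _ _).mpr hl)).symm⟩
  obtain ⟨i, i', j, j', hi, hi', hcls⟩ := img r r_z r_t rV rV'
  rcases hcls with ⟨c1, c2⟩ | ⟨c1, c2⟩
  · refine ⟨r, normsOf r r_z r_t (e1mem hi c1) (e1mem hi' c2), rz, conj_one_conj rt⟩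
  -- otherwise the square works
  · have rrz : r * r * z * (r * r)⁻¹ = t := by
      rw [show r * r * z * (r * r)⁻¹ = r * (r * z * r⁻¹) * r⁻¹ by group, rz, rtz]
    have rrt : r * r * t * (r * r)⁻¹ = t * z := by
      rw [show r * r * t * (r * r)⁻¹ = r * (r * t * r⁻¹) * r⁻¹ by group, rt, rz]
    have rrtz : r * r * (t * z) * (r * r)⁻¹ = z := by
      rw [show r * r * (t * z) * (r * r)⁻¹ = r * (r * (t * z) * r⁻¹) * r⁻¹ by group, rtz, rt]
    have rrV : ∀ y ∈ ({z, t, t * z} : Set G), (r * r)⁻¹ * y * (r * r) ∈ ({z, t, t * z} : Set G) := by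
      rintro y (rfl | rfl | rfl)
      · rw [conj_one_conj rrtz]; simp
      · rw [conj_one_conj rrz]; simp
      · rw [conj_one_conj rrt]; simp
    have rrV' : ∀ y, r * r * y * (r * r)⁻¹ ∈ ({1, z, t, t * z} : Set G) →
        y ∈ ({1, z, t, t * z} : Set G) := fun y hy => rV' _ (rV' _ (by
          rwa [show r * (r * y * r⁻¹) * r⁻¹ = r * r * y * (r * r)⁻¹ by group]))
    obtain ⟨k, k', l, l', hk, hk', hc⟩ := img (r * r) (rrz ▸ mt) (rrt ▸ mtz) rrV rrV'
    have E1case : InE1 k ∧ InE1 k' := by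
      rcases hc with h | ⟨d1', d2'⟩
      · exact h
      exfalso
      -- `r` maps the second group to the second group
      have hv := C.hEv_vList
      let F : Set G := {x | ∃ (i : CIx) (j : Fin 4), InE2 i ∧
        x = hEv mu s tau (hM (vList j) (cRep i))}
      have Fmul : ∀ x ∈ F, ∀ y ∈ F, x * y ∈ F := by
        rintro _ ⟨i, j, hi, rfl⟩ _ ⟨i', j', hi', rfl⟩
        obtain ⟨i'', j'', h1, h2⟩ : ∃ (i'' : CIx) (j'' : Fin 4), InE2 i'' ∧
            HEq' (hM (hM (vList j) (cRep i)) (hM (vList j') (cRep i')))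
              (hM (vList j'') (cRep i'')) := by
          revert i j i' j'; decide +kernel
        exact ⟨i'', j'', h1, by rw [← C.hEv_mul]; exact (C.hEv_eq _ _).mpr h2⟩
      have Fz : z ∈ F := ⟨(0, 0, false, false), 1, Or.inl rfl, by
        rw [← hv.2.1, C.hEv_eq]; decide +kernel⟩
      have Ft : t ∈ F := ⟨(0, 0, false, false), 2, Or.inl rfl, by
        rw [ht, ← hv.2.2.1, C.hEv_eq]; decide +kernel⟩
      have F1 : (1 : G) ∈ F := ⟨(0, 0, false, false), 0, Or.inl rfl, by
        rw [← hv.1, C.hEv_eq]; decide +kernel⟩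
      have imgF : ∀ u : G, u * z * u⁻¹ ∈ F → u * t * u⁻¹ ∈ F → u * mu (sI, sI) * u⁻¹ ∈ F →
          u * s * u⁻¹ ∈ F → ∀ x ∈ eSet mu s tau, u * x * u⁻¹ ∈ F := by
        intro u a1 a2 a3 a4 x hx
        obtain ⟨a, b, c, d, rfl⟩ := gen x hx
        rw [show u * ((bif a then z else 1) * (bif b then t else 1) *
            (bif c then mu (sI, sI) else 1) * (bif d then s else 1)) * u⁻¹ =
            (u * (bif a then z else 1) * u⁻¹) * (u * (bif b then t else 1) * u⁻¹) *
            (u * (bif c then mu (sI, sI) else 1) * u⁻¹) * (u * (bif d then s else 1) * u⁻¹) by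
          group]
        refine Fmul _ (Fmul _ (Fmul _ ?_ _ ?_) _ ?_) _ ?_
        · cases a <;> simp [F1, a1]
        · cases b <;> simp [F1, a2]
        · cases c <;> simp [F1, a3]
        · cases d <;> simp [F1, a4]
      have Ftz : t * z ∈ F := Fmul _ Ft _ Fz
      have hr1 := imgF r (rz ▸ Ftz) (rt ▸ Fz) ⟨i, j, c1, hi⟩ ⟨i', j', c2, hi'⟩
      have hr2 := imgF (r * r) (rrz ▸ Ft) (rrt ▸ Ftz) ⟨k, l, d1', hk⟩ ⟨k', l', d2', hk'⟩
      -- hence `r` fixes the second group, so the first one maps into itself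
      let f1 : ↥(eSet mu s tau) → ↥F := fun x => ⟨_, hr1 x.1 x.2⟩
      let f2 : ↥(eSet mu s tau) → ↥F := fun x => ⟨_, hr2 x.1 x.2⟩
      have cardE : Nat.card ↥(eSet mu s tau) = 16 := by
        rw [eSet, Nat.card_range_of_injective (fun a b e => eEl_inj a b ((C.hEv_eq _ _).mp e))]
        simp
      have cardF : Nat.card ↥F ≤ 16 := by
        let g : {i : CIx // InE2 i} × Fin 4 → ↥F :=
          fun p => ⟨hEv mu s tau (hM (vList p.2) (cRep p.1.1)), p.1.1, p.2, p.1.2, rfl⟩
        have gs : Function.Surjective g := by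
          rintro ⟨_, i, j, hi, rfl⟩; exact ⟨(⟨i, hi⟩, j), rfl⟩
        refine (Nat.card_le_card_of_surjective g gs).trans ?_
        rw [Nat.card_eq_fintype_card]
        decide +kernel
      haveI : Finite ↥F := Subtype.finite
      have f1i : Function.Injective f1 := fun a b e =>
        Subtype.ext (mul_left_cancel (mul_right_cancel (congrArg Subtype.val e)))
      have f1s : Function.Surjective f1 :=
        ((Nat.bijective_iff_injective_and_card f1).mpr ⟨f1i,
          le_antisymm (Nat.card_le_card_of_injective f1 f1i) (cardE ▸ cardF)⟩).2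
      obtain ⟨⟨y, hy⟩, hyx⟩ := f1s ⟨_, hr2 _ mm⟩
      have hyx' : r * y * r⁻¹ = r * r * mu (sI, sI) * (r * r)⁻¹ := congrArg Subtype.val hyx
      have : r * mu (sI, sI) * r⁻¹ ∈ eSet mu s tau := by
        have e : y = r * mu (sI, sI) * r⁻¹ :=
          mul_left_cancel (mul_right_cancel (hyx'.trans (by group)))
        exact e ▸ hy
      obtain ⟨⟨j0, c0, d0⟩, hl⟩ := this
      have hb := hl.trans hi
      rw [C.hEv_eq] at hb
      have hne : i ≠ (0, 0, false, false) := by
        rintro rfl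
        have e0 : hEv mu s tau (cRep (0, 0, false, false)) = 1 := by
          rw [← hv.1, C.hEv_eq]; decide +kernel
        rw [C.hEv_mul, e0, mul_one] at hi
        have : mu (sI, sI) ∈ ({1, z, t, t * z} : Set G) := rV' _ (by
          rw [hi]; fin_cases j <;> simp [hv.1, hv.2.1, hv.2.2.1, hv.2.2.2, ← ht])
        have m' : mu (sI, sI) = hEv mu s tau ((sI, sI), false, false) := (C.hEv_zero _).symm
        rcases this with h | h | h | h <;> (try simp only [Set.mem_singleton_iff] at h)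
        · rw [m', ← hv.1, C.hEv_eq] at h; revert h; decide +kernel
        · rw [m', ← hv.2.1, C.hEv_eq] at h; revert h; decide +kernel
        · rw [m', ht, ← hv.2.2.1, C.hEv_eq] at h; revert h; decide +kernel
        · rw [m', ht, ← hv.2.2.2, C.hEv_eq] at h; revert h; decide +kernel
      clear hi hl
      revert i j j0 c0 d0
      decide +kernel
    have hn := normsOf (r * r) (rrz ▸ mt) (rrt ▸ mtz) (e1mem hk E1case.1) (e1mem hk' E1case.2)
    refine ⟨(r * r)⁻¹, hn.inv, ?_, ?_⟩
    · rw [inv_inv]; exact conj_one_conj rrtz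
    · rw [inv_inv]; exact rrz

end H87.U43
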