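import Cfsg.Agent.S0215
import Cfsg.Agent.H63.UFour.ThreeInterface
import Cfsg.Agent.H63.UFour.ThreeBase
import Cfsg.Agent.H63.UFour.ThreeFacts
import Cfsg.Agent.H63.UFour.ThreeGen

/-!
# U4(3) type: the root group `j I j⁻¹` acts on `A` by Siegel elements
-/

set_option autoImplicit false
set_option maxRecDepth 100000
set_option maxHeartbeats 1000000
set_option linter.unusedSectionVars false

namespace H87.U43

open H63.UFour (ADat hel)

variable {G : Type*} [Group G]

section Facts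

theorem iV_add : ∀ c d c' d' : ZMod 3, iV c d + iV c' d' = iV (c + c') (d + d') := by decide +kernel

theorem v4_split : ∀ v : V4, v = bA v yV • xV + bA v xV • yV + iV (v 2) (v 3) := by decide +kernel

theorem siegel_basis : ∀ c d : ZMod 3, app (siegel c d) xV = xV ∧
    app (siegel c d) yV = yV + iV c d + (-qA (iV c d)) • xV := by decide +kernel

theorem siegel_i : ∀ c d c' d' : ZMod 3,
    app (siegel c d) (iV c' d') = iV c' d' + (-bA (iV c d) (iV c' d')) • xV := by decide +kernel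

theorem app_add (m : M4) (u v : V4) : app m (u + v) = app m u + app m v := by
  funext r; simp only [app, Pi.add_apply]; ring

theorem app_smul (m : M4) (k : ZMod 3) (u : V4) : app m (k • u) = k • app m u := by
  funext r; simp only [app, Pi.smul_apply, smul_eq_mul]; ring

theorem q_y_add : ∀ c d k : ZMod 3, qA (yV + iV c d + k • xV) = qA (iV c d) + k := by decide +kernel

theorem q_zero : ∀ c d : ZMod 3, qA (iV c d) = 0 → c = 0 ∧ d = 0 := by decide +kernel

theorem kernel_arith : ∀ c d k : ZMod 3, qA (iV c d) + k = 0 → qA (iV (c + c) (d + d)) + (k + k) = 0 →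
    c = 0 ∧ d = 0 ∧ k = 0 := by decide +kernel

theorem tau_I : ∀ c d : ZMod 3, app tauMat (iV c d) = iV d (-c) := by decide +kernel

theorem z_I : ∀ c d : ZMod 3, app zMat (iV c d) = -iV c d := by decide +kernel

theorem z_P : ∀ m l : ZMod 3, app zMat (m • xV + l • yV) = m • xV + l • yV := by decide +kernel

theorem span_I : ∀ c d u w : ZMod 3, ¬ (c = 0 ∧ d = 0) →
    ∃ p r : ZMod 3, iV u w = p • iV c d + r • iV d (-c) := by decide +kernel

theorem bA_of_q : ∀ c d c' d' : ZMod 3,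
    qA (iV (c + c') (d + d')) - qA (iV c d) - qA (iV c' d') = bA (iV c d) (iV c' d') := by
  decide +kernel

/-- no odd normal part in the second factor -/
theorem odd_comm : ∀ a b : SL2, ∀ v : Bool, SgnEq ((a, b) ^ 3) 1 →
    SgnEq (((1, bif v then sI else sJ) * (a, b) * (1, bif v then sI else sJ)⁻¹ * (a, b)⁻¹) ^ 3) 1 →
    SgnEq ((a, b) * (sX, 1)) ((sX, 1) * (a, b)) →
    ∃ i : Fin 3, SgnEq (a, b) (sX ^ i.val, 1) := by
  refine sl_forall fun a b c d h => sl_forall fun a' b' c' d' h' => ?_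
  intro v h1 h2 h3
  revert a b c d h a' b' c' d' h' v
  decide +kernel

theorem j_facts : sJ ^ 4 = 1 ∧ (sX * sJ) ^ 3 = 1 ∧ sJ⁻¹ * sX * sJ ≠ sX := by decide +kernel

theorem z3_cases : ∀ k : ZMod 3, k = 0 ∨ k = 1 ∨ k = 1 + 1 := by decide

theorem iV_zero : iV 0 0 = (0 : V4) := by decide +kernel

theorem iV_neg : ∀ c d : ZMod 3, -iV c d = iV (-c) (-d) := by decide +kernel

theorem z_fix_I : ∀ c d : ZMod 3, -iV c d = iV c d → c = 0 ∧ d = 0 := by decide +kernel

theorem tau_four : ∀ v : V4, app tauMat (app (tauMat * tauMat * tauMat) v) = v := by decide +kernel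

theorem rot_span : ∀ c d c0 d0 : ZMod 3, ¬ (c0 = 0 ∧ d0 = 0) →
    ∃ p r : ZMod 3, c = p * c0 + r * (-d0) ∧ d = p * d0 + r * c0 := by decide +kernel

theorem one_ne_zero3 : (1 : ZMod 3) ≠ 0 := by decide

theorem zero_y : yV + iV 0 0 + (0 : ZMod 3) • xV = yV := by decide +kernel

theorem braid : SgnEq (((1 : SL2), sJ) * (1, sX) * (1, sJ)) ((1, sX)⁻¹ * (1, sJ)⁻¹ * (1, sX)⁻¹) := by
  decide +kernel

theorem x_inj : ∀ k k' : ZMod 3, k • xV = k' • xV → k = k' := by decide +kernel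

end Facts

variable {F : Frame G} (a : ADat F)

/-- `α v` -/
def el (v : V4) : G := a.alpha (Multiplicative.ofAdd v)

theorem el_add (u v : V4) : el a (u + v) = el a u * el a v := by
  rw [el, el, el, ← map_mul]; rfl

theorem el_zero : el a 0 = 1 := by rw [el]; exact map_one _

theorem el_neg (u : V4) : el a (-u) = (el a u)⁻¹ :=
  eq_inv_of_mul_eq_one_left (by rw [← el_add, neg_add_cancel, el_zero])

theorem el_inj {u v : V4} (h : el a u = el a v) : u = v :=
  Multiplicative.ofAdd.injective (a.alpha_inj h)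

theorem el_comm (u v : V4) : Commute (el a u) (el a v) := by
  show _ * _ = _ * _
  rw [← el_add, ← el_add, add_comm]

theorem el_cube (v : V4) : el a v ^ 3 = 1 := by
  rw [pow_succ, pow_two, ← el_add, ← el_add]
  have : v + v + v = 0 := by
    funext i
    simp only [Pi.add_apply, Pi.zero_apply]
    generalize v i = k; revert k; decide
  rw [this, el_zero]

theorem el_x : el a xV = F.mu (sX, 1) := a.a_x
theorem el_y : el a yV = F.mu (1, sX) := a.a_y

variable [Finite G]

/-- elements of `C(z)` centralising `x` -/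
theorem cent_x_range {g : G} (hz : g * F.z = F.z * g) (hx : g * el a xV = el a xV * g) :
    ∃ k, g = F.mu k ∧ SgnEq (k * (sX, 1)) ((sX, 1) * k) := by
  obtain ⟨k, p, q, rfl⟩ := H63.UFour.exists_hel F hz
  rw [el_x] at hx
  have h := H63.UFour.hel_conj F k p q (sX, 1)
  rw [mul_inv_eq_iff_eq_mul.mpr hx, H63.UFour.mu_eq] at h
  obtain ⟨rfl, rfl⟩ := H63.UFour.cent_x k p q (by
    rcases h with h | h
    · exact Or.inl h.symm
    · refine Or.inr ?_
      have h2 := congrArg (fun w : SL2 × SL2 => w * (sZ, sZ)) h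
      simp only [mul_assoc, show ((sZ, sZ) : SL2 × SL2) * (sZ, sZ) = 1 by decide +kernel,
        mul_one] at h2
      exact h2.symm)
  have hk : hel F k false false = F.mu k := by simp [hel]
  rw [hk] at hx ⊢
  refine ⟨k, rfl, ?_⟩
  rw [← map_mul, ← map_mul, H63.UFour.mu_eq] at hx
  exact hx

/-- `z` is the only involution of `C(z)` centralising `x` -/
theorem cent_x_invol' {g : G} (hz : g * F.z = F.z * g) (hx : g * el a xV = el a xV * g)
    (h2 : g * g = 1) (h1 : g ≠ 1) : g = F.z := by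
  obtain ⟨k, rfl, hk⟩ := cent_x_range a hz hx
  rw [← map_mul, ← map_one F.mu, H63.UFour.mu_eq] at h2
  rcases H63.UFour.cent_x_invol k hk h2 with h | h
  · exact absurd (((H63.UFour.mu_eq F).mpr h).trans (map_one _)) h1
  · rw [(H63.UFour.mu_eq F).mpr h, F.mu_neg]

theorem sylow_unique {g : G} (hg : g * el a xV = el a xV * g) (h2 : g * g = 1) (h1 : g ≠ 1)
    (S : Subgroup G) (hS : IsPGroup 2 ↥S) (hzS : F.z ∈ S) (hgS : g ∈ S)
    (hSx : ∀ w ∈ S, w * el a xV = el a xV * w) : g = F.z := by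
  haveI : Fact (Nat.Prime 2) := ⟨Nat.prime_two⟩
  haveI : Nontrivial ↥S := ⟨⟨⟨F.z, hzS⟩, 1, fun h => F.z_ne (congrArg Subtype.val h)⟩⟩
  have hctr : Nontrivial ↥(Subgroup.center ↥S) := hS.center_nontrivial
  obtain ⟨⟨n, hn⟩, hn'⟩ : ∃ n : {k : ℕ // Nat.card ↥(Subgroup.center ↥S) = 2 ^ k}, True := by
    obtain ⟨n, hn⟩ := IsPGroup.iff_card.mp (hS.to_subgroup (Subgroup.center ↥S))
    exact ⟨⟨n, hn⟩, trivial⟩
  have hn0 : n ≠ 0 := by
    rintro rfl
    have := Finite.one_lt_card (α := ↥(Subgroup.center ↥S))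
    rw [hn] at this
    simp at this
  obtain ⟨c, hc⟩ := exists_prime_orderOf_dvd_card' (G := ↥(Subgroup.center ↥S)) 2
    (by rw [hn]; exact dvd_pow_self 2 hn0)
  set cg : G := ((c : ↥S) : G) with hcg
  have hcS : cg ∈ S := (c : ↥S).2
  have hco : orderOf cg = 2 := by
    rw [hcg, Subgroup.orderOf_coe, Subgroup.orderOf_coe, hc]
  have hc2 : cg * cg = 1 := by rw [← pow_two, ← hco, pow_orderOf_eq_one]
  have hc1 : cg ≠ 1 := fun h => by rw [h, orderOf_one] at hco; omega
  have hcomm : ∀ w ∈ S, w * cg = cg * w := fun w hw =>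
    congrArg Subtype.val (Subgroup.mem_center_iff.mp c.2 ⟨w, hw⟩)
  have hcz : cg = F.z := cent_x_invol' a (hcomm F.z hzS).symm (hSx cg hcS) hc2 hc1
  exact cent_x_invol' a (hcz ▸ hcomm g hgS) hg h2 h1

/-- the centraliser of `x` contains no four group -/
theorem no_four_x {u v : G} (hu : u * u = 1) (hv : v * v = 1) (hu1 : u ≠ 1) (hv1 : v ≠ 1)
    (hne : u ≠ v) (hc : u * v = v * u) (hux : u * el a xV = el a xV * u)
    (hvx : v * el a xV = el a xV * v) : False := by
  haveI : Fact (Nat.Prime 2) := ⟨Nat.prime_two⟩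
  set C := Subgroup.centralizer ({el a xV} : Set G) with hC
  have memC : ∀ w, w ∈ C ↔ w * el a xV = el a xV * w := fun w =>
    Subgroup.mem_centralizer_singleton_iff
  have hzC : F.z ∈ C := (memC _).mpr (by rw [el_x]; exact (H63.UFour.z_mu F _).symm)
  let U : Subgroup ↥C := Subgroup.closure {⟨u, (memC u).mpr hux⟩, ⟨v, (memC v).mpr hvx⟩}
  have hU : IsPGroup 2 ↥U := by
    haveI : IsMulCommutative ↥U := Subgroup.isMulCommutative_closure (by
      rintro p hp q hq
      rcases hp with rfl | rfl <;> rcases hq with rfl | rfl <;>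
        first | rfl | exact Subtype.ext hc | exact Subtype.ext hc.symm)
    intro w
    refine ⟨1, Subtype.ext ?_⟩
    have hw := w.2
    rw [Subgroup.coe_pow, pow_one, pow_two, Subgroup.coe_one]
    refine Subgroup.closure_induction (p := fun y _ => y * y = 1) ?_ (mul_one 1) ?_ ?_ hw
    · rintro y (rfl | rfl) <;> exact Subtype.ext (by assumption)
    · intro p q hp hq e1 e2
      have hpq : p * q = q * p :=
        congrArg Subtype.val (IsMulCommutative.is_comm.comm (⟨p, hp⟩ : ↥U) ⟨q, hq⟩)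
      rw [show p * q * (p * q) = p * (q * p) * q by group, ← hpq,
        show p * (p * q) * q = (p * p) * (q * q) by group, e1, e2, mul_one]
    · intro p _ e
      rw [← mul_inv_rev, e, inv_one]
  obtain ⟨P, hP⟩ := hU.exists_le_sylow
  -- a Sylow subgroup containing `z`
  have hzp : IsPGroup 2 ↥(Subgroup.zpowers (⟨F.z, hzC⟩ : ↥C)) := by
    refine IsPGroup.of_card (n := 1) ?_
    rw [Nat.card_zpowers, pow_one]
    exact orderOf_eq_prime (Subtype.ext (by rw [Subgroup.coe_pow, pow_two]; exact H63.UFour.z_sq F))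
      (fun h => F.z_ne (congrArg Subtype.val h))
  obtain ⟨P', hP'⟩ := hzp.exists_le_sylow
  obtain ⟨g, hg⟩ := MulAction.exists_smul_eq ↥C P P'
  have mem : ∀ w : ↥C, w ∈ (P : Subgroup ↥C) → g * w * g⁻¹ ∈ (P' : Subgroup ↥C) := by
    intro w hw
    rw [← hg, Sylow.coe_subgroup_smul]
    exact ⟨w, hw, by simp [MulAut.smul_def, MulAut.conj_apply]⟩
  let S : Subgroup G := (P' : Subgroup ↥C).map C.subtype
  have hS : IsPGroup 2 ↥S := P'.2.map _
  have hSx : ∀ w ∈ S, w * el a xV = el a xV * w := by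
    rintro _ ⟨w, _, rfl⟩; exact (memC _).mp w.2
  have key : ∀ (w : G) (hw : w ∈ C), (⟨w, hw⟩ : ↥C) ∈ U → w * w = 1 → w ≠ 1 →
      (g : G) * w * (g : G)⁻¹ = F.z := by
    intro w hw hwU w2 w1
    have hm := mem _ (hP hwU)
    refine sylow_unique a (hSx _ ⟨_, hm, rfl⟩) ?_ ?_ S hS ⟨_, hP' (Subgroup.mem_zpowers _), rfl⟩
      ⟨_, hm, rfl⟩ hSx
    · rw [conj_mul, w2]; simp
    · intro h; rw [mul_inv_eq_one, mul_eq_left] at h; exact w1 h
  have e1 := key u _ (Subgroup.subset_closure (Set.mem_insert _ _)) hu hu1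
  have e2 := key v _ (Subgroup.subset_closure (Set.mem_insert_of_mem _ rfl)) hv hv1
  exact hne (mul_left_cancel (mul_right_cancel (e1.trans e2.symm)))

theorem no_four_y {u v : G} (hu : u * u = 1) (hv : v * v = 1) (hu1 : u ≠ 1) (hv1 : v ≠ 1)
    (hne : u ≠ v) (hc : u * v = v * u) (hux : u * el a yV = el a yV * u)
    (hvx : v * el a yV = el a yV * v) : False := by
  have hs : F.s * el a yV * F.s⁻¹ = el a xV := by rw [el_x, el_y, F.s_mu]
  refine no_four_x a (u := F.s * u * F.s⁻¹) (v := F.s * v * F.s⁻¹) ?_ ?_ ?_ ?_ ?_ ?_ ?_ ?_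
  · rw [conj_mul, hu]; simp
  · rw [conj_mul, hv]; simp
  · intro h; rw [mul_inv_eq_one, mul_eq_left] at h; exact hu1 h
  · intro h; rw [mul_inv_eq_one, mul_eq_left] at h; exact hv1 h
  · intro h; exact hne (mul_left_cancel (mul_right_cancel h))
  · rw [conj_mul, conj_mul, hc]
  · rw [← hs, conj_mul, conj_mul, hux]
  · rw [← hs, conj_mul, conj_mul, hvx]

/-- conjugates of `y` inside `A` are singular -/
theorem q_of_conj_y {g : G} {v : V4} (h : g * el a yV * g⁻¹ = el a v) : qA v = 0 := by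
  by_contra hq
  obtain ⟨p, r, hp, hr, hp1, hr1, hpr, hc, hpv, hrv⟩ := a.four v hq
  have h' := conj_one_conj' (g := g) h
  refine no_four_y a (u := g⁻¹ * p * g) (v := g⁻¹ * r * g) ?_ ?_ ?_ ?_ ?_ ?_ ?_ ?_
  · rw [show g⁻¹ * p * g * (g⁻¹ * p * g) = g⁻¹ * (p * p) * g by group, hp]; group
  · rw [show g⁻¹ * r * g * (g⁻¹ * r * g) = g⁻¹ * (r * r) * g by group, hr]; group
  · intro e
    apply hp1
    have := congrArg (fun w => g * w * g⁻¹) e
    simpa [mul_assoc] using this
  · intro e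
    apply hr1
    have := congrArg (fun w => g * w * g⁻¹) e
    simpa [mul_assoc] using this
  · intro e; exact hpr (mul_left_cancel (mul_right_cancel e))
  · rw [show g⁻¹ * p * g * (g⁻¹ * r * g) = g⁻¹ * (p * r) * g by group, hc]; group
  · rw [← h', show g⁻¹ * p * g * (g⁻¹ * el a v * g) = g⁻¹ * (p * el a v) * g by group,
      show p * el a v = el a v * p from hpv]
    group
  · rw [← h', show g⁻¹ * r * g * (g⁻¹ * el a v * g) = g⁻¹ * (r * el a v) * g by group,
      show r * el a v = el a v * r from hrv]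
    group
where
  conj_one_conj' {g x b : G} (h : g * x * g⁻¹ = b) : g⁻¹ * b * g = x := by
    rw [← h]; group

/-- `K = ⟨x, [z, C(x)]⟩` -/
def kSub : Subgroup G :=
  Subgroup.closure ({el a xV} ∪ {w : G | ∃ g : G, g * el a xV = el a xV * g ∧
    w = F.z * g * F.z⁻¹ * g⁻¹})

theorem z_comm_x : F.z * el a xV = el a xV * F.z := by
  rw [el_x]; exact (H63.UFour.z_mu F _).symm

theorem kSub_cent {k : G} (hk : k ∈ kSub a) : k * el a xV = el a xV * k := by
  refine Subgroup.closure_induction (p := fun y _ => Commute y (el a xV)) ?_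
    (Commute.one_left _) (fun p q _ _ h h' => h.mul_left h') (fun p _ h => h.inv_left) hk
  rintro w (rfl | ⟨g, hg, rfl⟩)
  · exact Commute.refl _
  · have h1 : Commute F.z (el a xV) := z_comm_x a
    have h2 : Commute g (el a xV) := hg
    exact ((h1.mul_left h2).mul_left h1.inv_left).mul_left h2.inv_left

theorem kSub_conj {g k : G} (hgx : g * el a xV = el a xV * g) (hk : k ∈ kSub a) :
    g * k * g⁻¹ ∈ kSub a := by
  refine Subgroup.closure_induction (p := fun y _ => g * y * g⁻¹ ∈ kSub a) ?_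
    (by simp) (fun p q _ _ h h' => ?_) (fun p _ h => ?_) hk
  · rintro w (rfl | ⟨h, hh, rfl⟩)
    · rw [hgx, mul_inv_cancel_right]; exact Subgroup.subset_closure (Or.inl rfl)
    · rw [show g * (F.z * h * F.z⁻¹ * h⁻¹) * g⁻¹ =
        (F.z * g * F.z⁻¹ * g⁻¹)⁻¹ * (F.z * (g * h) * F.z⁻¹ * (g * h)⁻¹) by group]
      exact mul_mem (inv_mem (Subgroup.subset_closure (Or.inr ⟨g, hgx, rfl⟩)))
        (Subgroup.subset_closure (Or.inr ⟨g * h, Commute.mul_left hgx hh, rfl⟩))
  · rw [← conj_mul]; exact mul_mem h h'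
  · rw [← conj_inv]; exact inv_mem h

theorem el_x_mem : el a xV ∈ kSub a := Subgroup.subset_closure (Or.inl rfl)

/-- `K` has odd order -/
theorem kSub_odd : Odd (Nat.card ↥(kSub a)) := by
  haveI : Fact (Nat.Prime 2) := ⟨Nat.prime_two⟩
  set C := Subgroup.centralizer ({el a xV} : Set G) with hC
  have memC : ∀ w, w ∈ C ↔ w * el a xV = el a xV * w := fun w =>
    Subgroup.mem_centralizer_singleton_iff
  set zc : ↥C := ⟨F.z, (memC _).mpr (z_comm_x a)⟩
  have hzo : orderOf zc = 2 :=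
    orderOf_eq_prime (Subtype.ext (by rw [Subgroup.coe_pow, pow_two]; exact H63.UFour.z_sq F))
      (fun h => F.z_ne (congrArg Subtype.val h))
  have hzp : IsPGroup 2 ↥(Subgroup.zpowers zc) :=
    IsPGroup.of_card (n := 1) (by rw [Nat.card_zpowers, hzo, pow_one])
  obtain ⟨P, hP⟩ := hzp.exists_le_sylow
  have hzP : zc ∈ (P : Subgroup ↥C) := hP (Subgroup.mem_zpowers _)
  obtain ⟨N, hNn, hNodd, hNz⟩ := Cfsg.Agent.S0215.result P zc hzo hzP fun g hg => by
    refine Subtype.ext (sylow_unique a ((memC _).mp (g * zc * g⁻¹).2) ?_ ?_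
      ((P : Subgroup ↥C).map C.subtype) (P.2.map _) ⟨_, hzP, rfl⟩ ⟨_, hg, rfl⟩ ?_)
    · simp only [Subgroup.coe_mul, Subgroup.coe_inv]
      rw [conj_mul, show (zc : G) * (zc : G) = 1 from H63.UFour.z_sq F]; simp
    · simp only [Subgroup.coe_mul, Subgroup.coe_inv]
      intro h
      rw [mul_inv_eq_one, mul_eq_left] at h
      exact F.z_ne h
    · rintro _ ⟨w, _, rfl⟩; exact (memC _).mp w.2
  set xc : ↥C := ⟨el a xV, (memC _).mpr rfl⟩
  have hcomm : ∀ n ∈ N, n * xc = xc * n := fun n _ => Subtype.ext ((memC _).mp (n : ↥C).2)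
  have hle : kSub a ≤ (N ⊔ Subgroup.zpowers xc).map C.subtype := by
    rw [kSub, Subgroup.closure_le]
    rintro w (rfl | ⟨g, hg, rfl⟩)
    · exact ⟨xc, Subgroup.mem_sup_right (Subgroup.mem_zpowers _), rfl⟩
    · exact ⟨_, Subgroup.mem_sup_left (hNz ⟨g, (memC _).mpr hg⟩), rfl⟩
  haveI := hNn
  rw [← Nat.not_even_iff_odd]
  intro hev
  obtain ⟨w, hw⟩ := exists_prime_orderOf_dvd_card' (G := ↥(kSub a)) 2 hev.two_dvd
  obtain ⟨v, hv, hvw⟩ := Subgroup.mem_map.mp (hle w.2)
  have hv' : v ∈ (↑(N ⊔ Subgroup.zpowers xc) : Set ↥C) := hv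
  rw [Subgroup.normal_mul] at hv'
  obtain ⟨n, hn, _, ⟨i, rfl⟩, rfl⟩ := Set.mem_mul.mp hv'
  have hcn : Commute n (xc ^ i) := Commute.zpow_right (hcomm n hn) i
  have hx3 : xc ^ 3 = 1 := Subtype.ext (by rw [Subgroup.coe_pow]; exact el_cube a xV)
  have h1 : (n * xc ^ i) ^ (Nat.card ↥N * 3) = 1 := by
    have hN : n ^ Nat.card ↥N = 1 :=
      congrArg Subtype.val (pow_card_eq_one' (x := (⟨n, hn⟩ : ↥N)))
    rw [hcn.mul_pow, pow_mul, hN, one_pow, one_mul, mul_comm, pow_mul, ← zpow_natCast (xc ^ i),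
      ← zpow_mul, mul_comm i, zpow_mul, zpow_natCast, hx3, one_zpow, one_pow]
  have h2 : orderOf (n * xc ^ i) = 2 := by
    rw [← hw, ← Subgroup.orderOf_coe (a := w), ← hvw]
    exact (orderOf_injective C.subtype C.subtype_injective _).symm
  have h3 := orderOf_dvd_of_pow_eq_one h1
  rw [h2] at h3
  have h4 : Odd (Nat.card ↥N * 3) := hNodd.mul (by decide)
  exact Nat.not_even_iff_odd.mpr h4 (even_iff_two_dvd.mpr h3)

theorem iV_mem (c d : ZMod 3) : el a (iV c d) ∈ kSub a := by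
  have h : F.z * el a (iV c d) * F.z⁻¹ * (el a (iV c d))⁻¹ ∈ kSub a :=
    Subgroup.subset_closure (Or.inr ⟨_, (el_comm a _ _).eq, rfl⟩)
  have e : F.z * el a (iV c d) * F.z⁻¹ = el a (-iV c d) :=
    (a.z_act _).trans (by rw [z_I]; rfl)
  rw [e, el_neg, ← mul_inv_rev] at h
  have h2 : el a (iV c d) = ((el a (iV c d) * el a (iV c d))⁻¹) := by
    refine eq_inv_of_mul_eq_one_left ?_
    rw [← mul_assoc, ← pow_three', el_cube]
  rw [h2]; exact h

/-- fixed points of `z` on `K` -/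
theorem kSub_fix {k : G} (hk : k ∈ kSub a) (hz : k * F.z = F.z * k) :
    ∃ n : Fin 3, k = el a xV ^ n.val := by
  have hodd := kSub_odd a
  have ho : ∀ w ∈ kSub a, Odd (orderOf w) := fun w hw =>
    hodd.of_dvd_nat (Subgroup.orderOf_dvd_natCard _ hw)
  obtain ⟨p, rfl, hp3⟩ := H63.UFour.odd_cent F hz (ho _ hk)
  have hx := kSub_cent a hk
  rw [el_x, ← map_mul, ← map_mul, H63.UFour.mu_eq] at hx
  have hw : ∀ v : Bool, SgnEq (((1, bif v then sI else sJ) * p *
      ((1 : SL2), bif v then sI else sJ)⁻¹ * p⁻¹) ^ 3) 1 := by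
    intro v
    set w : SL2 × SL2 := (1, bif v then sI else sJ)
    have hwx : F.mu w * el a xV = el a xV * F.mu w := by
      rw [el_x, ← map_mul, ← map_mul]; simp [w]
    have hc : F.mu w * F.mu p * (F.mu w)⁻¹ * (F.mu p)⁻¹ ∈ kSub a :=
      mul_mem (kSub_conj a hwx hk) (inv_mem hk)
    rw [← map_inv, ← map_inv, ← map_mul, ← map_mul, ← map_mul] at hc
    obtain ⟨q, hq, hq3⟩ := H63.UFour.odd_cent F (H63.UFour.z_mu F _) (ho _ hc)
    rw [← H63.UFour.mu_eq F, map_pow, hq, ← map_pow, H63.UFour.mu_eq]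
    exact hq3
  obtain ⟨i, hi⟩ := odd_comm p.1 p.2 true hp3 (hw true) hx
  refine ⟨i, ?_⟩
  rw [el_x, ← map_pow, Prod.pow_mk, one_pow]
  exact (H63.UFour.mu_eq F).mpr hi

theorem zKz {k : G} (hk : k ∈ kSub a) : F.z * k * F.z⁻¹ ∈ kSub a :=
  kSub_conj a (z_comm_x a) hk

theorem kSub_inv {k : G} (hk : k ∈ kSub a) :
    ∃ n : ℕ, F.z * k * F.z⁻¹ = k⁻¹ * el a xV ^ n := by
  have h := H63.UFour.invert_mod (H63.UFour.z_sq F) (kSub_odd a) (fun o ho => zKz a ho)
    (B := Subgroup.zpowers (el a xV)) ?_ ?_ hk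
  · obtain ⟨n, hn⟩ := (mem_powers_iff_mem_zpowers).mpr h
    simp only at hn
    exact ⟨n, by rw [hn]; group⟩
  · intro o ho b hb
    obtain ⟨n, rfl⟩ := (mem_powers_iff_mem_zpowers).mpr hb
    rw [← conj_pow, kSub_cent a ho, mul_inv_cancel_right]
    exact pow_mem (Subgroup.mem_zpowers _) _
  · intro o ho hfix
    obtain ⟨n, rfl⟩ := kSub_fix a ho (mul_inv_eq_iff_eq_mul.mp hfix).symm
    exact pow_mem (Subgroup.mem_zpowers _) _

theorem kSub_comm {p q : G} (hp : p ∈ kSub a) (hq : q ∈ kSub a) :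
    ∃ n : ℕ, p * q = q * p * el a xV ^ n := by
  obtain ⟨i, hi⟩ := kSub_inv a hp
  obtain ⟨j, hj⟩ := kSub_inv a hq
  obtain ⟨l, hl⟩ := kSub_inv a (mul_mem hp hq)
  have hc : ∀ n : ℕ, ∀ w ∈ kSub a, Commute (el a xV ^ n) w := fun n w hw =>
    (Commute.pow_left (kSub_cent a hw).symm n)
  have e : p⁻¹ * q⁻¹ * el a xV ^ (i + j) = q⁻¹ * p⁻¹ * el a xV ^ l := by
    rw [← mul_inv_rev p q, ← hl, ← conj_mul, hi, hj, pow_add]
    simp only [mul_assoc]
    rw [← mul_assoc (el a xV ^ i) q⁻¹, (hc i _ (inv_mem hq)).eq, mul_assoc]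
  obtain ⟨m, hm⟩ : ∃ m : ℕ, el a xV ^ m = el a xV ^ l * (el a xV ^ (i + j))⁻¹ := by
    refine ⟨l + 2 * (i + j), ?_⟩
    rw [pow_add, mul_comm 2 (i + j), pow_mul, pow_two]
    congr 1
    refine eq_inv_of_mul_eq_one_left ?_
    rw [← pow_three', ← pow_mul, mul_comm, pow_mul, el_cube, one_pow]
  refine ⟨m, ?_⟩
  have h3 : p⁻¹ * q⁻¹ = q⁻¹ * p⁻¹ * el a xV ^ m := by
    rw [hm, ← mul_assoc, ← e]; simp [mul_assoc]
  have hmq : Commute (el a xV ^ m) (q * p) := (hc m _ (mul_mem hq hp))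
  calc p * q = p * q * (p⁻¹ * q⁻¹ * (q * p)) := by group
    _ = p * q * (q⁻¹ * p⁻¹ * el a xV ^ m * (q * p)) := by rw [h3]
    _ = el a xV ^ m * (q * p) := by group
    _ = _ := hmq.eq

theorem cube_hom {p q : G} (hp : p ∈ kSub a) (hq : q ∈ kSub a) : (p * q) ^ 3 = p ^ 3 * q ^ 3 := by
  obtain ⟨n, hn⟩ := kSub_comm a hq hp
  set c := el a xV ^ n
  have hc : ∀ w ∈ kSub a, c * w = w * c := fun w hw =>
    (Commute.pow_left (kSub_cent a hw).symm n).eq
  have hc3 : c * c * c = 1 := by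
    rw [← pow_three', ← pow_mul, mul_comm, pow_mul, el_cube, one_pow]
  have hcw : ∀ w ∈ kSub a, ∀ r, c * (w * r) = w * (c * r) := fun w hw r => by
    rw [← mul_assoc, hc w hw, mul_assoc]
  have hqp : ∀ r, q * (p * r) = p * (q * (c * r)) := fun r => by
    rw [← mul_assoc q p, hn]; simp only [mul_assoc]
  have hn' : q * p = p * (q * c) := by rw [hn, mul_assoc]
  have hc3' : c * (c * c) = 1 := by rw [← mul_assoc, hc3]
  simp only [pow_three, mul_assoc, hqp, hn', hcw p hp, hcw q hq, hc p hp, hc q hq, hc3', mul_one]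

/-- the 3-part of `K` -/
def rSub : Subgroup G where
  carrier := {k | k ∈ kSub a ∧ ∃ n : ℕ, k ^ 3 ^ n = 1}
  one_mem' := ⟨one_mem _, 0, one_pow _⟩
  inv_mem' := fun {k} h => ⟨inv_mem h.1, h.2.imp fun n hn => by rw [inv_pow, hn, inv_one]⟩
  mul_mem' := fun {p q} hp hq => by
    obtain ⟨hpK, m, hm⟩ := hp
    obtain ⟨hqK, n, hn⟩ := hq
    refine ⟨mul_mem hpK hqK, m + n, ?_⟩
    have key : ∀ l : ℕ, ∀ p q : G, p ∈ kSub a → q ∈ kSub a →
        (p * q) ^ 3 ^ l = p ^ 3 ^ l * q ^ 3 ^ l := by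
      intro l
      induction l with
      | zero => intro p q _ _; simp
      | succ l ih =>
        intro p q hp hq
        rw [pow_succ', pow_mul, pow_mul, pow_mul, cube_hom a hp hq,
          ih _ _ (pow_mem hp 3) (pow_mem hq 3)]
    rw [key _ p q hpK hqK, pow_add, pow_mul, hm, one_pow, one_mul, mul_comm, pow_mul, hn, one_pow]

theorem mem_rSub_of_cube {k : G} (hk : k ∈ kSub a) (h3 : k ^ 3 = 1) : k ∈ rSub a :=
  ⟨hk, 1, by rw [pow_one, h3]⟩

theorem rSub_conj {g k : G} (hgx : g * el a xV = el a xV * g) (hk : k ∈ rSub a) :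
    g * k * g⁻¹ ∈ rSub a :=
  ⟨kSub_conj a hgx hk.1, hk.2.imp fun n hn => by rw [conj_pow, hn]; simp⟩

/-- `z`-coordinates of elements of `A` inside `R` -/
theorem rSub_inter {v : V4} (h : el a v ∈ rSub a) : bA v xV = 0 := by
  by_contra hl
  -- remove the `x`- and `I`-parts
  have h1 : el a (bA v xV • yV) ∈ kSub a := by
    have e : bA v xV • yV = v + -(bA v yV • xV) + -iV (v 2) (v 3) := by
      conv_rhs => arg 1; arg 1; rw [v4_split v]
      abel
    rw [e, el_add, el_add, el_neg, el_neg]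
    refine mul_mem (mul_mem h.1 (inv_mem ?_)) (inv_mem (iV_mem a _ _))
    obtain ⟨n, hn⟩ : ∃ n : ℕ, el a (bA v yV • xV) = el a xV ^ n := by
      generalize bA v yV = k
      refine ⟨k.val, ?_⟩
      rcases z3_cases k with rfl | rfl | rfl
      · simp [el_zero]
      · simp [ZMod.val_one]
      · rw [add_smul, one_smul, el_add, show ((1 : ZMod 3) + 1).val = 2 from rfl, pow_two]
    rw [hn]; exact pow_mem (el_x_mem a) _
  have hy : el a yV ∈ kSub a := by
    have h' : bA v xV = 1 ∨ bA v xV = 2 := by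
      revert hl; generalize bA v xV = k; revert k; decide
    rcases h' with e | e <;> rw [e] at h1
    · simpa using h1
    · have : yV = (2 : ZMod 3) • yV + (2 : ZMod 3) • yV := by decide +kernel
      rw [this, el_add]; exact mul_mem h1 h1
  obtain ⟨n, hn⟩ := kSub_fix a hy (by rw [el_y]; exact H63.UFour.z_mu F _)
  rw [el_y, el_x, ← map_pow, Prod.pow_mk, one_pow, H63.UFour.mu_eq] at hn
  revert hn; revert n; decide +kernel

/-- `j` -/
def jel : G := F.mu ((1 : SL2), sJ)

theorem jel_x : jel (F := F) * el a xV = el a xV * jel (F := F) := by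
  rw [el_x, jel, ← map_mul, ← map_mul]; simp

theorem jel_sq : jel (F := F) * jel (F := F) = F.z := by
  rw [jel, ← F.mu_neg, ← map_mul, H63.UFour.mu_eq]; decide +kernel

/-- `m (c,d) = j α(c,d) j⁻¹` -/
def mel (c d : ZMod 3) : G := jel (F := F) * el a (iV c d) * (jel (F := F))⁻¹

theorem mel_mem (c d : ZMod 3) : mel a c d ∈ rSub a :=
  rSub_conj a (jel_x a) (mem_rSub_of_cube a (iV_mem a c d) (el_cube a _))

theorem mel_add (c d c' d' : ZMod 3) : mel a (c + c') (d + d') = mel a c d * mel a c' d' := by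
  rw [mel, mel, mel, conj_mul, ← el_add, iV_add]

theorem z_mel (c d : ZMod 3) : F.z * mel a c d * F.z⁻¹ = mel a (-c) (-d) := by
  have hz : F.z * jel (F := F) = jel (F := F) * F.z := (H63.UFour.z_mu F _).symm
  have e : F.z * el a (iV c d) * F.z⁻¹ = el a (iV (-c) (-d)) :=
    (a.z_act _).trans (by
      rw [z_I, iV_neg]; rfl)
  rw [mel, mel, ← e]
  calc F.z * (jel (F := F) * el a (iV c d) * (jel (F := F))⁻¹) * F.z⁻¹
      = (F.z * jel (F := F)) * el a (iV c d) * (F.z * jel (F := F))⁻¹ := by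
        rw [mul_inv_rev]; simp only [mul_assoc]
    _ = (jel (F := F) * F.z) * el a (iV c d) * (jel (F := F) * F.z)⁻¹ := by rw [hz]
    _ = _ := by rw [mul_inv_rev]; simp only [mul_assoc]

/-- `x I` meets `j I j⁻¹` trivially -/
theorem mel_trivial {c d : ZMod 3} {w : V4} (h : mel a c d = el a w) : c = 0 ∧ d = 0 := by
  by_contra hne
  set J := jel (F := F)
  have hy : Commute (mel a c d) (el a yV) := h ▸ el_comm a w yV
  have h1 : Commute (el a (iV c d)) (el a yV) := el_comm a _ _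
  have h2 : Commute (el a (iV c d)) (J⁻¹ * el a yV * J) := by
    show _ = _
    have h3 := congrArg (fun t => J⁻¹ * t * J) hy.eq
    simp only [mel] at h3
    rw [show jel (F := F) = J from rfl] at h3
    calc el a (iV c d) * (J⁻¹ * el a yV * J)
        = J⁻¹ * (J * el a (iV c d) * J⁻¹ * el a yV) * J := by group
      _ = J⁻¹ * (el a yV * (J * el a (iV c d) * J⁻¹)) * J := h3
      _ = _ := by group
  -- the quaternion group of the second factor is generated by the two conjugates of `y`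
  have hz : Commute (el a (iV c d)) F.z := by
    have e : F.z = el a yV * (J⁻¹ * el a yV * J)⁻¹ * (el a yV * (J⁻¹ * el a yV * J)⁻¹) := by
      simp only [J, jel, el_y, ← map_inv, ← map_mul, ← F.mu_neg]
      rw [H63.UFour.mu_eq]
      decide +kernel
    rw [e]
    exact ((h1.mul_right h2.inv_right).mul_right (h1.mul_right h2.inv_right))
  have e2 : F.z * el a (iV c d) * F.z⁻¹ = el a (iV c d) := by
    rw [← hz.eq, mul_inv_cancel_right]
  have e3 := (a.z_act (iV c d)).symm.trans e2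
  have e4 := el_inj a e3
  rw [z_I] at e4
  exact hne (z_fix_I c d e4)

/-- data of an element of `R` normalising `A` -/
def Norm (r : G) : Prop := ∀ v : V4, ∃ w : V4, r * el a v * r⁻¹ = el a w

theorem rSub_i {r : G} (hr : r ∈ rSub a) (c d : ZMod 3) :
    ∃ k : ZMod 3, r * el a (iV c d) * r⁻¹ = el a (iV c d + k • xV) := by
  obtain ⟨n, hn⟩ := kSub_comm a hr.1 (iV_mem a c d)
  refine ⟨(n : ZMod 3), ?_⟩
  have hxn : el a ((n : ZMod 3) • xV) = el a xV ^ n := by
    rw [Nat.cast_smul_eq_nsmul, el, ofAdd_nsmul, map_pow]; rfl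
  rw [el_add, hxn, hn]
  calc el a (iV c d) * r * el a xV ^ n * r⁻¹
      = el a (iV c d) * (r * el a xV ^ n * r⁻¹) := by group
    _ = _ := by rw [← conj_pow, kSub_cent a hr.1, mul_inv_cancel_right]

theorem rSub_y {r : G} (hr : r ∈ rSub a) (hn : Norm a r) :
    ∃ (c d k : ZMod 3), r * el a yV * r⁻¹ = el a (yV + iV c d + k • xV) ∧ qA (iV c d) + k = 0 := by
  obtain ⟨w, hw⟩ := hn yV
  have hq := q_of_conj_y a hw
  have hy : el a yV * el a xV = el a xV * el a yV := (el_comm a _ _).eq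
  have h2 : el a (w + -yV) ∈ rSub a := by
    rw [el_add, el_neg, ← hw, show r * el a yV * r⁻¹ * (el a yV)⁻¹ =
      r * (el a yV * r⁻¹ * (el a yV)⁻¹) by group]
    exact mul_mem hr (rSub_conj a hy (inv_mem hr))
  have hb := rSub_inter a h2
  obtain ⟨c, d, k, rfl⟩ : ∃ c d k : ZMod 3, w = yV + iV c d + k • xV := by
    clear hw hq h2
    refine ⟨w 2, w 3, bA w yV, ?_⟩
    revert w
    decide +kernel
  exact ⟨c, d, k, hw, (q_y_add c d k) ▸ hq⟩

theorem el_induct {P : V4 → Prop} (hx : P xV) (hy : P yV) (hi : ∀ c d, P (iV c d))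
    (hadd : ∀ u v, P u → P v → P (u + v)) (v : V4) : P v := by
  have hs : ∀ (k : ZMod 3) (u : V4), P u → P (k • u) := by
    intro k u hu
    have h0 : P (0 : V4) := by
      have := hi 0 0
      rwa [iV_zero] at this
    have := z3_cases k
    rcases this with rfl | rfl | rfl
    · rwa [zero_smul]
    · rwa [one_smul]
    · rw [add_smul, one_smul]; exact hadd _ _ hu hu
  rw [v4_split v]
  exact hadd _ _ (hadd _ _ (hs _ _ hx) (hs _ _ hy)) (hi _ _)

theorem norm_of_basis {r : G} (hr : r ∈ rSub a) (hy : ∃ w, r * el a yV * r⁻¹ = el a w) :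
    Norm a r := by
  refine el_induct (P := fun v => ∃ w, r * el a v * r⁻¹ = el a w) ?_ hy ?_ ?_
  · exact ⟨xV, by rw [kSub_cent a hr.1, mul_inv_cancel_right]⟩
  · intro c d; obtain ⟨k, hk⟩ := rSub_i a hr c d; exact ⟨_, hk⟩
  · rintro u v ⟨p, hp⟩ ⟨q, hq⟩
    exact ⟨p + q, by rw [el_add, ← conj_mul, hp, hq, el_add]⟩

/-- an element of `R` centralising `I` lies in `A` -/
theorem rSub_kernel {r : G} (hr : r ∈ rSub a)
    (hI : ∀ c d, r * el a (iV c d) = el a (iV c d) * r) : ∃ w, r = el a w := by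
  classical
  -- `T` = such elements times `A`
  let W : Subgroup G :=
    { carrier := {w | w ∈ rSub a ∧ ∀ c d, Commute w (el a (iV c d))}
      one_mem' := ⟨one_mem _, fun _ _ => Commute.one_left _⟩
      mul_mem' := fun h h' => ⟨mul_mem h.1 h'.1, fun c d => (h.2 c d).mul_left (h'.2 c d)⟩
      inv_mem' := fun h => ⟨inv_mem h.1, fun c d => (h.2 c d).inv_left⟩ }
  let A : Subgroup G := a.alpha.range
  have memA : ∀ w, w ∈ A ↔ ∃ v, el a v = w :=
    fun w => ⟨fun ⟨v, hv⟩ => ⟨v.toAdd, hv⟩, fun ⟨v, hv⟩ => ⟨_, hv⟩⟩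
  have elx : ∀ v, el a v * el a xV = el a xV * el a v := fun v => (el_comm a _ _).eq
  have hnorm : A ≤ Subgroup.normalizer (W : Set G) := by
    intro g hg
    obtain ⟨v, rfl⟩ := (memA g).mp hg
    have key : ∀ v w, w ∈ W → el a v * w * (el a v)⁻¹ ∈ W := fun v w hw =>
      ⟨rSub_conj a (elx v) hw.1, fun c d => by
        have h1 : Commute (el a v) (el a (iV c d)) := el_comm a _ _
        exact (h1.mul_left (hw.2 c d)).mul_left h1.inv_left⟩
    rw [Subgroup.mem_normalizer_iff]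
    intro w
    refine ⟨key v w, fun h => ?_⟩
    have := key (-v) _ h
    rw [el_neg] at this
    simpa [mul_assoc] using this
  by_contra hc
  have hWA : ¬ W ≤ A := fun h => hc (by
    obtain ⟨w, hw⟩ := (memA r).mp (h ⟨hr, hI⟩); exact ⟨w, hw.symm⟩)
  haveI : Fact (Nat.Prime 3) := ⟨Nat.prime_three⟩
  have hW3 : IsPGroup 3 ↥W := fun w => w.2.1.2.imp fun n hn => Subtype.ext (by simpa using hn)
  have hA3 : IsPGroup 3 ↥A := by
    rintro ⟨w, hw⟩
    obtain ⟨v, rfl⟩ := (memA w).mp hw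
    exact ⟨1, Subtype.ext (by simpa using el_cube a v)⟩
  set T := A ⊔ W with hT
  have hT3 : IsPGroup 3 ↥T := hA3.to_sup_of_normal_right' hW3 hnorm
  haveI : Finite ↥T := inferInstance
  haveI : Group.IsNilpotent ↥T := hT3.isNilpotent
  have hlt : A.subgroupOf T < ⊤ := by
    rw [lt_top_iff_ne_top, Ne, Subgroup.subgroupOf_eq_top]
    exact fun h => hWA (le_trans le_sup_right h)
  obtain ⟨⟨t, htT⟩, htN, htA⟩ :=
    SetLike.exists_of_lt (normalizerCondition_of_isNilpotent _ hlt)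
  have htA' : t ∉ A := htA
  have htN' : ∀ v, ∃ w, t * el a v * t⁻¹ = el a w := by
    intro v
    have h := (Subgroup.mem_normalizer_iff.mp htN
      ⟨el a v, Subgroup.mem_sup_left ((memA _).mpr ⟨v, rfl⟩)⟩).mp ((memA _).mpr ⟨v, rfl⟩)
    obtain ⟨w, hw⟩ := (memA _).mp h
    exact ⟨w, hw.symm⟩
  obtain ⟨p, hp, q, hq, rfl⟩ : ∃ p ∈ A, ∃ q ∈ W, p * q = t := by
    have : t ∈ (↑(A ⊔ W) : Set G) := htT
    rw [Subgroup.coe_mul_of_left_le_normalizer_right A W hnorm] at this
    exact Set.mem_mul.mp this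
  obtain ⟨pv, rfl⟩ := (memA p).mp hp
  have hqn : Norm a q := by
    intro v
    obtain ⟨w, hw⟩ := htN' v
    refine ⟨w, ?_⟩
    calc q * el a v * q⁻¹ = (el a pv)⁻¹ * (el a pv * q * el a v * (el a pv * q)⁻¹) * el a pv := by group
      _ = (el a pv)⁻¹ * el a w * el a pv := by rw [hw]
      _ = el a w := by rw [← el_neg, ← el_add, ← el_add]; congr 1; abel
  obtain ⟨c, d, k, hk, hq0⟩ := rSub_y a hq.1 hqn
  have hqq : Norm a (q * q) := fun v => by
    obtain ⟨w, hw⟩ := hqn v
    obtain ⟨w', hw'⟩ := hqn w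
    exact ⟨w', by rw [← hw', ← hw]; group⟩
  have hki : q * el a (iV c d) * q⁻¹ = el a (iV c d) := by
    rw [(hq.2 c d).eq, mul_inv_cancel_right]
  have hkx : q * el a (k • xV) * q⁻¹ = el a (k • xV) := by
    have := z3_cases k
    have hx : Commute q (el a xV) := kSub_cent a hq.1.1
    rcases this with rfl | rfl | rfl
    · simp [el_zero]
    · rw [one_smul, hx.eq, mul_inv_cancel_right]
    · rw [add_smul, one_smul, el_add, (hx.mul_right hx).eq, mul_inv_cancel_right]
  have hk2 : q * q * el a yV * (q * q)⁻¹ = el a (yV + iV (c + c) (d + d) + (k + k) • xV) := by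
    calc q * q * el a yV * (q * q)⁻¹ = q * (q * el a yV * q⁻¹) * q⁻¹ := by group
      _ = q * (el a yV * el a (iV c d) * el a (k • xV)) * q⁻¹ := by rw [hk, el_add, el_add]
      _ = (q * el a yV * q⁻¹) * (q * el a (iV c d) * q⁻¹) * (q * el a (k • xV) * q⁻¹) := by group
      _ = _ := by
        rw [hki, hkx, hk, ← el_add, ← el_add, ← iV_add, add_smul]
        congr 1; abel
  have hq2 : qA (iV (c + c) (d + d)) + (k + k) = 0 := by
    rw [← q_y_add]; exact q_of_conj_y a hk2
  obtain ⟨rfl, rfl, rfl⟩ := kernel_arith c d k hq0 hq2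
  have hy : q * el a yV * q⁻¹ = el a yV := by
    rw [hk, zero_y]
  have hcent : ∀ v : V4, Commute q (el a v) :=
    el_induct (P := fun v => Commute q (el a v)) (kSub_cent a hq.1.1)
      (mul_inv_eq_iff_eq_mul.mp hy) (fun c d => hq.2 c d)
      (fun u v hu hv => by rw [el_add]; exact hu.mul_right hv)
  have hqA : q ∈ A := a.cent q (fun v => (hcent v).eq)
  exact htA' (A.mul_mem hp hqA)

/-- decomposition of `R` -/
theorem rSub_decomp {r : G} (hr : r ∈ rSub a) :
    ∃ (c d : ZMod 3) (w : V4), r = el a w * mel a c d := by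
  classical
  choose k hk using fun (w : ↥(rSub a)) (c : ZMod 3) (d : ZMod 3) => rSub_i a w.2 c d
  -- the row of `r` is determined by its values on the two basis vectors
  have ext : ∀ u w : ↥(rSub a), k u 1 0 = k w 1 0 → k u 0 1 = k w 0 1 →
      ∀ c d, Commute ((w : G)⁻¹ * u) (el a (iV c d)) := by
    intro u w h1 h2 c d
    have base : ∀ c d, k u c d = k w c d → Commute ((w : G)⁻¹ * u) (el a (iV c d)) := by
      intro c d h
      have e : (u : G) * el a (iV c d) * (u : G)⁻¹ = (w : G) * el a (iV c d) * (w : G)⁻¹ := by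
        rw [hk u c d, hk w c d, h]
      show _ = _
      rw [mul_inv_eq_iff_eq_mul] at e
      rw [mul_assoc, e]
      group
    obtain ⟨p, q, hpq⟩ := span_I 1 0 c d (by decide)
    rw [hpq]
    have b1 := base 1 0 h1
    have b2 : Commute ((w : G)⁻¹ * u) (el a (iV 0 (-1))) := by
      have := (base 0 1 h2).inv_right
      rwa [← el_neg, show -iV 0 1 = iV 0 (-1) by decide +kernel] at this
    have hs : ∀ (s : ZMod 3) (v : V4), Commute ((w : G)⁻¹ * u) (el a v) →
        Commute ((w : G)⁻¹ * u) (el a (s • v)) := by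
      intro s v hv
      have := z3_cases s
      rcases this with rfl | rfl | rfl
      · rw [zero_smul, el_zero]; exact Commute.one_right _
      · rwa [one_smul]
      · rw [add_smul, one_smul, el_add]; exact hv.mul_right hv
    rw [el_add]
    exact (hs p _ b1).mul_right (hs q _ b2)
  let row : ↥(rSub a) → ZMod 3 × ZMod 3 := fun w => (k w 1 0, k w 0 1)
  let mf : ZMod 3 × ZMod 3 → ↥(rSub a) := fun p => ⟨mel a p.1 p.2, mel_mem a p.1 p.2⟩
  have inj : Function.Injective (fun p => row (mf p)) := by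
    intro p q h
    obtain ⟨h1, h2⟩ := Prod.mk.inj h
    have hc := ext (mf p) (mf q) h1 h2
    obtain ⟨w, hw⟩ := rSub_kernel a (mul_mem (inv_mem (mf q).2) (mf p).2) (fun c d => (hc c d).eq)
    have hm : mel a (p.1 - q.1) (p.2 - q.2) = el a w := by
      rw [← hw]
      show _ = (mel a q.1 q.2)⁻¹ * mel a p.1 p.2
      rw [eq_inv_mul_iff_mul_eq, ← mel_add, add_sub_cancel, add_sub_cancel]
    obtain ⟨e1, e2⟩ := mel_trivial a hm
    exact Prod.ext (sub_eq_zero.mp e1) (sub_eq_zero.mp e2)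
  obtain ⟨p, hp⟩ := (Finite.injective_iff_surjective.mp inj) (row ⟨r, hr⟩)
  obtain ⟨h1, h2⟩ := Prod.mk.inj hp
  have hc := ext ⟨r, hr⟩ (mf p) h1.symm h2.symm
  obtain ⟨w, hw⟩ := rSub_kernel a (mul_mem (inv_mem (mf p).2) hr) (fun c d => (hc c d).eq)
  obtain ⟨n, hn⟩ := kSub_comm a (mel_mem a p.1 p.2).1 (show el a w ∈ kSub a from
    hw ▸ (mul_mem (inv_mem (mf p).2.1) hr.1))
  refine ⟨p.1, p.2, w + (n : ℕ) • xV, ?_⟩
  have hxn : el a ((n : ℕ) • xV) = el a xV ^ n := by
    rw [el, ofAdd_nsmul, map_pow]; rfl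
  have hr' : r = mel a p.1 p.2 * el a w := by
    rw [← hw]
    show r = mel a p.1 p.2 * ((mel a p.1 p.2)⁻¹ * r)
    group
  rw [hr', hn, el_add, hxn, mul_assoc, mul_assoc,
    (Commute.pow_left (kSub_cent a (mel_mem a p.1 p.2).1).symm n).eq]

theorem tau_mel (c d : ZMod 3) : F.tau * mel a c d * F.tau⁻¹ = mel a (-d) c := by
  have hj : F.tau * jel (F := F) * F.tau⁻¹ = jel (F := F) * F.z := by
    rw [jel, F.tau_mu, ← F.mu_neg, ← map_mul, H63.UFour.mu_eq]; decide +kernel
  have ht : F.tau * el a (iV c d) * F.tau⁻¹ = el a (iV d (-c)) :=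
    (a.tau_act _).trans (by rw [tau_I]; rfl)
  have hz : F.z * el a (iV d (-c)) * F.z⁻¹ = el a (iV (-d) c) :=
    (a.z_act _).trans (by
      rw [z_I, iV_neg, neg_neg]; rfl)
  rw [mel, mel, ← hz, ← ht]
  generalize el a (iV c d) = E at *
  generalize jel (F := F) = J at *
  calc F.tau * (J * E * J⁻¹) * F.tau⁻¹
      = (F.tau * J * F.tau⁻¹) * (F.tau * E * F.tau⁻¹) * (F.tau * J * F.tau⁻¹)⁻¹ := by group
    _ = _ := by rw [hj]; simp only [mul_assoc, mul_inv_rev]

/-- every `m (c,d)` normalises `A` -/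
theorem mel_norm (c d : ZMod 3) : Norm a (mel a c d) := by
  classical
  let A : Subgroup G := a.alpha.range
  have memA : ∀ w, w ∈ A ↔ ∃ v, el a v = w :=
    fun w => ⟨fun ⟨v, hv⟩ => ⟨v.toAdd, hv⟩, fun ⟨v, hv⟩ => ⟨_, hv⟩⟩
  have elx : ∀ v, el a v * el a xV = el a xV * el a v := fun v => (el_comm a _ _).eq
  have hnorm : A ≤ Subgroup.normalizer ((rSub a) : Set G) := by
    intro g hg
    obtain ⟨v, rfl⟩ := (memA g).mp hg
    rw [Subgroup.mem_normalizer_iff]
    intro w
    refine ⟨fun hw => rSub_conj a (elx v) hw, fun h => ?_⟩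
    have := rSub_conj a (elx (-v)) h
    rw [el_neg] at this
    simpa [mul_assoc] using this
  haveI : Fact (Nat.Prime 3) := ⟨Nat.prime_three⟩
  have hR3 : IsPGroup 3 ↥(rSub a) := fun w => w.2.2.imp fun n hn => Subtype.ext (by simpa using hn)
  have hA3 : IsPGroup 3 ↥A := by
    rintro ⟨w, hw⟩
    obtain ⟨v, rfl⟩ := (memA w).mp hw
    exact ⟨1, Subtype.ext (by simpa using el_cube a v)⟩
  set T := A ⊔ rSub a with hT
  haveI : Group.IsNilpotent ↥T := (hA3.to_sup_of_normal_right' hR3 hnorm).isNilpotent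
  have hlt : A.subgroupOf T < ⊤ := by
    rw [lt_top_iff_ne_top, Ne, Subgroup.subgroupOf_eq_top]
    intro h
    obtain ⟨w, hw⟩ := (memA _).mp (le_trans le_sup_right h (mel_mem a 1 0))
    exact one_ne_zero3 (mel_trivial a hw.symm).1
  obtain ⟨⟨t, htT⟩, htN, htA⟩ :=
    SetLike.exists_of_lt (normalizerCondition_of_isNilpotent _ hlt)
  have htA' : t ∉ A := htA
  obtain ⟨p, hp, q, hq, rfl⟩ : ∃ p ∈ A, ∃ q ∈ rSub a, p * q = t := by
    have : t ∈ (↑(A ⊔ rSub a) : Set G) := htT
    rw [Subgroup.coe_mul_of_left_le_normalizer_right A (rSub a) hnorm] at this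
    exact Set.mem_mul.mp this
  obtain ⟨pv, rfl⟩ := (memA p).mp hp
  obtain ⟨c0, d0, w0, rfl⟩ := rSub_decomp a hq
  have hne : ¬ (c0 = 0 ∧ d0 = 0) := by
    rintro ⟨rfl, rfl⟩
    refine htA' (A.mul_mem hp ?_)
    rw [mel, iV_zero, el_zero, mul_one, mul_inv_cancel, mul_one]
    exact (memA _).mpr ⟨w0, rfl⟩
  have hn0 : Norm a (mel a c0 d0) := by
    intro v
    have h := (Subgroup.mem_normalizer_iff.mp htN
      ⟨el a v, Subgroup.mem_sup_left ((memA _).mpr ⟨v, rfl⟩)⟩).mp ((memA _).mpr ⟨v, rfl⟩)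
    obtain ⟨w, hw⟩ := (memA _).mp h
    refine ⟨w, ?_⟩
    have e : el a (pv + w0) * (mel a c0 d0 * el a v * (mel a c0 d0)⁻¹) * (el a (pv + w0))⁻¹ =
        el a w := by
      rw [el_add]
      exact ((by group) : el a pv * el a w0 * (mel a c0 d0 * el a v * (mel a c0 d0)⁻¹) *
        (el a pv * el a w0)⁻¹ = el a pv * (el a w0 * mel a c0 d0) * el a v *
        (el a pv * (el a w0 * mel a c0 d0))⁻¹).trans hw.symm
    have e' := congrArg (fun x => (el a (pv + w0))⁻¹ * x * el a (pv + w0)) e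
    rw [← el_neg, ← el_add, ← el_add, show -(pv + w0) + w + (pv + w0) = w by abel] at e'
    rw [← e']
    simp only [el_neg]
    group
  -- `τ` gives the second generator
  have hn1 : Norm a (mel a (-d0) c0) := by
    intro v
    obtain ⟨u, hu⟩ : ∃ u, F.tau⁻¹ * el a v * F.tau = el a u := by
      refine ⟨app (tauMat * tauMat * tauMat) v, ?_⟩
      have h := a.tau_act (app (tauMat * tauMat * tauMat) v)
      rw [tau_four] at h
      rw [show el a v = a.alpha (Multiplicative.ofAdd v) from rfl, ← h]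
      simp [el, mul_assoc]
    obtain ⟨w, hw⟩ := hn0 u
    refine ⟨app tauMat w, ?_⟩
    rw [← tau_mel]
    calc F.tau * mel a c0 d0 * F.tau⁻¹ * el a v * (F.tau * mel a c0 d0 * F.tau⁻¹)⁻¹
        = F.tau * (mel a c0 d0 * (F.tau⁻¹ * el a v * F.tau) * (mel a c0 d0)⁻¹) * F.tau⁻¹ := by group
      _ = F.tau * el a w * F.tau⁻¹ := by rw [hu, hw]
      _ = _ := a.tau_act w
  have nadd : ∀ p q r s, Norm a (mel a p q) → Norm a (mel a r s) → Norm a (mel a (p + r) (q + s)) := by
    intro p q r s h h' v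
    obtain ⟨w, hw⟩ := h' v
    obtain ⟨w', hw'⟩ := h w
    refine ⟨w', ?_⟩
    rw [mel_add, ← hw', ← hw]; group
  have nzero : Norm a (mel a 0 0) := fun v => ⟨v, by
    rw [mel, iV_zero, el_zero]; group⟩
  obtain ⟨p, r, hpr⟩ := rot_span c d c0 d0 hne
  have nsmul : ∀ (k : ZMod 3) (x y : ZMod 3), Norm a (mel a x y) → Norm a (mel a (k * x) (k * y)) := by
    intro k x y h
    have := z3_cases k
    rcases this with rfl | rfl | rfl
    · simpa using nzero
    · simpa using h
    · simpa [add_mul] using nadd _ _ _ _ h h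
  rw [hpr.1, hpr.2]
  exact nadd _ _ _ _ (nsmul p _ _ hn0) (nsmul r _ _ hn1)

theorem jel_inv : (jel (F := F))⁻¹ = F.z * jel (F := F) := by
  refine inv_eq_of_mul_eq_one_left ?_
  rw [mul_assoc, jel_sq, H63.UFour.z_sq F]

/-- action on `y` -/
theorem mel_y (c d : ZMod 3) :
    mel a c d * el a yV * (mel a c d)⁻¹ = el a (yV + iV c d + (-qA (iV c d)) • xV) := by
  obtain ⟨c', d', k, hk, hq⟩ := rSub_y a (mel_mem a c d) (mel_norm a c d)
  have hJf : ∀ u w, jel (F := F) * el a (iV u w) * (jel (F := F))⁻¹ = mel a u w := fun _ _ => rfl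
  have hJx : jel (F := F) * el a (-(k • xV)) * (jel (F := F))⁻¹ = el a (-(k • xV)) := by
    rw [el_neg, ← conj_inv]
    congr 1
    rcases z3_cases k with rfl | rfl | rfl
    · simp [el_zero]
    · rw [one_smul, jel_x, mul_inv_cancel_right]
    · rw [add_smul, one_smul, el_add, ← conj_mul, jel_x, mul_inv_cancel_right]
  have hJJ : jel (F := F) * mel a c d * (jel (F := F))⁻¹ = el a (iV (-c) (-d)) := by
    rw [mel, ← iV_neg, show el a (-iV c d) = F.z * el a (iV c d) * F.z⁻¹ from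
      ((a.z_act _).trans (by rw [z_I]; rfl)).symm, ← jel_sq]
    rw [mul_inv_rev]; simp only [mul_assoc]
  have hJm : (jel (F := F))⁻¹ * el a (iV c d) * jel (F := F) = mel a (-c) (-d) := by
    rw [← z_mel, mel]
    conv_rhs => rw [show F.z * (jel (F := F) * el a (iV c d) * (jel (F := F))⁻¹) * F.z⁻¹ =
      (F.z * jel (F := F)) * el a (iV c d) * (F.z * jel (F := F))⁻¹ by
        rw [mul_inv_rev]; simp only [mul_assoc]]
    rw [← jel_inv, inv_inv]
  -- conjugation by `y`
  have hy1 : el a yV * mel a c d * (el a yV)⁻¹ = el a (-(iV c' d' + k • xV)) * mel a c d := by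
    rw [el_neg]
    have e : el a (iV c' d' + k • xV) = (mel a c d * el a yV * (mel a c d)⁻¹) * (el a yV)⁻¹ := by
      rw [hk, ← el_neg, ← el_add]; congr 1; abel
    rw [e]; group
  have hy2 : (el a yV)⁻¹ * mel a c d * el a yV = el a (iV c' d' + k • xV) * mel a c d := by
    have e : el a (iV c' d' + k • xV) = (el a yV)⁻¹ * (mel a c d * el a yV * (mel a c d)⁻¹) := by
      rw [hk, ← el_neg, ← el_add]; congr 1; abel
    rw [e]; group
  have hzy : F.z * el a yV = el a yV * F.z := by rw [el_y]; exact (H63.UFour.z_mu F _).symm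
  have hzv : F.z * el a (iV c' d' + k • xV) * F.z⁻¹ = el a (-iV c' d' + k • xV) := by
    refine (a.z_act _).trans ?_
    rw [app_add, z_I, app_smul, show app zMat xV = xV by decide +kernel]; rfl
  -- the braid relation
  have hb : jel (F := F) * el a yV * jel (F := F) =
      (el a yV)⁻¹ * (jel (F := F))⁻¹ * (el a yV)⁻¹ := by
    rw [el_y, jel, ← map_inv, ← map_inv, ← map_mul, ← map_mul, ← map_mul, ← map_mul,
      H63.UFour.mu_eq]
    exact braid
  have hL : jel (F := F) * el a yV * jel (F := F) * el a (iV c d) *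
      (jel (F := F) * el a yV * jel (F := F))⁻¹ =
      mel a (-c') (-d') * el a (-(k • xV) + iV (-c) (-d)) := by
    calc _ = jel (F := F) * (el a yV * mel a c d * (el a yV)⁻¹) * (jel (F := F))⁻¹ := by
          rw [← hJf c d]; simp only [mul_inv_rev, mul_assoc]
      _ = (jel (F := F) * el a (iV (-c') (-d')) * (jel (F := F))⁻¹) *
          (jel (F := F) * el a (-(k • xV)) * (jel (F := F))⁻¹) *
          (jel (F := F) * mel a c d * (jel (F := F))⁻¹) := by
        rw [hy1, neg_add, iV_neg, el_add]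
        simp only [mul_assoc, inv_mul_cancel_left]
      _ = _ := by rw [hJf, hJx, hJJ, el_add, mul_assoc]
  have hR : (el a yV)⁻¹ * (jel (F := F))⁻¹ * (el a yV)⁻¹ * el a (iV c d) *
      ((el a yV)⁻¹ * (jel (F := F))⁻¹ * (el a yV)⁻¹)⁻¹ =
      el a (-iV c' d' + k • xV) * mel a (-c) (-d) := by
    calc _ = (el a yV)⁻¹ * ((jel (F := F))⁻¹ * ((el a yV)⁻¹ * el a (iV c d) * el a yV) *
          jel (F := F)) * el a yV := by simp only [mul_inv_rev, inv_inv, mul_assoc]
      _ = (el a yV)⁻¹ * mel a (-c) (-d) * el a yV := by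
        rw [show (el a yV)⁻¹ * el a (iV c d) * el a yV = el a (iV c d) by
          rw [← el_neg, ← el_add, ← el_add]; congr 1; abel, hJm]
      _ = F.z * ((el a yV)⁻¹ * mel a c d * el a yV) * F.z⁻¹ := by
        have hcy : Commute (el a yV) F.z := hzy.symm
        rw [← z_mel]
        calc _ = ((el a yV)⁻¹ * F.z) * mel a c d * (F.z⁻¹ * el a yV) := by simp only [mul_assoc]
          _ = (F.z * (el a yV)⁻¹) * mel a c d * (el a yV * F.z⁻¹) := by
            rw [hcy.inv_left.eq, hcy.inv_right.eq]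
          _ = _ := by simp only [mul_assoc]
      _ = (F.z * el a (iV c' d' + k • xV) * F.z⁻¹) * (F.z * mel a c d * F.z⁻¹) := by
        rw [hy2]; group
      _ = _ := by rw [hzv, z_mel]
  rw [hb, hR] at hL
  -- compare modulo `x`
  have hKe : el a (-iV c' d' + k • xV) ∈ kSub a := by
    rw [el_add, el_neg]
    refine mul_mem (inv_mem (iV_mem a _ _)) ?_
    rcases z3_cases k with rfl | rfl | rfl
    · simp [el_zero]
    · rw [one_smul]; exact el_x_mem a
    · rw [add_smul, one_smul, el_add]; exact mul_mem (el_x_mem a) (el_x_mem a)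
  obtain ⟨n, hn⟩ := kSub_comm a hKe (mel_mem a (-c) (-d)).1
  rw [hn] at hL
  have hm : mel a (c - c') (d - d') =
      el a (-iV c' d' + k • xV) * el a xV ^ n * (el a (-(k • xV) + iV (-c) (-d)))⁻¹ := by
    have e : mel a (-c') (-d') = mel a (-c) (-d) * mel a (c - c') (d - d') := by
      rw [← mel_add]; congr 1 <;> ring
    rw [e] at hL
    rw [eq_mul_inv_iff_mul_eq]
    apply mul_left_cancel (a := mel a (-c) (-d))
    rw [← mul_assoc, ← hL, mul_assoc]
  obtain ⟨w, hw⟩ : ∃ w, el a (-iV c' d' + k • xV) * el a xV ^ n *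
      (el a (-(k • xV) + iV (-c) (-d)))⁻¹ = el a w := by
    refine ⟨-iV c' d' + k • xV + n • xV + -(-(k • xV) + iV (-c) (-d)), ?_⟩
    rw [el_add a (_ + n • xV), el_add a _ (n • xV), el_neg a (-(k • xV) + _)]
    congr 2
    simp only [el]; rw [ofAdd_nsmul, map_pow]
  obtain ⟨e1, e2⟩ := mel_trivial a (hm.trans hw)
  rw [← sub_eq_zero.mp e1, ← sub_eq_zero.mp e2] at hk hq
  rw [hk, neg_eq_of_add_eq_zero_right hq]

/-- action on `I` -/
theorem mel_i (c d c' d' : ZMod 3) :
    mel a c d * el a (iV c' d') * (mel a c d)⁻¹ =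
      el a (iV c' d' + (-bA (iV c d) (iV c' d')) • xV) := by
  obtain ⟨P, hP⟩ := rSub_i a (mel_mem a c d) c' d'
  have hx : ∀ k : ZMod 3, mel a c d * el a (k • xV) * (mel a c d)⁻¹ = el a (k • xV) := by
    intro k
    have hx := kSub_cent a (mel_mem a c d).1
    rcases z3_cases k with rfl | rfl | rfl
    · simp [el_zero]
    · rw [one_smul, hx, mul_inv_cancel_right]
    · rw [add_smul, one_smul, el_add, ← conj_mul, hx, mul_inv_cancel_right]
  have h : el a (yV + iV (c + c') (d + d') + (-qA (iV (c + c') (d + d'))) • xV) =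
      el a ((yV + iV c d + (-qA (iV c d)) • xV) + (iV c' d' + P • xV) +
        (-qA (iV c' d')) • xV) := by
    rw [← mel_y, mel_add, el_add a (_ + (iV c' d' + _)), el_add, ← mel_y, ← hP, ← hx]
    calc _ = mel a c d * (mel a c' d' * el a yV * (mel a c' d')⁻¹) * (mel a c d)⁻¹ := by group
      _ = mel a c d * (el a yV * el a (iV c' d') * el a ((-qA (iV c' d')) • xV)) *
          (mel a c d)⁻¹ := by rw [mel_y, el_add, el_add]
      _ = _ := by group
  have e := el_inj a h
  rw [← iV_add] at e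
  have e' : (-qA (iV (c + c') (d + d'))) • xV =
      ((-qA (iV c d)) + P + -qA (iV c' d')) • xV := by
    rw [add_smul, add_smul, ← iV_add]
    rw [← sub_eq_zero] at e ⊢
    rw [← e]; abel
  have e3 := x_inj _ _ e'
  have hb := bA_of_q c d c' d'
  rw [hP]
  congr 3
  linear_combination -e3 - hb

/-- the root group `j I j⁻¹` acts on `A` by Siegel elements -/
theorem siegel_act (c d : ZMod 3) (v : V4) :
    (F.mu ((1 : SL2), sJ) * a.alpha (Multiplicative.ofAdd (iV c d)) *
        (F.mu ((1 : SL2), sJ))⁻¹) * a.alpha (Multiplicative.ofAdd v) *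
      (F.mu ((1 : SL2), sJ) * a.alpha (Multiplicative.ofAdd (iV c d)) *
        (F.mu ((1 : SL2), sJ))⁻¹)⁻¹ =
      a.alpha (Multiplicative.ofAdd (app (siegel c d) v)) := by
  show mel a c d * el a v * (mel a c d)⁻¹ = el a (app (siegel c d) v)
  refine el_induct
    (P := fun v => mel a c d * el a v * (mel a c d)⁻¹ = el a (app (siegel c d) v)) ?_ ?_ ?_ ?_ v
  · rw [(siegel_basis c d).1, kSub_cent a (mel_mem a c d).1, mul_inv_cancel_right]
  · rw [(siegel_basis c d).2, mel_y]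
  · intro c' d'; rw [siegel_i, mel_i]
  · intro u w hu hw
    rw [app_add, el_add, el_add, ← conj_mul, hu, hw]

end H87.U43
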