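import Cfsg.Prelude.Def_Local
import Cfsg.Prelude.Def_Transfer
import Cfsg.Agent.CompLayer
import Cfsg.Agent.H1.Cores
import Cfsg.Agent.H87.U43.SL

/-!
# U4(3) type: from the statement hypotheses to a coordinate hypothesis
-/

set_option autoImplicit false

namespace H87.U43

variable {G : Type*} [Group G]

/-- the quaternion part `Q = μ(Q8 × Q8)` -/
def qSub (mu : SL2 × SL2 →* G) : Subgroup G := (q8.prod q8).map mu

/-- hypothesis of U4(3) type in coordinates -/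
structure Raw (z : G) (mu : SL2 × SL2 →* G) : Prop where
  ord : orderOf z = 2
  ker : ∀ k : SL2 × SL2, mu k = 1 ↔ k = 1 ∨ k = (sZ, sZ)
  neg : mu (sZ, 1) = z
  comm : ∀ k : SL2 × SL2, mu k * z = z * mu k
  normal : ∀ g : G, g * z = z * g → ∀ k : SL2 × SL2, ∃ k', g * mu k * g⁻¹ = mu k'
  self_cent : ∀ g : G, g * z = z * g → (∀ x ∈ qSub mu, x * g = g * x) → g ∈ qSub mu
  nwc : ∃ g : G, g * z * g⁻¹ ∈ qSub mu ∧ g * z * g⁻¹ ≠ z
  card_cent : Nat.card ↥(Subgroup.centralizer ({z} : Set G)) = 1152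
  meet : ∀ g : G, g * z * g⁻¹ ∈ qSub mu → g * z * g⁻¹ ≠ z →
    Nat.card ↥(qSub mu ⊓ (qSub mu).map (MulAut.conj g).toMonoidHom) = 4

theorem exists_mul_hom {M : Type*} [Group M] (f₁ f₂ : SL2 →* M)
    (hc : ∀ u v, f₁ u * f₂ v = f₂ v * f₁ u) :
    ∃ mu : SL2 × SL2 →* M, ∀ u v, mu (u, v) = f₁ u * f₂ v := by
  refine ⟨{ toFun := fun k => f₁ k.1 * f₂ k.2
            map_one' := by simp
            map_mul' := fun a b => ?_ }, fun u v => rfl⟩
  simp only [Prod.fst_mul, Prod.snd_mul, map_mul]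
  calc f₁ a.1 * f₁ b.1 * (f₂ a.2 * f₂ b.2)
      = f₁ a.1 * (f₁ b.1 * f₂ a.2) * f₂ b.2 := by simp only [mul_assoc]
    _ = f₁ a.1 * (f₂ a.2 * f₁ b.1) * f₂ b.2 := by rw [hc b.1 a.2]
    _ = f₁ a.1 * f₂ a.2 * (f₁ b.1 * f₂ b.2) := by simp only [mul_assoc]

open Cfsg in
theorem exists_raw_aux [Finite G] (z : G) (hz : orderOf z = 2) (C : Subgroup G)
    (hC : C = Subgroup.centralizer ({z} : Set G)) (memC : ∀ g : G, g ∈ C ↔ g * z = z * g)
    (H₁ H₂ : Subgroup C)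
    (hK : H₁ ⊔ H₂ = Subgroup.closure
      {x : C | Odd (orderOf x)})
    (hn₁ : (H₁.subgroupOf (H₁ ⊔ H₂)).Normal) (hn₂ : (H₂.subgroupOf (H₁ ⊔ H₂)).Normal)
    (e₁ : H₁ ≃* SL2) (e₂ : H₂ ≃* SL2)
    (hmeet : (H₁ ⊓ H₂).map (Subgroup.subtype C) =
      Subgroup.zpowers z)
    (Q : Subgroup C)
    (hQ : Q = (Cfsg.pCore 2 ↥(H₁ ⊔ H₂)).map (Subgroup.subtype (H₁ ⊔ H₂)))
    (hF : Cfsg.generalizedFittingSubgroup C = Q)
    (hnwc : ∃ g : G, (∃ hq : g * z * g⁻¹ ∈ C,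
      (⟨g * z * g⁻¹, hq⟩ : C) ∈ Q) ∧ g * z * g⁻¹ ≠ z)
    (hH : Nat.card ↥C = 2 ^ 7 * 3 ^ 2)
    (hQQg : ∀ g : G, g * z * g⁻¹ ∈ Q.map (Subgroup.subtype C) →
      g * z * g⁻¹ ≠ z →
      Nat.card ↥((Q.map (Subgroup.subtype C)) ⊓
        (Q.map (Subgroup.subtype C)).map
          (MulAut.conj g).toMonoidHom) = 4) :
    ∃ mu : SL2 × SL2 →* G, Raw z mu := by
  have hzz : z * z = 1 := by rw [← pow_two, ← hz, pow_orderOf_eq_one]
  have hz1 : z ≠ 1 := fun h => by rw [h, orderOf_one] at hz; omega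
  let zc : C := ⟨z, (memC z).mpr rfl⟩
  have hzc : ∀ c : C, c * zc = zc * c := fun c => Subtype.ext ((memC c.1).mp c.2)
  have hzc1 : zc ≠ 1 := fun h => hz1 (congrArg Subtype.val h)
  have hzc2 : zc * zc = 1 := Subtype.ext hzz
  have hmem : ∀ c : C, c ∈ H₁ → c ∈ H₂ → c = 1 ∨ c = zc := by
    intro c h1 h2
    have : (c : G) ∈ Subgroup.zpowers z := by
      rw [← hmeet]
      exact ⟨c, ⟨h1, h2⟩, rfl⟩
    obtain ⟨n, hn⟩ := Subgroup.mem_zpowers_iff.mp this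
    rcases Int.even_or_odd' n with ⟨m, rfl | rfl⟩
    · left; apply Subtype.ext; rw [← hn, zpow_mul, zpow_two, hzz, one_zpow]; rfl
    · right; apply Subtype.ext
      rw [← hn, zpow_add, zpow_mul, zpow_two, hzz, one_zpow, one_mul, zpow_one]
  have hz12 : zc ∈ H₁ ∧ zc ∈ H₂ := by
    have : z ∈ (H₁ ⊓ H₂).map (Subgroup.subtype C) := by rw [hmeet]; exact Subgroup.mem_zpowers z
    obtain ⟨c, hc, hcz⟩ := this
    have : c = zc := Subtype.ext hcz
    rwa [this] at hc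
  let f₁ : SL2 →* C := H₁.subtype.comp e₁.symm.toMonoidHom
  let f₂ : SL2 →* C := H₂.subtype.comp e₂.symm.toMonoidHom
  have hf₁ : ∀ u, f₁ u ∈ H₁ := fun u => (e₁.symm u).2
  have hf₂ : ∀ u, f₂ u ∈ H₂ := fun u => (e₂.symm u).2
  have hi₁ : Function.Injective f₁ := Subtype.val_injective.comp e₁.symm.injective
  have hi₂ : Function.Injective f₂ := Subtype.val_injective.comp e₂.symm.injective
  have negOf : ∀ f : SL2 →* C, Function.Injective f → (∃ u, f u = zc) → f sZ = zc := by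
    rintro f hf ⟨u, hu⟩
    have : u * u = 1 := hf (by rw [map_mul, hu, hzc2, map_one])
    rcases sl_invol u this with h | h
    · exact absurd (by rw [← hu, h, map_one]) hzc1
    · rw [← h, hu]
  have hZ₁ : f₁ sZ = zc := negOf f₁ hi₁ ⟨e₁ ⟨zc, hz12.1⟩, by simp [f₁]⟩
  have hZ₂ : f₂ sZ = zc := negOf f₂ hi₂ ⟨e₂ ⟨zc, hz12.2⟩, by simp [f₂]⟩
  have hcomm : ∀ u v, f₁ u * f₂ v = f₂ v * f₁ u := by
    intro u
    have step : ∀ v, v ^ 3 = 1 → f₁ u * f₂ v = f₂ v * f₁ u := by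
      intro v hv
      have m1 : f₁ u * f₂ v * (f₁ u)⁻¹ * (f₂ v)⁻¹ ∈ H₁ := by
        have := hn₁.conj_mem ⟨f₁ u, Subgroup.mem_sup_left (hf₁ u)⟩⁻¹
          (inv_mem (show (⟨f₁ u, Subgroup.mem_sup_left (hf₁ u)⟩ : ↥(H₁ ⊔ H₂)) ∈
            H₁.subgroupOf (H₁ ⊔ H₂) from hf₁ u)) ⟨f₂ v, Subgroup.mem_sup_right (hf₂ v)⟩
        have := mul_mem (hf₁ u) (Subgroup.mem_subgroupOf.mp this)
        simpa [mul_assoc] using this
      have m2 : f₁ u * f₂ v * (f₁ u)⁻¹ * (f₂ v)⁻¹ ∈ H₂ := by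
        have := hn₂.conj_mem ⟨f₂ v, Subgroup.mem_sup_right (hf₂ v)⟩
          (show (⟨f₂ v, Subgroup.mem_sup_right (hf₂ v)⟩ : ↥(H₁ ⊔ H₂)) ∈
            H₂.subgroupOf (H₁ ⊔ H₂) from hf₂ v) ⟨f₁ u, Subgroup.mem_sup_left (hf₁ u)⟩
        exact mul_mem (Subgroup.mem_subgroupOf.mp this) (inv_mem (hf₂ v))
      rcases hmem _ m1 m2 with h | h
      · rwa [mul_inv_eq_one, mul_inv_eq_iff_eq_mul] at h
      · exfalso
        rw [mul_inv_eq_iff_eq_mul] at h
        have h3 : (f₂ v) ^ 3 = 1 := by rw [← map_pow, hv, map_one]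
        have hcm : Commute zc (f₂ v) := (hzc (f₂ v)).symm
        have : (f₁ u * f₂ v * (f₁ u)⁻¹) ^ 3 = 1 := by
          rw [conj_pow, h3, mul_one, mul_inv_cancel]
        rw [h, hcm.mul_pow, h3, mul_one] at this
        have hz3 : zc ^ 3 = zc := by rw [pow_succ, pow_two, hzc2, one_mul]
        exact hzc1 (hz3 ▸ this)
    intro v
    obtain ⟨a, b, c, d, rfl⟩ := sl_gen_three v
    have kX : Commute (f₁ u) (f₂ sX) := step sX aut_rel.1
    have kY : Commute (f₁ u) (f₂ sY) := step sY sY_cube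
    simp only [map_mul, map_pow]
    exact (((kX.pow_right _).mul_right (kY.pow_right _)).mul_right (kX.pow_right _)).mul_right
      (kY.pow_right _)
  obtain ⟨muC, hmu⟩ := exists_mul_hom f₁ f₂ hcomm
  let mu : SL2 × SL2 →* G := C.subtype.comp muC
  have hrange : muC.range = H₁ ⊔ H₂ := by
    apply le_antisymm
    · rintro _ ⟨⟨u, v⟩, rfl⟩
      rw [hmu]
      exact mul_mem (Subgroup.mem_sup_left (hf₁ u)) (Subgroup.mem_sup_right (hf₂ v))
    · refine sup_le (fun c hc => ⟨(e₁ ⟨c, hc⟩, 1), ?_⟩) (fun c hc => ⟨(1, e₂ ⟨c, hc⟩), ?_⟩)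
      · rw [hmu]; simp [f₁]
      · rw [hmu]; simp [f₂]
  have hkerC : ∀ k : SL2 × SL2, muC k = 1 ↔ k = 1 ∨ k = (sZ, sZ) := by
    rintro ⟨u, v⟩
    rw [hmu]
    constructor
    · intro h
      have e : f₁ u = (f₂ v)⁻¹ := eq_inv_of_mul_eq_one_left h
      rcases hmem (f₁ u) (hf₁ u) (e ▸ inv_mem (hf₂ v)) with h1 | h1
      · left
        have hu : u = 1 := hi₁ (by rw [h1, map_one])
        have hv : v = 1 := hi₂ (by rw [map_one, ← inv_eq_one, ← e, h1])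
        rw [hu, hv]; rfl
      · right
        have hu : u = sZ := hi₁ (by rw [h1, hZ₁])
        have hv : v = sZ := hi₂ (by
          rw [hZ₂, ← inv_inv (f₂ v), ← e, h1, inv_eq_of_mul_eq_one_right hzc2])
        rw [hu, hv]
    · rintro (h | h)
      · rw [Prod.mk_eq_one] at h; rw [h.1, h.2, map_one, map_one, mul_one]
      · rw [Prod.mk.injEq] at h; rw [h.1, h.2, hZ₁, hZ₂, hzc2]
  have hQeq : qSub mu = Q.map (Subgroup.subtype C) := by
    rw [qSub, show mu = C.subtype.comp muC from rfl, ← Subgroup.map_map]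
    congr 1
    apply le_antisymm
    · have hle : (q8.prod q8).map muC ≤ H₁ ⊔ H₂ := by
        rw [← hrange]; exact Subgroup.map_le_range _ _
      rw [hQ, ← Subgroup.map_subgroupOf_eq_of_le hle]
      apply Subgroup.map_mono
      haveI : (((q8.prod q8).map muC).subgroupOf (H₁ ⊔ H₂)).Normal := by
        constructor
        intro n hn g
        obtain ⟨p, hp, hpn⟩ := Subgroup.mem_subgroupOf.mp hn
        obtain ⟨r, hr⟩ : (g : C) ∈ muC.range := by rw [hrange]; exact g.2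
        refine Subgroup.mem_subgroupOf.mpr ⟨r * p * r⁻¹, ?_, ?_⟩
        · rw [SetLike.mem_coe, Subgroup.mem_prod] at hp ⊢
          exact ⟨q8_conj _ _ hp.1, q8_conj _ _ hp.2⟩
        · rw [map_mul, map_mul, map_inv, hr, hpn]; rfl
      apply H1.le_pCore
      intro n
      obtain ⟨p, hp, hpn⟩ := Subgroup.mem_subgroupOf.mp n.2
      rw [SetLike.mem_coe, Subgroup.mem_prod] at hp
      refine ⟨2, ?_⟩
      apply Subtype.ext; apply Subtype.ext
      have hp4 : p ^ 4 = 1 := Prod.ext hp.1 hp.2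
      show (n.1 : C) ^ 2 ^ 2 = 1
      rw [← hpn, ← map_pow]
      norm_num [hp4]
    · rw [hQ]
      rintro _ ⟨n, hn, rfl⟩
      obtain ⟨m, hm⟩ := H1.isPGroup_pCore 2 ↥(H₁ ⊔ H₂) ⟨n, hn⟩
      obtain ⟨p, hp⟩ : (n : C) ∈ muC.range := by rw [hrange]; exact n.2
      refine ⟨p, ?_, hp⟩
      rw [SetLike.mem_coe, Subgroup.mem_prod]
      have h1 : muC (p ^ 2 ^ m) = 1 := by
        rw [map_pow, hp]
        have := congrArg (fun w => ((w.1 : ↥(H₁ ⊔ H₂)) : C)) hm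
        simpa using this
      have h2 : p ^ 2 ^ (m + 1) = 1 := by
        rw [pow_succ, pow_mul, pow_two]
        rcases (hkerC _).mp h1 with h | h
        · rw [h, mul_one]
        · rw [h]; exact Prod.ext sZ_facts.1 sZ_facts.1
      have red : ∀ u : SL2, u ^ 2 ^ (m + 1) = 1 → u ∈ q8 := by
        intro u hu
        apply sl_two_elt
        have d1 : orderOf u ∣ 2 ^ (m + 1) := orderOf_dvd_of_pow_eq_one hu
        have d2 : orderOf u ∣ 24 := sl_card ▸ orderOf_dvd_natCard u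
        obtain ⟨i, _, hi⟩ := (Nat.dvd_prime_pow Nat.prime_two).mp d1
        have hi3 : i ≤ 3 := by
          by_contra hc
          have : 2 ^ 4 ∣ 24 := (pow_dvd_pow 2 (by omega : 4 ≤ i)).trans (hi ▸ d2)
          norm_num at this
        apply orderOf_dvd_iff_pow_eq_one.mp
        rw [hi]
        exact (pow_dvd_pow 2 hi3)
      exact ⟨red _ (congrArg Prod.fst h2), red _ (congrArg Prod.snd h2)⟩
  refine ⟨mu, hz, ?_, ?_, ?_, ?_, ?_, ?_, ?_, ?_⟩
  · intro k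
    rw [← hkerC k]
    exact ⟨fun h => Subtype.ext h, fun h => congrArg Subtype.val h⟩
  · show ((muC (sZ, 1) : C) : G) = z
    rw [hmu, hZ₁, map_one, mul_one]
  · intro k
    exact (memC _).mp (muC k).2
  · intro g hg k
    have : (⟨g, (memC g).mpr hg⟩ : C) * muC k * (⟨g, (memC g).mpr hg⟩ : C)⁻¹ ∈ muC.range := by
      have hk : muC k ∈ muC.range := ⟨k, rfl⟩
      rw [hrange, hK] at hk ⊢
      set c : C := ⟨g, (memC g).mpr hg⟩
      refine Subgroup.closure_induction (fun x hx => Subgroup.subset_closure ?_) ?_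
        (fun x y _ _ hx hy => ?_) (fun x _ hx => ?_) hk
      · show Odd (orderOf (c * x * c⁻¹))
        have : orderOf (c * x * c⁻¹) = orderOf x := (SemiconjBy.orderOf_eq _ (by
          simp [SemiconjBy, mul_assoc] : SemiconjBy c x (c * x * c⁻¹))).symm
        rw [this]; exact hx
      · simp
      · have := mul_mem hx hy; simpa [mul_assoc] using this
      · have := inv_mem hx; simpa [mul_assoc] using this
    obtain ⟨k', hk'⟩ := this
    exact ⟨k', (congrArg Subtype.val hk').symm⟩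
  · intro g hg hx
    rw [hQeq]
    refine ⟨⟨g, (memC g).mpr hg⟩, ?_, rfl⟩
    have hc : (⟨g, (memC g).mpr hg⟩ : C) ∈ Subgroup.centralizer
        (generalizedFittingSubgroup C : Set C) := by
      rw [hF, Subgroup.mem_centralizer_iff]
      intro x hxQ
      exact Subtype.ext (hx x.1 (hQeq ▸ ⟨x, hxQ, rfl⟩))
    have := Cfsg.Comp.centralizer_fStar_le hc
    rwa [hF] at this
  · obtain ⟨g, ⟨hq, hgQ⟩, hne⟩ := hnwc
    exact ⟨g, hQeq ▸ ⟨_, hgQ, rfl⟩, hne⟩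
  · rw [hC] at hH; rw [hH]; norm_num
  · intro g h1 h2
    rw [hQeq] at h1 ⊢
    exact hQQg g h1 h2

open Cfsg in
theorem exists_raw [Finite G] (z : G) (hz : orderOf z = 2)
    (H₁ H₂ : Subgroup (Subgroup.centralizer ({z} : Set G)))
    (hK : H₁ ⊔ H₂ = Subgroup.closure
      {x : Subgroup.centralizer ({z} : Set G) | Odd (orderOf x)})
    (hn₁ : (H₁.subgroupOf (H₁ ⊔ H₂)).Normal) (hn₂ : (H₂.subgroupOf (H₁ ⊔ H₂)).Normal)
    (e₁ : H₁ ≃* SL2) (e₂ : H₂ ≃* SL2)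
    (hmeet : (H₁ ⊓ H₂).map (Subgroup.subtype (Subgroup.centralizer ({z} : Set G))) =
      Subgroup.zpowers z)
    (Q : Subgroup (Subgroup.centralizer ({z} : Set G)))
    (hQ : Q = (Cfsg.pCore 2 ↥(H₁ ⊔ H₂)).map (Subgroup.subtype (H₁ ⊔ H₂)))
    (hF : Cfsg.generalizedFittingSubgroup (Subgroup.centralizer ({z} : Set G)) = Q)
    (hnwc : ∃ g : G, (∃ hq : g * z * g⁻¹ ∈ Subgroup.centralizer ({z} : Set G),
      (⟨g * z * g⁻¹, hq⟩ : Subgroup.centralizer ({z} : Set G)) ∈ Q) ∧ g * z * g⁻¹ ≠ z)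
    (hH : Nat.card ↥(Subgroup.centralizer ({z} : Set G)) = 2 ^ 7 * 3 ^ 2)
    (hQQg : ∀ g : G, g * z * g⁻¹ ∈ Q.map (Subgroup.subtype (Subgroup.centralizer ({z} : Set G))) →
      g * z * g⁻¹ ≠ z →
      Nat.card ↥((Q.map (Subgroup.subtype (Subgroup.centralizer ({z} : Set G)))) ⊓
        (Q.map (Subgroup.subtype (Subgroup.centralizer ({z} : Set G)))).map
          (MulAut.conj g).toMonoidHom) = 4) :
    ∃ mu : SL2 × SL2 →* G, Raw z mu :=
  exists_raw_aux z hz _ rfl (fun g => by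
    rw [Subgroup.mem_centralizer_iff]
    exact ⟨fun h => (h z rfl).symm, fun h x hx => by rw [Set.mem_singleton_iff.mp hx, h]⟩)
    H₁ H₂ hK hn₁ hn₂ e₁ e₂ hmeet Q hQ hF hnwc hH hQQg

end H87.U43
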