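import Cfsg.Agent.H87.U43.Basic

/-!
# U4(3) type: an element swapping `z` and `t`, exact representatives of `C(z)/H₁H₂`
-/

set_option autoImplicit false

namespace H87.U43

variable {G : Type*} [Group G] {z : G} {mu : SL2 × SL2 →* G}

/-- an involution of `Q` other than `z` -/
def tInv (mu : SL2 × SL2 →* G) : G := mu (sJ, sJ)

/-- the centraliser of `t` in `Q` -/
def w1Sub (mu : SL2 × SL2 →* G) : Subgroup G :=
  qSub mu ⊓ Subgroup.centralizer ({tInv mu} : Set G)

theorem mem_cent_single {x a : G} :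
    x ∈ Subgroup.centralizer ({a} : Set G) ↔ x * a = a * x := by
  rw [Subgroup.mem_centralizer_iff]
  exact ⟨fun h => (h a rfl).symm, fun h y hy => by rw [Set.mem_singleton_iff.mp hy, h]⟩

theorem Raw.t_memQ (R : Raw z mu) : tInv mu ∈ qSub mu :=
  mem_qSub.mpr ⟨sJ, sJ, by decide +kernel, by decide +kernel, rfl⟩

theorem Raw.t_sq (R : Raw z mu) : tInv mu * tInv mu = 1 := by
  rw [tInv, ← map_mul]; exact (R.ker _).mpr (Or.inr (by decide +kernel))

theorem Raw.t_ne (R : Raw z mu) : tInv mu ≠ 1 ∧ tInv mu ≠ z := by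
  rw [← R.neg, tInv]
  constructor
  · intro h; rw [R.ker] at h; revert h; decide +kernel
  · intro h; rw [R.mu_eq] at h; revert h; decide +kernel

/-- involutions of `Q` other than `z` are conjugate to `t` -/
theorem Raw.invol_conj_t (R : Raw z mu) {x : G} (hx : x ∈ qSub mu) (h2 : x * x = 1) (h1 : x ≠ 1)
    (hz : x ≠ z) : ∃ k, mu k * tInv mu * (mu k)⁻¹ = x := by
  obtain ⟨u, v, hu, hv, rfl⟩ := mem_qSub.mp hx
  rw [← map_mul, R.ker, Prod.mk_mul_mk] at h2
  have key : u * u = sZ ∧ v * v = sZ := by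
    rcases h2 with h | h
    · rw [Prod.mk_eq_one] at h
      exfalso
      rcases sl_invol u h.1 with rfl | rfl <;> rcases sl_invol v h.2 with rfl | rfl
      · exact h1 (map_one mu)
      · exact hz (by rw [← R.neg]; exact R.mu_eq.mpr (Or.inr (by decide +kernel)))
      · exact hz R.neg
      · exact h1 ((R.ker _).mpr (Or.inr rfl))
    · rw [Prod.mk.injEq] at h; exact h
  obtain ⟨k, hk⟩ := order_four u key.1
  obtain ⟨k', hk'⟩ := order_four v key.2
  exact ⟨(k, k'), by rw [tInv, ← map_inv, ← map_mul, ← map_mul]; simp [hk, hk']⟩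

theorem Raw.w1_rep (R : Raw z mu) {x : G} (hx : x ∈ w1Sub mu) : ∃ i, x = mu (w1Rep i) := by
  obtain ⟨h1, h2⟩ := Subgroup.mem_inf.mp hx
  obtain ⟨u, v, hu, hv, rfl⟩ := mem_qSub.mp h1
  rw [mem_cent_single, tInv, ← map_mul, ← map_mul, R.mu_eq] at h2
  obtain ⟨i, hi⟩ := w1_cover u v hu hv h2
  exact ⟨i, R.mu_eq.mpr hi⟩

theorem Raw.w1_card_le [Finite G] (R : Raw z mu) : Nat.card ↥(w1Sub mu) ≤ 16 := by
  choose f hf using fun x : ↥(w1Sub mu) => R.w1_rep x.2
  calc Nat.card ↥(w1Sub mu) ≤ Nat.card (Fin 4 × Fin 2 × Fin 2) :=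
        Nat.card_le_card_of_injective f fun a b h => Subtype.ext (by rw [hf a, hf b, h])
    _ = 16 := by simp

theorem Raw.w1_gens (R : Raw z mu) : mu (sJ, 1) ∈ w1Sub mu ∧ mu (sI, sI) ∈ w1Sub mu := by
  constructor <;> refine Subgroup.mem_inf.mpr ⟨mem_qSub.mpr ⟨_, _, ?_, ?_, rfl⟩, ?_⟩
  all_goals first
    | decide +kernel
    | (rw [mem_cent_single, tInv, ← map_mul, ← map_mul, R.mu_eq]; decide +kernel)

/-- in a group of order at most four commutators are trivial -/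
theorem comm_of_card_le_four {X : Type*} [Group X] [Finite X] (h : Nat.card X ≤ 4) (a b : X) :
    a * b = b * a := by
  have hpos : 0 < Nat.card X := Nat.card_pos
  have : Nat.card X = 1 ∨ Nat.card X = 2 ∨ Nat.card X = 3 ∨ Nat.card X = 4 := by omega
  rcases this with h' | h' | h' | h'
  · haveI := (Nat.card_eq_one_iff_unique.mp h').1
    exact Subsingleton.elim _ _
  · haveI : Fact (Nat.Prime 2) := ⟨Nat.prime_two⟩
    haveI := isCyclic_of_prime_card h'
    exact IsMulCommutative.is_comm.comm a b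
  · haveI : Fact (Nat.Prime 3) := ⟨Nat.prime_three⟩
    haveI := isCyclic_of_prime_card h'
    exact IsMulCommutative.is_comm.comm a b
  · haveI : Fact (Nat.Prime 2) := ⟨Nat.prime_two⟩
    haveI := IsPGroup.isMulCommutative_of_card_eq_prime_sq (p := 2) (by rw [h']; norm_num)
    exact IsMulCommutative.is_comm.comm a b

/-- There is an element interchanging `z` and `t`. -/
theorem Raw.exists_swap [Finite G] (R : Raw z mu) :
    ∃ g : G, g * z * g⁻¹ = tInv mu ∧ g * tInv mu * g⁻¹ = z := by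
  obtain ⟨g, hgQ, hgne⟩ := R.nwc
  obtain ⟨k, hk⟩ := R.invol_conj_t hgQ
    (by rw [conj_mul, R.zz, mul_one, mul_inv_cancel])
    (fun h => R.z_ne (mul_left_cancel (mul_right_cancel (h.trans (by group : (1 : G) = g * 1 * g⁻¹)))))
    hgne
  set g1 := (mu k)⁻¹ * g with hg1
  have h1 : g1 * z * g1⁻¹ = tInv mu := by
    rw [hg1, show (mu k)⁻¹ * g * z * ((mu k)⁻¹ * g)⁻¹ = (mu k)⁻¹ * (g * z * g⁻¹) * mu k by group,
      ← hk]
    group
  let W : Subgroup G := (w1Sub mu).map (MulAut.conj g1⁻¹).toMonoidHom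
  have hWmem : ∀ x, x ∈ w1Sub mu → g1⁻¹ * x * g1 ∈ W := fun x hx =>
    ⟨x, hx, by simp [MulAut.conj_apply]⟩
  have hWz : ∀ w ∈ W, w * z = z * w := by
    rintro _ ⟨x, hx, rfl⟩
    have hxt := mem_cent_single.mp (Subgroup.mem_inf.mp hx).2
    rw [← h1] at hxt
    simp only [MulEquiv.toMonoidHom_eq_coe, MonoidHom.coe_coe, MulAut.conj_apply, inv_inv]
    calc g1⁻¹ * x * g1 * z = g1⁻¹ * (x * (g1 * z * g1⁻¹)) * g1 := by group
      _ = g1⁻¹ * ((g1 * z * g1⁻¹) * x) * g1 := by rw [hxt]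
      _ = _ := by group
  have hcardW : Nat.card ↥W ≤ 16 := by
    rw [Subgroup.card_map_of_injective (MulEquiv.injective _)]; exact R.w1_card_le
  have hN : (W ⊓ qSub mu) = ((qSub mu ⊓ (qSub mu).map (MulAut.conj g1).toMonoidHom).map
      (MulAut.conj g1⁻¹).toMonoidHom) := by
    ext w
    constructor
    · intro hw
      obtain ⟨⟨x, hx, rfl⟩, hwQ⟩ := Subgroup.mem_inf.mp hw
      refine ⟨x, Subgroup.mem_inf.mpr ⟨(Subgroup.mem_inf.mp hx).1, ⟨_, hwQ, ?_⟩⟩, rfl⟩
      simp [MulAut.conj_apply, mul_assoc]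
    · rintro ⟨x, hx, rfl⟩
      obtain ⟨hxQ, ⟨q, hq, rfl⟩⟩ := Subgroup.mem_inf.mp hx
      refine Subgroup.mem_inf.mpr ⟨⟨_, Subgroup.mem_inf.mpr ⟨hxQ, ?_⟩, rfl⟩, ?_⟩
      · rw [mem_cent_single, ← h1]
        simp only [MulEquiv.toMonoidHom_eq_coe, MonoidHom.coe_coe, MulAut.conj_apply]
        rw [conj_mul, conj_mul, R.comm_of_memQ hq]
      · simpa [MulAut.conj_apply, mul_assoc] using hq
  have hcardN : Nat.card ↥(W ⊓ qSub mu) = 4 := by
    rw [hN, Subgroup.card_map_of_injective (MulEquiv.injective _)]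
    exact R.meet g1 (h1 ▸ R.t_memQ) (h1 ▸ R.t_ne.2)
  haveI hnormal : ((W ⊓ qSub mu).subgroupOf W).Normal := by
    constructor
    intro n hn w
    rw [Subgroup.mem_subgroupOf] at hn ⊢
    refine Subgroup.mem_inf.mpr ⟨?_, ?_⟩
    · exact (w * n * w⁻¹).2
    · exact R.conj_memQ (hWz _ w.2) (Subgroup.mem_inf.mp hn).2
  have hidx : Nat.card (↥W ⧸ (W ⊓ qSub mu).subgroupOf W) ≤ 4 := by
    have := Subgroup.card_eq_card_quotient_mul_card_subgroup ((W ⊓ qSub mu).subgroupOf W)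
    rw [Nat.card_congr (Subgroup.subgroupOfEquivOfLe inf_le_left).toEquiv, hcardN] at this
    omega
  have hZ' : g1⁻¹ * z * g1 ∈ qSub mu := by
    set a : ↥W := ⟨_, hWmem _ R.w1_gens.1⟩
    set b : ↥W := ⟨_, hWmem _ R.w1_gens.2⟩
    have hc : a * b * a⁻¹ * b⁻¹ ∈ (W ⊓ qSub mu).subgroupOf W := by
      rw [← QuotientGroup.eq_one_iff]
      simp only [QuotientGroup.mk_mul, QuotientGroup.mk_inv]
      rw [comm_of_card_le_four hidx (a : ↥W ⧸ (W ⊓ qSub mu).subgroupOf W) b]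
      group
    have := (Subgroup.mem_inf.mp (Subgroup.mem_subgroupOf.mp hc)).2
    have e : ((a * b * a⁻¹ * b⁻¹ : ↥W) : G) = g1⁻¹ * z * g1 := by
      have ez : mu (sJ, 1) * mu (sI, sI) * (mu (sJ, 1))⁻¹ * (mu (sI, sI))⁻¹ = z := by
        rw [← map_inv, ← map_inv, ← map_mul, ← map_mul, ← map_mul, ← R.neg, R.mu_eq]
        decide +kernel
      rw [← ez]
      simp [a, b, mul_assoc]
    rwa [e] at this
  obtain ⟨l, hl⟩ := R.invol_conj_t hZ'
    (by rw [show g1⁻¹ * z * g1 * (g1⁻¹ * z * g1) = g1⁻¹ * (z * z) * g1 by group, R.zz]; group)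
    (fun h => R.z_ne (by
      have := congrArg (fun y => g1 * y * g1⁻¹) h
      simpa [mul_assoc] using this))
    (fun h => R.t_ne.2 (by
      rw [← h1]
      have := congrArg (fun y => g1 * y * g1⁻¹) h
      simpa [mul_assoc] using this.symm))
  refine ⟨g1 * mu l, ?_, ?_⟩
  · rw [show g1 * mu l * z * (g1 * mu l)⁻¹ = g1 * (mu l * z * (mu l)⁻¹) * g1⁻¹ by group,
      R.comm l, mul_inv_cancel_right, h1]
  · rw [show g1 * mu l * tInv mu * (g1 * mu l)⁻¹ = g1 * (mu l * tInv mu * (mu l)⁻¹) * g1⁻¹ by group,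
      hl]
    group

/-- `Q ∩ Q^g = {1, z, t, tz}` -/
theorem Raw.meet_mem [Finite G] (R : Raw z mu) {g : G} (h1 : g * z * g⁻¹ = tInv mu)
    (h2 : g * tInv mu * g⁻¹ = z) {x : G} (hx : x ∈ qSub mu) (hx' : g⁻¹ * x * g ∈ qSub mu) :
    x = 1 ∨ x = z ∨ x = tInv mu ∨ x = tInv mu * z := by
  classical
  set N := qSub mu ⊓ (qSub mu).map (MulAut.conj g).toMonoidHom with hN
  have hc : Nat.card ↥N = 4 := R.meet g (h1 ▸ R.t_memQ) (h1 ▸ R.t_ne.2)
  have mem : ∀ y, y ∈ N ↔ y ∈ qSub mu ∧ g⁻¹ * y * g ∈ qSub mu := by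
    intro y
    rw [hN, Subgroup.mem_inf]
    refine and_congr_right fun _ => ⟨?_, fun h => ⟨_, h, by simp [MulAut.conj_apply, mul_assoc]⟩⟩
    rintro ⟨q, hq, rfl⟩
    simpa [MulAut.conj_apply, mul_assoc] using hq
  have hz : z ∈ N := (mem z).mpr ⟨R.z_memQ, by rw [conj_one_conj h2]; exact R.t_memQ⟩
  have ht : tInv mu ∈ N :=
    (mem _).mpr ⟨R.t_memQ, by rw [conj_one_conj h1]; exact R.z_memQ⟩
  haveI : Fintype ↥N := Fintype.ofFinite _
  let S : Finset ↥N := {1, ⟨z, hz⟩, ⟨_, ht⟩, ⟨_, mul_mem ht hz⟩}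
  have n3 : tInv mu * z ≠ 1 := fun e =>
    R.t_ne.2 (mul_right_cancel (e.trans R.zz.symm))
  have hS : S.card = 4 := by
    simp [S, Finset.card_insert_of_notMem, Subtype.ext_iff, R.z_ne.symm, R.t_ne.1.symm,
      R.t_ne.2.symm, n3.symm, R.z_ne, R.t_ne.1, R.t_ne.2]
  have hall : S = Finset.univ := Finset.eq_univ_of_card _ (by
    rw [hS, ← Nat.card_eq_fintype_card, hc])
  have hmem : (⟨x, (mem x).mpr ⟨hx, hx'⟩⟩ : ↥N) ∈ S := hall ▸ Finset.mem_univ _
  simpa [S, Subtype.ext_iff] using hmem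

theorem Raw.inV_of_mem (R : Raw z mu) {p : SL2 × SL2}
    (h : mu p = 1 ∨ mu p = z ∨ mu p = tInv mu ∨ mu p = tInv mu * z) : InV p := by
  unfold InV
  rcases h with h | h | h | h
  · exact Or.inl (R.mu_eq.mp (h.trans (map_one mu).symm))
  · exact Or.inr (Or.inl (R.mu_eq.mp (h.trans R.neg.symm)))
  · exact Or.inr (Or.inr (Or.inl (R.mu_eq.mp h)))
  · refine Or.inr (Or.inr (Or.inr (R.mu_eq.mp (h.trans ?_))))
    rw [tInv, ← R.neg, ← map_mul]
    exact R.mu_eq.mpr (Or.inl (by decide +kernel))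

/-- `C(z)` contains elements acting exactly as the swap and as the diagonal outer automorphism -/
theorem Raw.exists_reps [Finite G] (R : Raw z mu) :
    ∃ s tau : G, s * z = z * s ∧ tau * z = z * tau ∧
      (∀ u v : SL2, s * mu (u, v) * s⁻¹ = mu (v, u)) ∧
      (∀ u v : SL2, tau * mu (u, v) * tau⁻¹ = mu (dlt u, dlt v)) := by
  obtain ⟨g, h1, h2⟩ := R.exists_swap
  -- elements coming from the other quaternion product
  have hw : ∀ c ∈ w1Sub mu, (g * c * g⁻¹) * z = z * (g * c * g⁻¹) ∧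
      (g * c * g⁻¹) * tInv mu = tInv mu * (g * c * g⁻¹) := by
    intro c hc
    obtain ⟨hcQ, hct⟩ := Subgroup.mem_inf.mp hc
    constructor
    · rw [← h2, conj_mul, conj_mul, mem_cent_single.mp hct]
    · rw [← h1, conj_mul, conj_mul, R.comm_of_memQ hcQ]
  have hV : ∀ c ∈ w1Sub mu, ∀ p, mu p ∈ w1Sub mu → ∀ p',
      (g * c * g⁻¹) * mu p * (g * c * g⁻¹)⁻¹ = mu p' → InV (p' * p⁻¹) := by
    intro c hc p hp p' hp'
    obtain ⟨hw1, hw2⟩ := hw c hc
    obtain ⟨hpQ, hpt⟩ := Subgroup.mem_inf.mp hp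
    apply R.inV_of_mem
    rw [map_mul, map_inv, ← hp']
    apply R.meet_mem h1 h2 (mul_mem (R.conj_memQ hw1 hpQ) (inv_mem hpQ))
    have hd : g⁻¹ * mu p * g * z = z * (g⁻¹ * mu p * g) := by
      have := congrArg (fun y => g⁻¹ * y * g) (mem_cent_single.mp hpt)
      rw [← h1] at this
      simpa [mul_assoc] using this
    have hcQ := (Subgroup.mem_inf.mp hc).1
    have : g⁻¹ * (g * c * g⁻¹ * mu p * (g * c * g⁻¹)⁻¹ * (mu p)⁻¹) * g =
        c * ((g⁻¹ * mu p * g) * c⁻¹ * (g⁻¹ * mu p * g)⁻¹) := by group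
    rw [this]
    exact mul_mem hcQ (R.conj_memQ hd (inv_mem hcQ))
  have notrange : ∀ p, mu p ∈ w1Sub mu → ¬ InV p → g * mu p * g⁻¹ ∉ mu.range := by
    rintro p hp hnV ⟨⟨u, v⟩, huv⟩
    obtain ⟨hpQ, -⟩ := Subgroup.mem_inf.mp hp
    obtain ⟨a, b, ha, hb, e⟩ := mem_qSub.mp hpQ
    have h4 : (mu p) ^ 4 = 1 := by rw [← e, ← map_pow, Prod.pow_mk, ha, hb, Prod.mk_one_one, map_one]
    have h4' : mu ((u, v) ^ 4) = 1 := by
      rw [map_pow, huv, conj_pow, h4, mul_one, mul_inv_cancel]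
    have hQ : g * mu p * g⁻¹ ∈ qSub mu := by
      refine mem_qSub.mpr ⟨u, v, ?_, ?_, huv⟩
      all_goals
        apply sl_two_elt
        rw [show 8 = 4 * 2 from rfl, pow_mul]
        rcases (R.ker _).mp h4' with h' | h' <;> rw [Prod.pow_mk, Prod.ext_iff] at h' <;>
          simp only [Prod.fst_one, Prod.snd_one] at h' <;>
          first | rw [h'.1] | rw [h'.2]
        all_goals first | rw [one_pow] | (rw [pow_two, sZ_facts.1])
    rcases R.meet_mem h1 h2 hQ (by simpa [mul_assoc] using hpQ) with h | h | h | h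
    · refine hnV (R.inV_of_mem (Or.inl ?_))
      exact mul_left_cancel (mul_right_cancel (h.trans (by group : (1 : G) = g * 1 * g⁻¹)))
    · refine hnV (R.inV_of_mem (Or.inr (Or.inr (Or.inl ?_))))
      exact mul_left_cancel (mul_right_cancel (h.trans h2.symm))
    · refine hnV (R.inV_of_mem (Or.inr (Or.inl ?_)))
      exact mul_left_cancel (mul_right_cancel (h.trans h1.symm))
    · refine hnV (R.inV_of_mem (Or.inr (Or.inr (Or.inr ?_))))
      refine mul_left_cancel (mul_right_cancel (h.trans ?_ : g * mu p * g⁻¹ = g * (tInv mu * z) * g⁻¹))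
      rw [show g * (tInv mu * z) * g⁻¹ = (g * tInv mu * g⁻¹) * (g * z * g⁻¹) by group, h1, h2]
      exact (R.comm (sJ, sJ))
  have hdiag : ∀ c ∈ w1Sub mu, ∀ k b k' b', Acts mu (g * c * g⁻¹) false k b k' b' → b = b' := by
    intro c hc k b k' b' ha
    have one : ∀ (m : SL2) (e : Bool), cj m e 1 = 1 := fun m e => by
      cases e <;> simp [cj, dlt_one]
    refine diag_class k k' b b' ?_ ?_ ?_
    · rw [← R.mu_eq]
      have := ha sJ sJ
      simp only [cond_false] at this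
      rw [← this]
      show g * c * g⁻¹ * tInv mu * (g * c * g⁻¹)⁻¹ = tInv mu
      rw [(hw c hc).2, mul_inv_cancel_right]
    · exact hV c hc (sI, sI) R.w1_gens.2 _ (ha sI sI)
    · have := hV c hc (sJ, 1) R.w1_gens.1 _ (ha sJ 1)
      simpa [one] using this
  have hp3 : mu ((sJ, 1) * (sI, sI)) ∈ w1Sub mu := by
    rw [map_mul]; exact mul_mem R.w1_gens.1 R.w1_gens.2
  set wa := g * mu (sJ, 1) * g⁻¹
  set wm := g * mu (sI, sI) * g⁻¹
  set wc := g * mu ((sJ, 1) * (sI, sI)) * g⁻¹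
  have hwc : wc = wa * wm := by simp only [wc, wa, wm]; rw [conj_mul, ← map_mul]
  have cA := (hw _ R.w1_gens.1).1
  have cM := (hw _ R.w1_gens.2).1
  have cC := (hw _ hp3).1
  have nA := notrange _ R.w1_gens.1 not_inV.1
  have nM := notrange _ R.w1_gens.2 not_inV.2.1
  have nC := notrange _ hp3 not_inV.2.2
  obtain ⟨swa, ka, ba, ka', ba', A⟩ := R.exists_acts cA
  obtain ⟨swm, km, bm, km', bm', M⟩ := R.exists_acts cM
  obtain ⟨swc, kc, bc, kc', bc', Cc⟩ := R.exists_acts cC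
  -- diagonal elements outside the range have both components outer
  have dg : ∀ {c : G}, c ∈ w1Sub mu → g * c * g⁻¹ ∉ mu.range → ∀ {k b k' b'},
      Acts mu (g * c * g⁻¹) false k b k' b' → b = true ∧ b' = true := by
    intro c hc hn k b k' b' ha
    have := hdiag c hc k b k' b' ha
    subst this
    cases b
    · exact absurd (R.mem_range_of_acts (hw c hc).1 ha) hn
    · exact ⟨rfl, rfl⟩
  -- two of the three elements swap
  have two : ∃ (w : G) (k b k' b' : _) (d : G) (l l' : SL2), w * z = z * w ∧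
      Acts mu w true k b k' b' ∧ w * w ∈ mu.range ∧ d * z = z * d ∧
      Acts mu d false l true l' true := by
    have sqr : ∀ p, mu p ∈ w1Sub mu → (g * mu p * g⁻¹) * (g * mu p * g⁻¹) ∈ mu.range := by
      intro p hp
      have hsq : (p * p = 1 ∨ p * p = (sZ, sZ)) ∨ p * p = (sZ, 1) ∨ p * p = (1, sZ) := by
        obtain ⟨u, v, hu, hv, e⟩ := mem_qSub.mp (Subgroup.mem_inf.mp hp).1
        have : p * p = (u, v) * (u, v) := by
          rcases R.mu_eq.mp e.symm with rfl | rfl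
          · rfl
          · have hc : ((u, v) : SL2 × SL2) * (sZ, sZ) = (sZ, sZ) * (u, v) :=
              Prod.ext (sZ_comm u).symm (sZ_comm v).symm
            calc (u, v) * (sZ, sZ) * ((u, v) * (sZ, sZ))
                = (u, v) * ((sZ, sZ) * (u, v)) * (sZ, sZ) := by simp only [mul_assoc]
              _ = (u, v) * (u, v) * ((sZ, sZ) * (sZ, sZ)) := by rw [← hc]; simp only [mul_assoc]
              _ = _ := by rw [show ((sZ, sZ) : SL2 × SL2) * (sZ, sZ) = 1 by decide +kernel, mul_one]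
        rw [this, Prod.mk_mul_mk, Prod.mk_eq_one, Prod.mk.injEq, Prod.mk.injEq, Prod.mk.injEq]
        rcases q8_cases u hu with rfl | rfl | h <;> rcases q8_cases v hv with rfl | rfl | h' <;>
          simp [sZ_facts.1, *]
      rw [conj_mul, ← map_mul]
      rcases hsq with (e | e) | e | e <;> rw [e]
      · exact ⟨1, by simp⟩
      · rw [(R.ker _).mpr (Or.inr rfl)]; exact ⟨1, by simp⟩
      · rw [R.neg, h1]; exact ⟨_, rfl⟩
      · rw [show mu ((1, sZ) : SL2 × SL2) = z from R.neg ▸ R.mu_eq.mpr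
          (Or.inr (by decide +kernel)), h1]
        exact ⟨_, rfl⟩
    have bad : ∀ {sw k k' l l' b b'}, Acts mu wc sw k b k' b' → Acts mu wa false ka true ka' true →
        Acts mu wm false l true l' true → sw = false ∧ b = false ∧ b' = false → False := by
      intro sw k k' l l' b b' h _ _ hh
      obtain ⟨rfl, rfl, rfl⟩ := hh
      exact nC (R.mem_range_of_acts cC h)
    cases swa
    · obtain ⟨rfl, rfl⟩ := dg R.w1_gens.1 nA A
      cases swm
      · obtain ⟨rfl, rfl⟩ := dg R.w1_gens.2 nM M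
        obtain ⟨m, m', AM⟩ := A.comp M
        exact absurd (R.mem_range_of_acts cC (hwc ▸ AM)) nC
      · exact ⟨wm, km, bm, km', bm', wa, ka, ka', cM, M, sqr _ R.w1_gens.2, cA, A⟩
    · cases swm
      · obtain ⟨rfl, rfl⟩ := dg R.w1_gens.2 nM M
        exact ⟨wa, ka, ba, ka', ba', wm, km, km', cA, A, sqr _ R.w1_gens.1, cM, M⟩
      · obtain ⟨m, m', AM⟩ := A.comp M
        rw [← hwc] at AM
        simp only [bne_self_eq_false, cond_true] at AM
        obtain ⟨e1, e2⟩ := dg hp3 nC AM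
        rw [e1, e2] at AM
        exact ⟨wa, ka, ba, ka', ba', wc, m, m', cA, A, sqr _ R.w1_gens.1, cC, AM⟩
  obtain ⟨w, k, b, k', b', d, l, l', cw, W, wsq, cd, D⟩ := two
  obtain ⟨m, m', WW⟩ := W.comp W
  have := R.acts_range wsq WW
  have hbb : b = b' := by cases b <;> cases b' <;> simp at this <;> rfl
  subst hbb
  -- a swap with inner components
  obtain ⟨w', k1, k1', cw', W'⟩ : ∃ (w' : G) (k1 k1' : SL2), w' * z = z * w' ∧
      Acts mu w' true k1 false k1' false := by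
    cases b
    · exact ⟨w, k, k', cw, W⟩
    · obtain ⟨p, p', WD⟩ := W.comp D
      exact ⟨w * d, p, p', Commute.mul_left cw cd, WD⟩
  refine ⟨(mu (k1', k1))⁻¹ * w', (mu (l, l'))⁻¹ * d, ?_, ?_, fun u v => ?_, fun u v => ?_⟩
  · exact (Commute.inv_left (R.comm _)).mul_left cw'
  · exact (Commute.inv_left (R.comm _)).mul_left cd
  · rw [show (mu (k1', k1))⁻¹ * w' * mu (u, v) * ((mu (k1', k1))⁻¹ * w')⁻¹ =
      (mu (k1', k1))⁻¹ * (w' * mu (u, v) * w'⁻¹) * mu (k1', k1) by group, W' u v, ← map_inv,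
      ← map_mul, ← map_mul]
    simp [cj, mul_assoc]
  · rw [show (mu (l, l'))⁻¹ * d * mu (u, v) * ((mu (l, l'))⁻¹ * d)⁻¹ =
      (mu (l, l'))⁻¹ * (d * mu (u, v) * d⁻¹) * mu (l, l') by group, D u v, ← map_inv,
      ← map_mul, ← map_mul]
    simp [cj, mul_assoc]

end H87.U43
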