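import Cfsg.Agent.H87.U43.Fusion

/-!
# U4(3) type: an element of order three fusing the involutions of a four group
-/

set_option autoImplicit false
set_option maxRecDepth 100000
set_option synthInstance.maxHeartbeats 200000
set_option synthInstance.maxSize 2000

namespace H87.U43

variable {G : Type*} [Group G] [Finite G] {z : G} {mu : SL2 × SL2 →* G} {s tau : G}

/-- the normaliser is transitive on the nonidentity elements -/
theorem exists_move (C : Coord z mu s tau) :
    ∀ x ∈ eSet mu s tau, x ≠ 1 → ∃ n : G, Norms mu s tau n ∧ n * z * n⁻¹ = x := by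
  have R := C.raw
  obtain ⟨h, hN, hz, hz'⟩ := exists_normalizing C
  have hv := C.hEv_vList
  obtain ⟨mz, mt, mm, ms, mtz, msz⟩ := eSet_mem C
  have six : ∀ i : EIx, i.2.2 = false → ¬ HEq' (eEl i) (vList 0) → ¬ HEq' (eEl i) (vList 1) →
      ∃ n : G, Norms mu s tau n ∧ n * z * n⁻¹ = hEv mu s tau (eEl i) := by
    intro i h1 h2 h3
    obtain ⟨w, hw⟩ := six_orbit i h1 h2 h3
    refine ⟨hEv mu s tau (nWord w) * h, Norms.mul (norms_of_list C (nWord_norm w)) hN, ?_⟩
    rw [show hEv mu s tau (nWord w) * h * z * (hEv mu s tau (nWord w) * h)⁻¹ =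
      hEv mu s tau (nWord w) * (h * z * h⁻¹) * (hEv mu s tau (nWord w))⁻¹ by group, hz, ← hv.2.2.2]
    exact (fConj_iff C).mp hw
  -- one element outside `Q` is reached
  have hm : mu (sI, sI) = hEv mu s tau (eEl (0, true, false)) := by
    rw [← C.hEv_zero, C.hEv_eq]; decide +kernel
  obtain ⟨i0, h0, n0, hn0, hn0'⟩ : ∃ i0 : EIx, i0.2.2 = true ∧ ∃ n : G, Norms mu s tau n ∧
      n * z * n⁻¹ = hEv mu s tau (eEl i0) := by
    obtain ⟨i, hi⟩ := hN _ mm
    obtain ⟨n1, hn1, hn1'⟩ := six (0, true, false) rfl (by decide +kernel) (by decide +kernel)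
    refine ⟨i, ?_, h * n1, Norms.mul hN hn1, ?_⟩
    · by_contra hc
      simp only [Bool.not_eq_true] at hc
      have hQ : h * mu (sI, sI) * h⁻¹ ∈ qSub mu := by
        rw [← hi]
        obtain ⟨j, c, d⟩ := i
        simp only at hc
        subst hc
        dsimp only [eEl]
        show hEv mu s tau (hM _ _) ∈ _
        rw [C.hEv_mul]
        refine mul_mem ?_ ?_
        · fin_cases j <;> simp [hv.1, hv.2.1, hv.2.2.1, hv.2.2.2, R.z_memQ, R.t_memQ, mul_mem,
            one_mem]
        · cases c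
          · simp [hEv_def, one_mem]
          · exact mem_qSub.mpr ⟨sI, sI, by decide +kernel, by decide +kernel, (C.hEv_zero _).symm⟩
      obtain ⟨g, hg1, hg2⟩ := R.exists_swap
      -- `h⁻¹ = g * c` with `c` centralising `z`
      have hc1 : g⁻¹ * h⁻¹ * z = z * (g⁻¹ * h⁻¹) := by
        rw [← mul_inv_eq_iff_eq_mul, show g⁻¹ * h⁻¹ * z * (g⁻¹ * h⁻¹)⁻¹ =
          g⁻¹ * (h⁻¹ * z * h) * g by group, hz', conj_one_conj hg1]
      have hmQ : mu (sI, sI) ∈ qSub mu :=
        mem_qSub.mpr ⟨sI, sI, by decide +kernel, by decide +kernel, rfl⟩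
      have := R.meet_mem hg1 hg2 hmQ (by
        have := R.conj_memQ hc1 hQ
        simpa [mul_assoc] using this)
      have hnv : mu (sI, sI) ≠ 1 ∧ mu (sI, sI) ≠ z ∧ mu (sI, sI) ≠ tInv mu ∧
          mu (sI, sI) ≠ tInv mu * z := by
        have := C.hEv_zero (sI, sI)
        rw [← this, ← hv.2.2.2, ← hv.1, ← hv.2.1, ← hv.2.2.1, Ne, Ne, Ne, Ne, C.hEv_eq, C.hEv_eq,
          C.hEv_eq, C.hEv_eq]
        decide +kernel
      rcases this with e | e | e | e
      exacts [hnv.1 e, hnv.2.1 e, hnv.2.2.1 e, hnv.2.2.2 e]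
    · dsimp only at hi
      rw [hi, show h * n1 * z * (h * n1)⁻¹ = h * (n1 * z * n1⁻¹) * h⁻¹ by group, hn1', ← hm]
  rintro _ ⟨i, rfl⟩ hne
  dsimp only at hne ⊢
  rcases Bool.eq_false_or_eq_true i.2.2 with hb | hb
  · obtain ⟨w, hw⟩ := eight_orbit i0 i h0 hb
    refine ⟨hEv mu s tau (nWord w) * n0, Norms.mul (norms_of_list C (nWord_norm w)) hn0, ?_⟩
    rw [show hEv mu s tau (nWord w) * n0 * z * (hEv mu s tau (nWord w) * n0)⁻¹ =
      hEv mu s tau (nWord w) * (n0 * z * n0⁻¹) * (hEv mu s tau (nWord w))⁻¹ by group, hn0']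
    exact (fConj_iff C).mp hw
  · by_cases h1 : HEq' (eEl i) (vList 1)
    · exact ⟨1, (normE mu s tau).one_mem, by rw [(C.hEv_eq _ _).mpr h1, hv.2.1]; simp⟩
    · refine six i hb (fun h0 => hne ?_) h1
      rw [(C.hEv_eq _ _).mpr h0, hv.1]

theorem card_eSet (C : Coord z mu s tau) : Nat.card ↥(eSet mu s tau) = 16 := by
  rw [eSet, Nat.card_range_of_injective (fun a b e => eEl_inj a b ((C.hEv_eq _ _).mp e))]
  simp

theorem three_dvd_nine {C : Coord z mu s tau} {g : G} (h9 : g ^ 9 = 1) (hc : g * z = z * g)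
    (hd : g * mu (sX, sX) = mu (sX, sX) * g) :
    ∃ a b : Fin 3, g = mu (sX ^ a.val, sX ^ b.val) := by
  obtain ⟨⟨k, a, b⟩, hk⟩ := C.hEv_surj hc
  have hsq : ∀ x : HEl, (hM x x).2 = (false, false) := fun x => by simp [hM, hMul]
  have hg2 : g * g ∈ mu.range := by
    rw [hk, ← C.hEv_mul]
    have h2 := hsq (k, a, b)
    generalize hM (k, a, b) (k, a, b) = r at h2
    obtain ⟨kk, x, y⟩ := r
    obtain ⟨rfl, rfl⟩ := Prod.mk.inj h2
    exact ⟨kk, (C.hEv_zero kk).symm⟩
  have hg : g ∈ mu.range := by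
    have : g = (g * g) ^ 5 := by
      rw [← pow_two, ← pow_mul, show 2 * 5 = 9 + 1 from rfl, pow_succ, h9, one_mul]
    rw [this]
    exact pow_mem hg2 5
  obtain ⟨⟨u, v⟩, rfl⟩ := hg
  rw [← map_mul, ← map_mul, C.raw.mu_eq] at hd
  rw [← map_pow, ← map_one mu, C.raw.mu_eq] at h9
  obtain ⟨i, j, hij⟩ := p0_of_comm u v hd h9
  exact ⟨i, j, C.raw.mu_eq.mpr hij⟩

/-- the element of order three -/
theorem exists_e (C : Coord z mu s tau) :
    ∃ e : G, e ^ 3 = 1 ∧ Norms mu s tau e ∧ e * mu (sX, sX) = mu (sX, sX) * e ∧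
      e * z * e⁻¹ = s ∧ e * s * e⁻¹ = s * z ∧
      ∃ (c : G) (k : ℕ), (k = 1 ∨ k = 2) ∧ e = c * mu (sX, sX) ^ k * c⁻¹ := by
  classical
  have R := C.raw
  obtain ⟨mz, mt, mm, ms, mtz, msz⟩ := eSet_mem C
  obtain ⟨hE1, hE2⟩ := eSet_facts C
  have hv := C.hEv_vList
  set d := mu (sX, sX) with hd
  have hdev : hEv mu s tau d1El = d := C.hEv_zero _
  have hd3 : d ^ 3 = 1 := by
    rw [hd, ← map_pow]; exact (R.ker _).mpr (Or.inl (by decide +kernel))
  have hd1 : d ≠ 1 := by
    rw [hd, Ne, R.ker]; decide +kernel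
  have hdN : Norms mu s tau d := by
    rw [← hdev]; exact norms_of_list C (nGens_norm d1El (by simp [nGens]))
  set N := normE mu s tau with hN
  let pt : Type _ := {x : G // x ∈ eSet mu s tau ∧ x ≠ 1}
  letI act : MulAction ↥N pt :=
    { smul := fun n x => ⟨(n : G) * x.1 * (n : G)⁻¹, n.2 _ x.2.1, fun e => x.2.2 (by
        rw [mul_inv_eq_one, mul_eq_left] at e; exact e)⟩
      one_smul := fun x => Subtype.ext (by
        show ((1 : ↥N) : G) * x.1 * ((1 : ↥N) : G)⁻¹ = x.1; simp)
      mul_smul := fun a b x => Subtype.ext (by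
        show ((a * b : ↥N) : G) * x.1 * ((a * b : ↥N) : G)⁻¹ =
          (a : G) * ((b : G) * x.1 * (b : G)⁻¹) * (a : G)⁻¹
        simp [mul_assoc]) }
  have smul_val : ∀ (n : ↥N) (x : pt), (n • x).1 = (n : G) * x.1 * (n : G)⁻¹ := fun _ _ => rfl
  have zne : (z : G) ≠ 1 := R.z_ne
  let zp : pt := ⟨z, mz, zne⟩
  have horb : Nat.card ↥(MulAction.orbit ↥N zp) = 15 := by
    have : MulAction.orbit ↥N zp = Set.univ := by
      ext x
      simp only [Set.mem_univ, iff_true]
      obtain ⟨n, hn, hx⟩ := exists_move C x.1 x.2.1 x.2.2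
      exact ⟨⟨n, hn⟩, Subtype.ext hx⟩
    rw [this, Nat.card_congr (Equiv.Set.univ pt)]
    have h16 := card_eSet C
    have h1 : (1 : G) ∈ eSet mu s tau := by
      have := (hE2 z mz z mz).1; rwa [R.zz] at this
    rw [Nat.card_coe_set_eq] at h16
    show Nat.card ↥({x : G | x ∈ eSet mu s tau ∧ x ≠ 1}) = 15
    rw [Nat.card_coe_set_eq, show {x : G | x ∈ eSet mu s tau ∧ x ≠ 1} = eSet mu s tau \ {1} from rfl,
      Set.ncard_diff_singleton_of_mem h1, h16]
  let dN : ↥N := ⟨d, hdN⟩
  have hd3N : orderOf dN = 3 :=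
    orderOf_eq_prime (Subtype.ext (by simpa using hd3)) (fun e => hd1 (congrArg Subtype.val e))
  have h9 : 3 ^ 2 ∣ Nat.card ↥N := by
    have e1 := (MulAction.stabilizer ↥N zp).card_mul_index
    rw [MulAction.index_stabilizer, ← Nat.card_coe_set_eq, horb, mul_comm] at e1
    have hst : 3 ∣ Nat.card ↥(MulAction.stabilizer ↥N zp) := by
      have : dN ∈ MulAction.stabilizer ↥N zp := Subtype.ext (by
        show d * z * d⁻¹ = z
        rw [hd, R.comm, mul_inv_cancel_right])
      have h := orderOf_dvd_natCard (⟨dN, this⟩ : ↥(MulAction.stabilizer ↥N zp))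
      rwa [Subgroup.orderOf_mk, hd3N] at h
    rw [← e1, show (3 : ℕ) ^ 2 = 3 * 3 from rfl]
    exact Nat.mul_dvd_mul (by norm_num) hst
  haveI : Fact (Nat.Prime 3) := ⟨Nat.prime_three⟩
  obtain ⟨T, hT, hdT⟩ := Sylow.exists_subgroup_card_pow_prime_le (p := 3) h9
    (Subgroup.zpowers dN) (n := 1) (by rw [Nat.card_zpowers, hd3N]; norm_num) (by norm_num)
  have hdT' : dN ∈ T := hdT (Subgroup.mem_zpowers dN)
  have hcomm : ∀ a ∈ T, ∀ b ∈ T, a * b = b * a := by
    haveI := IsPGroup.isMulCommutative_of_card_eq_prime_sq (p := 3) hT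
    intro a ha b hb
    exact congrArg Subtype.val (IsMulCommutative.is_comm.comm (⟨a, ha⟩ : T) ⟨b, hb⟩)
  have h9' : ∀ a ∈ T, (a : G) ^ 9 = 1 := by
    intro a ha
    have := orderOf_dvd_natCard (⟨a, ha⟩ : ↥T)
    rw [hT] at this
    have := orderOf_dvd_iff_pow_eq_one.mp this
    exact congrArg (fun x : ↥T => ((x : ↥N) : G)) this
  have dpow : ∀ a ∈ T, (a : G) * z = z * a → a ∈ Subgroup.zpowers dN := by
    intro a ha hz
    have hcd := congrArg Subtype.val (hcomm a ha dN hdT')
    obtain ⟨i, j, hij⟩ := three_dvd_nine (C := C) (h9' a ha) hz hcd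
    by_cases hb : j - i = 0
    · rw [sub_eq_zero] at hb
      subst hb
      have : a = dN ^ j.val := Subtype.ext (by
        show (a : G) = d ^ j.val
        rw [hij, hd, ← map_pow, Prod.pow_mk])
      rw [this]
      exact pow_mem (Subgroup.mem_zpowers dN) _
    · exfalso
      refine x_not_norm (j - i) hb ?_
      have hn : Norms mu s tau (mu (1, sX ^ (j - i).val)) := by
        have : mu (1, sX ^ (j - i).val) = (d ^ i.val)⁻¹ * (a : G) := by
          rw [hij, hd, ← map_pow, ← map_inv, ← map_mul, R.mu_eq]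
          clear hij hb
          revert i j; decide +kernel
        rw [this]
        exact (N.mul_mem (N.inv_mem (N.pow_mem hdN _)) a.2)
      obtain ⟨l, hl⟩ := hn _ ⟨(0, true, false), rfl⟩
      exact ⟨l, (fConj_iff C).mpr (by rw [C.hEv_zero]; exact hl.symm)⟩
  -- the twelve points
  have hsE : hEv mu s tau (1, true, false) = s := by simp [hEv_def]
  have s1 : hEv mu s tau (eEl (0, false, true)) = s :=
    ((C.hEv_eq _ _).mpr (by decide +kernel)).trans hsE
  have s2 : hEv mu s tau (eEl (1, false, true)) = s * z :=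
    ((C.hEv_eq _ (hM (1, true, false) (vList 1))).mpr (by decide +kernel)).trans
      (by rw [C.hEv_mul, hsE, hv.2.1])
  have s0 : hEv mu s tau (eEl (1, false, false)) = z := by
    rw [← hv.2.1, C.hEv_eq]; decide +kernel
  have e0 : hEv mu s tau (eEl (0, false, false)) = 1 := by
    rw [← hv.1, C.hEv_eq]; decide +kernel
  have centd : ∀ x ∈ eSet mu s tau, d * x * d⁻¹ = x → x = 1 ∨ x = z ∨ x = s ∨ x = s * z := by
    rintro _ ⟨i, rfl⟩ hx
    rcases cent_d1 i ((fConj_iff C).mpr (by rw [hdev]; exact hx)) with rfl | rfl | rfl | rfl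
    exacts [Or.inl e0, Or.inr (Or.inl s0), Or.inr (Or.inr (Or.inl s1)),
      Or.inr (Or.inr (Or.inr s2))]
  let S : Set pt := {x | d * x.1 * d⁻¹ ≠ x.1}
  have hS : ∀ n ∈ T, ∀ x ∈ S, n • x ∈ S := by
    intro n hn x hx e
    apply hx
    have hcd : (n : G) * d = d * n := congrArg Subtype.val (hcomm n hn dN hdT')
    rw [smul_val] at e
    apply mul_left_cancel (a := (n : G))
    apply mul_right_cancel (b := (n : G)⁻¹)
    calc (n : G) * (d * x.1 * d⁻¹) * (n : G)⁻¹
        = ((n : G) * d) * x.1 * ((n : G) * d)⁻¹ := by group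
      _ = (d * (n : G)) * x.1 * (d * (n : G))⁻¹ := by rw [hcd]
      _ = d * ((n : G) * x.1 * (n : G)⁻¹) * d⁻¹ := by group
      _ = _ := e
  have hScard : Nat.card ↥S ≤ 12 := by
    have hsub : ∀ w ∈ ({z, s, s * z} : Set G), d * w * d⁻¹ = w := by
      rintro w (rfl | rfl | rfl)
      · rw [hd, R.comm, mul_inv_cancel_right]
      · rw [← hdev, ← s1]; exact (fConj_iff C).mp cent_d1'.1
      · rw [← hdev, ← s2]; exact (fConj_iff C).mp cent_d1'.2
    have h1 : (1 : G) ∈ eSet mu s tau := ⟨_, e0⟩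
    have h16 := card_eSet C
    rw [Nat.card_coe_set_eq] at h16 ⊢
    have : ((fun x : pt => x.1) '' S).ncard = S.ncard :=
      Set.ncard_image_of_injective _ Subtype.val_injective
    rw [← this]
    have hsub' : ((fun x : pt => x.1) '' S) ⊆ eSet mu s tau \ ({1, z, s, s * z} : Set G) := by
      rintro _ ⟨x, hx, rfl⟩
      refine ⟨x.2.1, ?_⟩
      rintro (e | e)
      · exact x.2.2 e
      · exact hx (hsub _ e)
    refine (Set.ncard_le_ncard hsub' (Set.toFinite _)).trans ?_
    have hin : ({1, z, s, s * z} : Set G) ⊆ eSet mu s tau := by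
      rintro w (rfl | rfl | rfl | rfl)
      exacts [h1, mz, ms, msz]
    have h4 : ({1, z, s, s * z} : Set G).ncard = 4 := by
      have : ({1, z, s, s * z} : Set G) = (fun i : EIx => hEv mu s tau (eEl i)) ''
          {(0, false, false), (1, false, false), (0, false, true), (1, false, true)} := by
        simp [Set.image_insert_eq, e0, s0, s1, s2]
      rw [this, Set.ncard_image_of_injective _ (fun a b e => eEl_inj a b ((C.hEv_eq _ _).mp e))]
      rw [Set.ncard_eq_toFinset_card']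
      decide +kernel
    rw [Set.ncard_diff hin (Set.toFinite _), h16, h4]
  obtain ⟨u, huS, n, hnT, hn1, hnu⟩ : ∃ u ∈ S, ∃ n ∈ T, n ≠ 1 ∧ n • u = u := by
    by_contra hc
    push Not at hc
    have hinj : ∀ u ∈ S, Function.Injective (fun n : ↥T => (n : ↥N) • u) := by
      intro u hu a b e
      by_contra hab
      refine hc u hu ((b : ↥N)⁻¹ * a) (mul_mem (inv_mem b.2) a.2) ?_ ?_
      · intro e'; exact hab (Subtype.ext (inv_mul_eq_one.mp e').symm)
      · have e' : (a : ↥N) • u = (b : ↥N) • u := e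
        rw [mul_smul, e', inv_smul_smul]
    obtain ⟨u0, hu0⟩ : ∃ u : pt, u ∈ S := by
      refine ⟨⟨mu (sI, sI), mm, ?_⟩, ?_⟩
      · rw [Ne, R.ker]; decide +kernel
      · show d * mu (sI, sI) * d⁻¹ ≠ mu (sI, sI)
        rw [hd, ← map_inv, ← map_mul, ← map_mul, Ne, R.mu_eq]; decide +kernel
    let f : ↥T → ↥S := fun n => ⟨(n : ↥N) • u0, hS _ n.2 _ hu0⟩
    have fi : Function.Injective f := fun a b e => hinj u0 hu0 (congrArg Subtype.val e)
    have : ¬ Function.Surjective f := by
      intro fs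
      have h12 : Nat.card ↥S = 12 := by
        refine le_antisymm hScard ?_
        have hS12 : 12 ≤ S.ncard := by
          have hsup : eSet mu s tau \ ({1, z, s, s * z} : Set G) ⊆
              ((fun x : pt => x.1) '' S) := by
            rintro w ⟨hw, hw'⟩
            simp only [Set.mem_insert_iff, Set.mem_singleton_iff] at hw'
            refine ⟨⟨w, hw, fun e => hw' (Or.inl e)⟩, fun e => hw' ?_, rfl⟩
            exact centd w hw e
          have := Set.ncard_le_ncard hsup (Set.toFinite _)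
          rw [Set.ncard_image_of_injective _ Subtype.val_injective] at this
          refine le_trans ?_ this
          have h16 := card_eSet C
          rw [Nat.card_coe_set_eq] at h16
          have := Set.le_ncard_diff ({1, z, s, s * z} : Set G) (eSet mu s tau)
          have h4 : ({1, z, s, s * z} : Set G).ncard ≤ 4 := by
            refine (Set.ncard_insert_le _ _).trans (Nat.succ_le_succ ?_)
            refine (Set.ncard_insert_le _ _).trans (Nat.succ_le_succ ?_)
            refine (Set.ncard_insert_le _ _).trans (Nat.succ_le_succ ?_)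
            simp
          omega
        rwa [Nat.card_coe_set_eq]
      have := Nat.card_congr (Equiv.ofBijective f ⟨fi, fs⟩)
      rw [hT, h12] at this
      norm_num at this
    simp only [Function.Surjective, not_forall, not_exists] at this
    obtain ⟨u1, hu1⟩ := this
    let F : ↥T × Bool → ↥S := fun p =>
      bif p.2 then ⟨(p.1 : ↥N) • u1.1, hS _ p.1.2 _ u1.2⟩ else f p.1
    have disj : ∀ a b : ↥T, (a : ↥N) • u1.1 ≠ (b : ↥N) • u0 := by
      intro a b e
      refine hu1 (a⁻¹ * b) (Subtype.ext ?_)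
      show ((a⁻¹ * b : ↥T) : ↥N) • u0 = u1.1
      rw [Subgroup.coe_mul, Subgroup.coe_inv, mul_smul, ← e, inv_smul_smul]
    have Fi : Function.Injective F := by
      rintro ⟨a, _ | _⟩ ⟨b, _ | _⟩ e
      · exact Prod.ext (fi e) rfl
      · exact absurd (congrArg Subtype.val e).symm (disj b a)
      · exact absurd (congrArg Subtype.val e) (disj a b)
      · exact Prod.ext (hinj u1.1 u1.2 (congrArg Subtype.val e)) rfl
    have := (Nat.card_le_card_of_injective F Fi).trans hScard
    rw [Nat.card_prod, hT] at this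
    simp at this
  -- properties of the fixing element
  have hnd : (n : G) * d = d * n := congrArg Subtype.val (hcomm n hnT dN hdT')
  have hnu' : (n : G) * u.1 * (n : G)⁻¹ = u.1 := congrArg Subtype.val hnu
  have notpow : n ∉ Subgroup.zpowers dN := by
    intro h
    obtain ⟨k, rfl⟩ : ∃ k : ℕ, dN ^ k = n :=
      (Submonoid.mem_powers_iff _ _).mp (mem_powers_iff_mem_zpowers.mpr h)
    have hne : k % 3 ≠ 0 := fun h0 => hn1 (by
      rw [← pow_mod_orderOf, hd3N, h0, pow_zero])
    apply huS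
    have hu' : d ^ k * u.1 * (d ^ k)⁻¹ = u.1 := by simpa using hnu'
    have hk3 : d ^ k = d ^ (k % 3) := by
      conv_lhs => rw [← Nat.mod_add_div k 3, pow_add, pow_mul, hd3, one_pow, mul_one]
    rw [hk3] at hu'
    have : k % 3 = 1 ∨ k % 3 = 2 := by omega
    rcases this with h' | h' <;> rw [h'] at hu'
    · simpa using hu'
    · have hdinv : d ^ 2 = d⁻¹ := eq_inv_of_mul_eq_one_left (by rw [← pow_succ, hd3])
      rw [hdinv, inv_inv] at hu'
      exact (conj_one_conj (by rw [inv_inv]; exact hu' : d⁻¹ * u.1 * d⁻¹⁻¹ = u.1)) |> fun h => by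
        simpa using h
  have hn3 : (n : G) ^ 3 = 1 := by
    by_contra h3
    have hgen : Subgroup.zpowers n = T := by
      have h9n : orderOf n = 9 := by
        have hdvd : orderOf n ∣ 3 ^ 2 := by
          apply orderOf_dvd_of_pow_eq_one
          exact Subtype.ext (h9' n hnT)
        obtain ⟨i, hi, hi'⟩ := (Nat.dvd_prime_pow Nat.prime_three).mp hdvd
        interval_cases i
        · exact absurd (orderOf_eq_one_iff.mp (hi'.trans (pow_zero 3))) hn1
        · exfalso; apply h3
          have := pow_orderOf_eq_one n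
          rw [hi', pow_one] at this
          exact congrArg Subtype.val this
        · exact hi'
      refine Subgroup.eq_of_le_of_card_ge (Subgroup.zpowers_le.mpr hnT) ?_
      rw [hT, Nat.card_zpowers, h9n]; norm_num
    obtain ⟨k, hk⟩ := Subgroup.mem_zpowers_iff.mp (hgen ▸ hdT' : dN ∈ Subgroup.zpowers n)
    apply huS
    have : dN • u = u := by
      rw [← hk]
      exact MulAction.mem_stabilizer_iff.mp (Subgroup.zpow_mem _ (MulAction.mem_stabilizer_iff.mpr hnu) k)
    exact congrArg Subtype.val this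
  have hzmove : (n : G) * z * (n : G)⁻¹ ≠ z := fun e =>
    notpow (dpow n hnT (mul_inv_eq_iff_eq_mul.mp e))
  have hsd : d * s * d⁻¹ = s := by
    rw [← hdev, ← s1]; exact (fConj_iff C).mp cent_d1'.1
  have himg : ∀ w, d * w * d⁻¹ = w → d * ((n : G) * w * (n : G)⁻¹) * d⁻¹ =
      (n : G) * w * (n : G)⁻¹ := by
    intro w hw
    calc d * ((n : G) * w * (n : G)⁻¹) * d⁻¹ = (d * n) * w * (d * n)⁻¹ := by group
      _ = (n * d) * w * ((n : G) * d)⁻¹ := by rw [hnd]
      _ = (n : G) * (d * w * d⁻¹) * (n : G)⁻¹ := by group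
      _ = _ := by rw [hw]
  have hdz : d * z * d⁻¹ = z := by rw [hd, R.comm, mul_inv_cancel_right]
  have hzimg : (n : G) * z * (n : G)⁻¹ = s ∨ (n : G) * z * (n : G)⁻¹ = s * z := by
    rcases centd _ (n.2 _ mz) (himg z hdz) with e | e | e | e
    · exact absurd (by rw [mul_inv_eq_one, mul_eq_left] at e; exact e) zne
    · exact absurd e hzmove
    · exact Or.inl e
    · exact Or.inr e
  -- choose the direction
  obtain ⟨e, he3, heN, hed, hez, heu⟩ : ∃ e : G, e ^ 3 = 1 ∧ Norms mu s tau e ∧ e * d = d * e ∧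
      e * z * e⁻¹ = s ∧ e * u.1 * e⁻¹ = u.1 := by
    rcases hzimg with e | e
    · exact ⟨n, hn3, n.2, hnd, e, hnu'⟩
    · have hn2 : (n : G)⁻¹ = (n : G) * (n : G) := inv_eq_of_mul_eq_one_right (by
        rw [← mul_assoc, ← pow_two, ← pow_succ, hn3])
      refine ⟨(n : G)⁻¹, by rw [inv_pow, hn3, inv_one], Norms.inv n.2,
        (Commute.inv_left hnd).eq, ?_, by rw [inv_inv]; exact conj_one_conj hnu'⟩
      rw [hn2, show (n : G) * n * z * ((n : G) * n)⁻¹ = n * ((n : G) * z * (n : G)⁻¹) * (n : G)⁻¹ by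
        group, e]
      have hdsz : d * (s * z) * d⁻¹ = s * z := by
        rw [show d * (s * z) * d⁻¹ = (d * s * d⁻¹) * (d * z * d⁻¹) by group, hsd, hdz]
      rcases centd _ (n.2 _ msz) (himg _ hdsz) with e' | e' | e' | e'
      · exfalso
        rw [mul_inv_eq_one, mul_eq_left] at e'
        apply hzmove
        rw [e, e']
        exact absurd e' (fun h => by
          have : s = z := by rw [← mul_one s, ← R.zz, ← mul_assoc, h, one_mul]
          rw [show s = hEv mu s tau (1, true, false) by simp [hEv_def], ← hv.2.1, C.hEv_eq] at this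
          revert this; decide +kernel)
      · -- `n` would interchange `z` and `s z`
        exfalso
        apply hzmove
        have h4 : (n : G) ^ 3 * z * ((n : G) ^ 3)⁻¹ = s * z := by
          rw [show (n : G) ^ 3 * z * ((n : G) ^ 3)⁻¹ =
            (n : G) * ((n : G) * ((n : G) * z * (n : G)⁻¹) * (n : G)⁻¹) * (n : G)⁻¹ by
              rw [pow_succ, pow_two]; group, e, e', e]
        rw [hn3] at h4
        simp only [one_mul, inv_one, mul_one] at h4
        rw [e, ← h4]
      · exact e'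
      · exfalso
        have : (n : G) * z * (n : G)⁻¹ = (n : G) * (s * z) * (n : G)⁻¹ := e.trans e'.symm
        have := mul_left_cancel (mul_right_cancel this)
        rw [← this] at e
        exact hzmove e
  have hes : e * s * e⁻¹ = s * z := by
    have hdsz : d * (s * z) * d⁻¹ = s * z := by
      rw [show d * (s * z) * d⁻¹ = (d * s * d⁻¹) * (d * z * d⁻¹) by group, hsd, hdz]
    have himg' : d * (e * s * e⁻¹) * d⁻¹ = e * s * e⁻¹ := by
      calc d * (e * s * e⁻¹) * d⁻¹ = (d * e) * s * (d * e)⁻¹ := by group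
        _ = (e * d) * s * (e * d)⁻¹ := by rw [hed]
        _ = e * (d * s * d⁻¹) * e⁻¹ := by group
        _ = _ := by rw [hsd]
    have hsne : s ≠ 1 ∧ s ≠ z := by
      rw [show s = hEv mu s tau (1, true, false) by simp [hEv_def], ← hv.1, ← hv.2.1, Ne, Ne,
        C.hEv_eq, C.hEv_eq]
      decide +kernel
    rcases centd _ (heN _ ms) himg' with e' | e' | e' | e'
    · rw [mul_inv_eq_one, mul_eq_left] at e'; exact absurd e' hsne.1
    · exfalso
      have h4 : e ^ 3 * z * (e ^ 3)⁻¹ = s := by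
        rw [show e ^ 3 * z * (e ^ 3)⁻¹ = e * (e * (e * z * e⁻¹) * e⁻¹) * e⁻¹ by
          rw [pow_succ, pow_two]; group, hez, e', hez]
      rw [he3] at h4
      simp only [one_mul, inv_one, mul_one] at h4
      exact hsne.2 h4.symm
    · exact absurd (mul_left_cancel (mul_right_cancel (e'.trans hez.symm))) hsne.2
    · exact e'
  refine ⟨e, he3, heN, hed, hez, hes, ?_⟩
  -- `e` is conjugate to a power of `d`
  obtain ⟨g', hg', hg'z⟩ := exists_move C u.1 u.2.1 u.2.2
  set e1 := g'⁻¹ * e * g' with he1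
  have e13 : e1 ^ 3 = 1 := by
    rw [he1, show g'⁻¹ * e * g' = g'⁻¹ * e * g'⁻¹⁻¹ by rw [inv_inv], conj_pow, he3]; simp
  have e1N : Norms mu s tau e1 := Norms.mul (Norms.mul (Norms.inv hg') heN) hg'
  have e1z : e1 * z = z * e1 := by
    rw [he1, ← mul_inv_eq_iff_eq_mul, show g'⁻¹ * e * g' * z * (g'⁻¹ * e * g')⁻¹ =
      g'⁻¹ * (e * (g' * z * g'⁻¹) * e⁻¹) * g' by group, hg'z, heu, conj_one_conj hg'z]
  have e11 : e1 ≠ 1 := by
    intro h
    have : e = 1 := by
      have := congrArg (fun w => g' * w * g'⁻¹) h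
      simpa [he1, mul_assoc] using this
    rw [this] at hez
    simp only [one_mul, inv_one, mul_one] at hez
    rw [hez] at s0
    exact absurd ((C.hEv_eq _ _).mp (s0.trans s1.symm)) (by decide +kernel)
  obtain ⟨⟨a, b⟩, hab⟩ : e1 ∈ mu.range := by
    obtain ⟨⟨k, a, b⟩, hk⟩ := C.hEv_surj e1z
    have hsq : (hM (k, a, b) (k, a, b)).2 = (false, false) := by simp [hM, hMul]
    have h2 : e1 * e1 ∈ mu.range := by
      rw [hk, ← C.hEv_mul]
      generalize hM (k, a, b) (k, a, b) = r at hsq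
      obtain ⟨kk, x, y⟩ := r
      obtain ⟨rfl, rfl⟩ := Prod.mk.inj hsq
      exact ⟨kk, (C.hEv_zero kk).symm⟩
    have : e1 = (e1 * e1) ^ 2 := by
      rw [← pow_two, ← pow_mul, show 2 * 2 = 3 + 1 from rfl, pow_succ, e13, one_mul]
    rw [this]; exact pow_mem h2 2
  -- a second fixed element
  have hdu : e * (d * u.1 * d⁻¹) * e⁻¹ = d * u.1 * d⁻¹ := by
    calc e * (d * u.1 * d⁻¹) * e⁻¹ = (e * d) * u.1 * (e * d)⁻¹ := by group
      _ = (d * e) * u.1 * (d * e)⁻¹ := by rw [hed]
      _ = d * (e * u.1 * e⁻¹) * d⁻¹ := by group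
      _ = _ := by rw [heu]
  obtain ⟨i2, hi2⟩ := (Norms.inv hg') _ (hdN _ u.2.1)
  obtain ⟨p, q, k, hk⟩ := diag_three a b
    ((C.raw.mu_eq).mp (by rw [map_pow, map_one, hab, e13]))
    (fun h => e11 (by rw [← hab, C.raw.mu_eq.mpr h, map_one]))
    (fun i => by
      obtain ⟨l, hl⟩ := e1N _ ⟨i, rfl⟩
      exact ⟨l, (fConj_iff C).mpr (by rw [C.hEv_zero, hab]; exact hl.symm)⟩)
    (by
      refine ⟨i2, ?_, ?_, (fConj_iff C).mpr ?_⟩
      · intro h
        have := (C.hEv_eq _ _).mpr h
        rw [hv.1] at this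
        dsimp only at hi2
        rw [this, inv_inv] at hi2
        have h' := congrArg (fun w => d⁻¹ * (g' * w * g'⁻¹) * d) hi2
        simp [mul_assoc] at h'
        exact u.2.2 h'.symm
      · intro h
        have := (C.hEv_eq _ _).mpr h
        rw [hv.2.1] at this
        dsimp only at hi2
        rw [this, inv_inv] at hi2
        apply huS
        have h' : g' * z * g'⁻¹ = d * u.1 * d⁻¹ := by rw [hi2]; group
        exact h'.symm.trans hg'z
      · dsimp only at hi2
        rw [C.hEv_zero, hab, hi2, he1]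
        calc g'⁻¹ * e * g' * (g'⁻¹ * (d * u.1 * d⁻¹) * g'⁻¹⁻¹) * (g'⁻¹ * e * g')⁻¹
            = g'⁻¹ * (e * (d * u.1 * d⁻¹) * e⁻¹) * g'⁻¹⁻¹ := by group
          _ = _ := by rw [hdu])
  refine ⟨g' * mu (p, q), k.val + 1, by omega, ?_⟩
  have : e = g' * e1 * g'⁻¹ := by rw [he1]; group
  rw [this, ← hab, C.raw.mu_eq.mpr hk, hd, mul_inv_rev, ← map_pow,
    show ((p * sX ^ (k.val + 1) * p⁻¹, q * sX ^ (k.val + 1) * q⁻¹) : SL2 × SL2) =
      (p, q) * (sX, sX) ^ (k.val + 1) * (p, q)⁻¹ by simp [Prod.pow_mk], map_mul, map_mul, map_inv]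
  simp only [mul_assoc]

end H87.U43
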